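import Cfsg.Agent.Lib.Invol.L34Type.Scalar
import Cfsg.Agent.Lib.Coprime.Gaschutz
import Mathlib.LinearAlgebra.Matrix.GeneralLinearGroup.Defs
import Mathlib.GroupTheory.GroupAction.Quotient

/-!
# A normal self-centralising side gives an affine group

The first side becomes a plane over the field of four elements on which the whole group acts
linearly: either the centre of the Sylow subgroup is normal and a fixed point argument gives the
structure, or its conjugates form a spread.
-/

set_option autoImplicit false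
set_option linter.all false

namespace CfsgLib.Invol.L34Type

open Subgroup
open CfsgLib.Invol.HeisFour (V fm σ H4 mul_def one_def inv_def fm_add_left fm_add_right fm_zero_left fm_zero_right self_add v_cases)

/-! ### Arithmetic of the field of four elements -/

theorem fm_comm4 : ∀ a b : V, fm a b = fm b a := by decide +kernel

theorem fm_assoc4 : ∀ a b c : V, fm (fm a b) c = fm a (fm b c) := by decide +kernel

theorem fm_one4 : ∀ a : V, fm (1, 0) a = a ∧ fm a (1, 0) = a := by decide +kernel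

theorem σ_fm : ∀ a b : V, σ (fm a b) = fm (σ a) (σ b) := by decide +kernel

theorem fm_σ_self : ∀ l : V, l ≠ 0 → fm l (σ l) = (1, 0) := by decide +kernel

theorem fm_solve : ∀ a c : V, a ≠ 0 → ∃ b : V, fm a b = c := by decide +kernel

theorem omega_roots : ∀ l : V, fm l l + l + (1, 0) = 0 → l = (0, 1) ∨ l = (1, 1) := by decide +kernel

theorem twist_lin : ∀ u v : V, ∃ w : V, ∀ a : V, lin u v (fm (0, 1) a) + fm (0, 1) (lin u v a) = fm w (σ a) := by
  decide +kernel

theorem twist_semilinear {f : V → V} (hf : ∀ a b, f (a + b) = f a + f b) :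
    ∃ w : V, ∀ a, f (fm (0, 1) a) + fm (0, 1) (f a) = fm w (σ a) := by
  rw [eq_lin hf]; exact twist_lin _ _

/-- multiplication by `ω` -/
def sc (x : V × V) : V × V := (fm (0, 1) x.1, fm (0, 1) x.2)

/-- the candidate structures on the first side -/
def jay (u : V) (x : V × V) : V × V := (fm (0, 1) x.1, fm (0, 1) x.2 + fm u (σ x.1))

/-- the change of coordinates making a candidate standard -/
def kap (u : V) (x : V × V) : V × V := (x.1, x.2 + fm u (σ x.1))

theorem kap_add : ∀ u : V, ∀ x y : V × V, kap u (x + y) = kap u x + kap u y := by decide +kernel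

theorem kap_kap : ∀ u : V, ∀ x : V × V, kap u (kap u x) = x := by decide +kernel

theorem kap_jay : ∀ u : V, ∀ x : V × V, kap u (jay u x) = sc (kap u x) := by decide +kernel

theorem jay_cube : ∀ u : V, ∀ x : V × V, jay u (jay u (jay u (jay u x))) = jay u x := by decide +kernel

theorem jay_sum : ∀ u : V, ∀ x : V × V, jay u (jay u x) + jay u x + x = 0 := by decide +kernel

theorem jay_add : ∀ u : V, ∀ x y : V × V, jay u (x + y) = jay u x + jay u y := by decide +kernel

theorem jay_shift : ∀ u b : V, ∀ x : V × V,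
    jay u (x.1, x.2 + fm x.1 b) = ((jay u x).1, (jay u x).2 + fm (jay u x).1 b) := by decide +kernel

theorem jay_inj : ∀ u v : V, (∀ x, jay u x = jay v x) → u = v := by decide +kernel

section

variable {G : Type*} [Group G] (F : Frame G)

/-- coordinates on the first side -/
def Frame.embA (x : V × V) : G := F.hom ⟨x.1, 0, x.2⟩

theorem Frame.embA_add (x y : V × V) : F.embA (x + y) = F.embA x * F.embA y := by
  rw [Frame.embA, Frame.embA, Frame.embA, ← map_mul, mul_def]
  congr 1
  refine CfsgLib.Invol.HeisFour.H4.ext' rfl (add_zero _).symm ?_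
  show x.2 + y.2 = x.2 + y.2 + fm x.1 0
  rw [fm_zero_right, add_zero]

theorem Frame.embA_mem (x : V × V) : F.embA x ∈ F.A := F.hom_mem_A.2 rfl

theorem Frame.embA_injective : Function.Injective F.embA := fun x y h => by
  have h' := F.hom_injective h
  simp only [H4.mk.injEq] at h'
  exact Prod.ext h'.1 h'.2.2

theorem Frame.exists_embA {g : G} (hg : g ∈ F.A) : ∃ x, F.embA x = g := by
  obtain ⟨p, hp, rfl⟩ := hg
  exact ⟨(p.a, p.c), congrArg F.hom (CfsgLib.Invol.HeisFour.H4.ext' rfl (show (0 : V) = p.b from hp.symm) rfl)⟩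

theorem Frame.embA_mem_Z {x : V × V} : F.embA x ∈ F.Z ↔ x.1 = 0 :=
  F.hom_mem_Z.trans ⟨fun h => h.2, fun h => ⟨rfl, h⟩⟩

theorem Frame.embA_zero : F.embA 0 = 1 := map_one F.hom

theorem Frame.exists_act (hA : F.A.Normal) (g : G) (x : V × V) : ∃ y, F.embA y = g * F.embA x * g⁻¹ :=
  F.exists_embA (hA.conj_mem _ (F.embA_mem x) g)

/-- the action of the group on the coordinates of the first side -/
noncomputable def Frame.act (hA : F.A.Normal) (g : G) (x : V × V) : V × V := (F.exists_act hA g x).choose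

variable (hA : F.A.Normal)

theorem Frame.embA_act (g : G) (x : V × V) : F.embA (F.act hA g x) = g * F.embA x * g⁻¹ :=
  (F.exists_act hA g x).choose_spec

theorem Frame.act_mul (g h : G) (x : V × V) : F.act hA (g * h) x = F.act hA g (F.act hA h x) :=
  F.embA_injective (by rw [F.embA_act, F.embA_act, F.embA_act]; group)

theorem Frame.act_one (x : V × V) : F.act hA 1 x = x :=
  F.embA_injective (by rw [F.embA_act]; group)

theorem Frame.act_add (g : G) (x y : V × V) : F.act hA g (x + y) = F.act hA g x + F.act hA g y :=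
  F.embA_injective (by rw [F.embA_add, F.embA_act, F.embA_act, F.embA_act, F.embA_add]; group)

theorem Frame.act_zero (g : G) : F.act hA g 0 = 0 :=
  F.embA_injective (by rw [F.embA_act, F.embA_zero]; group)

theorem Frame.act_inv_act (g : G) (x : V × V) : F.act hA g⁻¹ (F.act hA g x) = x := by
  rw [← F.act_mul, inv_mul_cancel, F.act_one]

theorem Frame.act_act_inv (g : G) (x : V × V) : F.act hA g (F.act hA g⁻¹ x) = x := by
  rw [← F.act_mul, mul_inv_cancel, F.act_one]

theorem Frame.act_hom (p : H4) (x : V × V) : F.act hA (F.hom p) x = (x.1, x.2 + fm x.1 p.b) :=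
  F.embA_injective (by
    rw [F.embA_act, Frame.embA, F.hom_conj, conj_subA ⟨x.1, 0, x.2⟩ rfl p]
    rfl)

theorem Frame.act_jay_of_mem {t : G} (ht : t ∈ (F.T : Subgroup G)) (u : V) (x : V × V) :
    F.act hA t (jay u x) = jay u (F.act hA t x) := by
  obtain ⟨p, rfl⟩ := F.exists_of_mem ht
  rw [F.act_hom, F.act_hom, jay_shift]

/-- elements of the normaliser of the centre preserve its coordinates -/
theorem Frame.act_fst_zero {g : G} (hg : g ∈ normalizer (F.Z : Set G)) {x : V × V} (hx : x.1 = 0) :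
    (F.act hA g x).1 = 0 := by
  rw [← F.embA_mem_Z, F.embA_act]
  exact (mem_normalizer_iff.1 hg _).1 (F.embA_mem_Z.2 hx)

theorem Frame.act_fst (hZ : normalizer (F.Z : Set G) = ⊤) (g : G) (x : V × V) :
    (F.act hA g x).1 = (F.act hA g (x.1, 0)).1 := by
  conv_lhs => rw [show x = (x.1, 0) + (0, x.2) by simp, F.act_add]
  rw [Prod.fst_add, F.act_fst_zero hA (g := g) (by rw [hZ]; trivial) (x := (0, x.2)) rfl, add_zero]

variable [Finite G]

theorem Frame.odd_index : Odd (F.T : Subgroup G).index := by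
  haveI : Fact (Nat.Prime 2) := ⟨Nat.prime_two⟩
  exact Nat.odd_iff.2 (Nat.two_dvd_ne_zero.1 F.T.not_dvd_index)

/-- the case of a normal centre -/
theorem Frame.exists_jay_normal (hZ : normalizer (F.Z : Set G) = ⊤) :
    ∃ u : V, ∀ g x, F.act hA g (jay u x) = jay u (F.act hA g x) := by
  classical
  obtain ⟨L, hL⟩ : ∃ L : G → V → V, L = fun g a => (F.act hA g (a, 0)).1 := ⟨_, rfl⟩
  obtain ⟨N, hN⟩ : ∃ N : G → V → V, N = fun g c => (F.act hA g (0, c)).2 := ⟨_, rfl⟩
  obtain ⟨P, hP⟩ : ∃ P : G → V → V, P = fun g a => (F.act hA g (a, 0)).2 := ⟨_, rfl⟩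
  have hzero : ∀ g (c : V), (F.act hA g (0, c)).1 = 0 := fun g c => F.act_fst_zero hA (by rw [hZ]; trivial) rfl
  have hact : ∀ g (x : V × V), F.act hA g x = (L g x.1, N g x.2 + P g x.1) := fun g x => by
    conv_lhs => rw [show x = (0, x.2) + (x.1, 0) by simp, F.act_add]
    rw [hL, hN, hP]
    refine Prod.ext ?_ rfl
    rw [Prod.fst_add, hzero, zero_add]
  have hLadd : ∀ g a b, L g (a + b) = L g a + L g b := fun g a b => by
    rw [hL]; show (F.act hA g (a + b, 0)).1 = _
    rw [show ((a + b, 0) : V × V) = (a, 0) + (b, 0) by simp, F.act_add, Prod.fst_add]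
  have hNadd : ∀ g a b, N g (a + b) = N g a + N g b := fun g a b => by
    rw [hN]; show (F.act hA g (0, a + b)).2 = _
    rw [show ((0, a + b) : V × V) = (0, a) + (0, b) by simp, F.act_add, Prod.snd_add]
  have hPadd : ∀ g a b, P g (a + b) = P g a + P g b := fun g a b => by
    rw [hP]; show (F.act hA g (a + b, 0)).2 = _
    rw [show ((a + b, 0) : V × V) = (a, 0) + (b, 0) by simp, F.act_add, Prod.snd_add]
  have hP0 : ∀ g, P g 0 = 0 := fun g => by simpa using hPadd g 0 0
  have hL0 : ∀ g, L g 0 = 0 := fun g => by simpa using hLadd g 0 0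
  let φ : G →* (Function.End V × Function.End V) :=
    { toFun := fun g => (L g, N g)
      map_one' := Prod.ext (funext fun a => by rw [hL]; show (F.act hA 1 (a, 0)).1 = a; rw [F.act_one])
        (funext fun a => by rw [hN]; show (F.act hA 1 (0, a)).2 = a; rw [F.act_one])
      map_mul' := fun g h => Prod.ext
        (funext fun a => by
          have e := congrArg Prod.fst (F.act_mul hA g h (a, 0))
          rw [hact, hact g, hact h] at e
          exact e)
        (funext fun a => by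
          have e := congrArg Prod.snd (F.act_mul hA g h (0, a))
          rw [hact, hact g, hact h] at e
          simp only [hP0, hL0, add_zero] at e
          exact e) }
  have hTker : (F.T : Subgroup G) ≤ φ.ker := fun t ht => by
    obtain ⟨p, rfl⟩ := F.exists_of_mem ht
    refine MonoidHom.mem_ker.2 (Prod.ext (funext fun a => ?_) (funext fun a => ?_))
    · show L (F.hom p) a = a
      rw [hL]; show (F.act hA (F.hom p) (a, 0)).1 = a; rw [F.act_hom]
    · show N (F.hom p) a = a
      rw [hN]; show (F.act hA (F.hom p) (0, a)).2 = a; rw [F.act_hom, fm_zero_left, add_zero]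
  have hodd : Odd φ.ker.index := Odd.of_dvd_nat F.odd_index (index_dvd_of_le hTker)
  have hscal : ∀ g, ∃ l n : V, l ≠ 0 ∧ n ≠ 0 ∧ (∀ a, L g a = fm l a) ∧ ∀ a, N g a = fm n a := fun g => by
    have h1 : φ g ^ φ.ker.index = 1 := by rw [← map_pow]; exact MonoidHom.mem_ker.1 (φ.ker.pow_index_mem g)
    have hit : ∀ (f : Function.End V) (k : ℕ) (a : V), (f ^ k) a = f^[k] a := fun f k => by
      induction k with
      | zero => exact fun a => rfl
      | succ k ih => intro a; rw [pow_succ]; show (f ^ k) (f a) = f^[k] (f a); exact ih (f a)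
    obtain ⟨l, hl0, hl⟩ := scalar_of_periodic (hLadd g) hodd fun a => by
      have := congrFun (congrArg Prod.fst h1) a
      rw [Prod.pow_fst, hit] at this
      exact this
    obtain ⟨n, hn0, hn⟩ := scalar_of_periodic (hNadd g) hodd fun a => by
      have := congrFun (congrArg Prod.snd h1) a
      rw [Prod.pow_snd, hit] at this
      exact this
    exact ⟨l, n, hl0, hn0, hl, hn⟩
  have hex : ∀ g u, ∃ v, ∀ x, F.act hA g (jay u x) = jay v (F.act hA g x) := fun g u => by
    obtain ⟨l, n, hl0, -, hl, hn⟩ := hscal g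
    obtain ⟨β, hβ⟩ := twist_semilinear (hPadd g)
    refine ⟨fm (fm n u + β) l, fun x => ?_⟩
    rw [hact, hact g x, jay, jay]
    refine Prod.ext ?_ ?_
    · show L g (fm (0, 1) x.1) = fm (0, 1) (L g x.1)
      rw [hl, hl, ← fm_assoc4, fm_comm4 l, fm_assoc4]
    · show N g (fm (0, 1) x.2 + fm u (σ x.1)) + P g (fm (0, 1) x.1) =
        fm (0, 1) (N g x.2 + P g x.1) + fm (fm (fm n u + β) l) (σ (L g x.1))
      rw [hl, σ_fm, fm_assoc4 _ l, ← fm_assoc4 l, fm_σ_self l hl0, (fm_one4 _).1, fm_add_left, fm_add_right,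
        hNadd, hn, hn, hn, ← hβ x.1, ← fm_assoc4 n u, ← fm_assoc4 n, fm_comm4 n (0, 1), fm_assoc4]
      rw [show ∀ a b c d : V, fm (0, 1) a + fm (0, 1) b + (c + (d + fm (0, 1) b)) =
        fm (0, 1) a + c + d + (fm (0, 1) b + fm (0, 1) b) from fun a b c d => by abel, self_add, add_zero]
  choose v hv using hex
  have hv1 : ∀ u, v 1 u = u := fun u => (jay_inj _ _ fun x => by
    have := hv 1 u x
    rwa [F.act_one, F.act_one] at this).symm
  have hvm : ∀ g h u, v (g * h) u = v g (v h u) := fun g h u => (jay_inj _ _ fun x => by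
    obtain ⟨x, rfl⟩ : ∃ z, F.act hA (g * h) z = x := ⟨_, F.act_act_inv hA (g * h) x⟩
    have e := hv (g * h) u x
    rw [F.act_mul, hv h u, hv g, ← F.act_mul] at e
    exact e).symm
  letI : MulAction G V := { smul := v, one_smul := hv1, mul_smul := hvm }
  have hstab : ∀ u : V, Odd (Nat.card (MulAction.orbit G u)) := fun u => by
    refine Odd.of_dvd_nat F.odd_index ?_
    rw [Nat.card_congr (MulAction.orbitEquivQuotientStabilizer G u)]
    refine index_dvd_of_le fun t ht => MulAction.mem_stabilizer_iff.2 ?_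
    show v t u = u
    refine (jay_inj _ _ fun x => ?_).symm
    obtain ⟨x, rfl⟩ : ∃ z, F.act hA t z = x := ⟨_, F.act_act_inv hA t x⟩
    rw [← F.act_jay_of_mem hA ht, hv]
  obtain ⟨u, hu⟩ : ∃ u : V, ∀ g : G, v g u = u := by
    by_contra hno
    push Not at hno
    have hV : Nat.card V = 4 := by simp
    have h3 : ∀ u : V, 3 ≤ Nat.card (MulAction.orbit G u) := fun u => by
      obtain ⟨g, hg⟩ := hno u
      have h1 : 1 < Nat.card (MulAction.orbit G u) := by
        rw [Finite.one_lt_card_iff_nontrivial]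
        exact ⟨⟨v g u, ⟨g, rfl⟩⟩, ⟨u, MulAction.mem_orbit_self u⟩, fun e => hg (congrArg Subtype.val e)⟩
      obtain ⟨k, hk⟩ := hstab u
      omega
    obtain ⟨w, hw⟩ : ∃ w, w ∉ MulAction.orbit G (0 : V) := by
      by_contra hall
      push Not at hall
      have : Nat.card (MulAction.orbit G (0 : V)) = 4 := by
        rw [Set.eq_univ_of_forall hall, Nat.card_congr (Equiv.Set.univ V), hV]
      obtain ⟨k, hk⟩ := hstab 0
      omega
    have hd : Disjoint (MulAction.orbit G w) (MulAction.orbit G (0 : V)) := Set.disjoint_left.2 fun z hz hz0 => hw (by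
      rw [← MulAction.orbit_eq_iff.2 hz0, MulAction.orbit_eq_iff.2 hz]; exact MulAction.mem_orbit_self w)
    have h := Set.ncard_union_eq hd (Set.toFinite _) (Set.toFinite _)
    have hle := Set.ncard_le_card (MulAction.orbit G w ∪ MulAction.orbit G (0 : V))
    rw [h, hV, ← Nat.card_coe_set_eq, ← Nat.card_coe_set_eq] at hle
    have := h3 w
    have := h3 0
    omega
  exact ⟨u, fun g x => by rw [hv g u x, hu g]⟩

/-- the case of a centre moved by the group -/
theorem Frame.exists_jay_spread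
    (hTI : ∀ g z : G, z ∈ F.Z → z ≠ 1 → g * z * g⁻¹ ∈ F.Z → g ∈ normalizer (F.Z : Set G))
    {g₀ : G} (hg₀ : g₀ ∉ normalizer (F.Z : Set G)) :
    ∃ u : V, ∀ g x, F.act hA g (jay u x) = jay u (F.act hA g x) := by
  classical
  -- membership in the conjugates of the centre
  obtain ⟨Ln, hLn⟩ : ∃ Ln : G → V × V → Prop, Ln = fun h x => (F.act hA h⁻¹ x).1 = 0 := ⟨_, rfl⟩
  have hLmul : ∀ g h x, Ln h x → Ln (g * h) (F.act hA g x) := fun g h x hx => by
    subst hLn
    show (F.act hA (g * h)⁻¹ (F.act hA g x)).1 = 0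
    rw [_root_.mul_inv_rev, F.act_mul, F.act_inv_act]
    exact hx
  have hti : ∀ h k x, x ≠ 0 → Ln h x → Ln k x → ∀ y, Ln h y → Ln k y := fun h k x hx0 hh hk y hy => by
    subst hLn
    have hn : k⁻¹ * h ∈ normalizer (F.Z : Set G) := by
      refine hTI _ (F.embA (F.act hA h⁻¹ x)) (F.embA_mem_Z.2 hh) (fun e => hx0 ?_) ?_
      · rw [← F.embA_zero] at e
        rw [← F.act_act_inv hA h x, F.embA_injective e, F.act_zero]
      · rw [← F.embA_act hA, ← F.act_mul, mul_inv_cancel_right]
        exact F.embA_mem_Z.2 hk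
    have := F.act_fst_zero hA hn hy
    rwa [← F.act_mul, mul_inv_cancel_right] at this
  -- one further conjugate as a graph
  obtain ⟨π, hπ⟩ : ∃ π : V → V, π = fun c => (F.act hA g₀ (0, c)).1 := ⟨_, rfl⟩
  have hπadd : ∀ a b, π (a + b) = π a + π b := fun a b => by
    rw [hπ]; show (F.act hA g₀ (0, a + b)).1 = _
    rw [show ((0, a + b) : V × V) = (0, a) + (0, b) by simp, F.act_add, Prod.fst_add]
  have hπ0 : ∀ c, π c = 0 → c = 0 := fun c hc => by
    by_contra hne
    refine hg₀ (hTI g₀ (F.embA (0, c)) (F.embA_mem_Z.2 rfl) (fun e => hne ?_) ?_)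
    · rw [← F.embA_zero] at e
      exact congrArg Prod.snd (F.embA_injective e)
    · rw [← F.embA_act hA, F.embA_mem_Z]
      rw [hπ] at hc
      exact hc
  have hπinj : Function.Injective π := fun a b e => by
    have := hπ0 (a + b) (by rw [hπadd, e, self_add])
    calc a = a + (b + b) := by rw [self_add, add_zero]
      _ = (a + b) + b := by abel
      _ = b := by rw [this, zero_add]
  have hπsurj : Function.Surjective π := Finite.injective_iff_surjective.1 hπinj
  choose ρ hρ using hπsurj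
  obtain ⟨θ, hθ⟩ : ∃ θ : V → V, θ = fun a => (F.act hA g₀ (0, ρ a)).2 := ⟨_, rfl⟩
  have hρadd : ∀ a b, ρ (a + b) = ρ a + ρ b := fun a b => hπinj (by rw [hπadd, hρ, hρ, hρ])
  have hθadd : ∀ a b, θ (a + b) = θ a + θ b := fun a b => by
    rw [hθ]; show (F.act hA g₀ (0, ρ (a + b))).2 = _
    rw [hρadd, show ((0, ρ a + ρ b) : V × V) = (0, ρ a) + (0, ρ b) by simp, F.act_add, Prod.snd_add]
  have hθ0 : θ 0 = 0 := by simpa using hθadd 0 0
  have hW : ∀ x, Ln g₀ x ↔ x.2 = θ x.1 := fun x => by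
    have hpt : ∀ a, F.act hA g₀ (0, ρ a) = (a, θ a) := fun a => by
      refine Prod.ext ?_ ?_
      · have := hρ a; rw [hπ] at this; exact this
      · rw [hθ]
    subst hLn
    constructor
    · intro hx
      have e : x = F.act hA g₀ (0, (F.act hA g₀⁻¹ x).2) := by
        rw [show ((0, (F.act hA g₀⁻¹ x).2) : V × V) = F.act hA g₀⁻¹ x from Prod.ext hx.symm rfl, F.act_act_inv]
      obtain ⟨c, hc⟩ : ∃ c, c = (F.act hA g₀⁻¹ x).2 := ⟨_, rfl⟩
      rw [← hc] at e
      have hcρ : c = ρ x.1 := hπinj (by rw [hρ, hπ]; show (F.act hA g₀ (0, c)).1 = x.1; rw [← e])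
      rw [e, hcρ, hpt]
    · intro hx
      show (F.act hA g₀⁻¹ x).1 = 0
      rw [show x = (x.1, θ x.1) from Prod.ext rfl hx, ← hpt, F.act_inv_act]
  obtain ⟨tb, htb⟩ : ∃ tb : V → G, tb = fun b => F.hom ⟨0, b, 0⟩ := ⟨_, rfl⟩
  have htbact : ∀ b x, F.act hA (tb b) x = (x.1, x.2 + fm x.1 b) := fun b x => by rw [htb, F.act_hom]
  have hWb : ∀ b x, Ln (tb b * g₀) x ↔ x.2 = θ x.1 + fm x.1 b := fun b x => by
    have e : x = F.act hA (tb b) (x.1, x.2 + fm x.1 b) := by
      rw [htbact]; refine Prod.ext rfl ?_; show x.2 = x.2 + fm x.1 b + fm x.1 b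
      rw [add_assoc, self_add, add_zero]
    have h1 : Ln (tb b * g₀) x ↔ Ln g₀ (x.1, x.2 + fm x.1 b) := by
      subst hLn
      show (F.act hA (tb b * g₀)⁻¹ x).1 = 0 ↔ (F.act hA g₀⁻¹ (x.1, x.2 + fm x.1 b)).1 = 0
      conv_lhs => rw [_root_.mul_inv_rev, F.act_mul, e, F.act_inv_act]
    rw [h1, hW]
    constructor
    · intro h
      calc x.2 = x.2 + fm x.1 b + fm x.1 b := by rw [add_assoc, self_add, add_zero]
        _ = _ := by rw [show x.2 + fm x.1 b = θ x.1 from h]
    · intro h
      show x.2 + fm x.1 b = θ x.1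
      rw [h, add_assoc, self_add, add_zero]
  have hZ1 : ∀ x, Ln 1 x ↔ x.1 = 0 := fun x => by subst hLn; show (F.act hA 1⁻¹ x).1 = 0 ↔ _; rw [inv_one, F.act_one]
  obtain ⟨u, hu⟩ := twist_semilinear hθadd
  have hjay : ∀ x : V × V, jay u x = (fm (0, 1) x.1, fm (0, 1) (x.2 + θ x.1) + θ (fm (0, 1) x.1)) := fun x => by
    rw [jay, ← hu, fm_add_right]
    refine Prod.ext rfl ?_
    show fm (0, 1) x.2 + (θ (fm (0, 1) x.1) + fm (0, 1) (θ x.1)) = _
    abel
  have hJpres : ∀ h x, Ln h x → Ln h (jay u x) := fun h x hx => by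
    by_cases hx0 : x = 0
    · subst hx0
      rwa [show jay u (0 : V × V) = 0 by simpa using jay_add u 0 0]
    by_cases ha : x.1 = 0
    · refine hti 1 h x hx0 ((hZ1 x).2 ha) hx _ ((hZ1 _).2 ?_)
      show fm (0, 1) x.1 = 0
      rw [ha, fm_zero_right]
    · obtain ⟨b, hb⟩ := fm_solve x.1 (x.2 + θ x.1) ha
      have hxb : x.2 = θ x.1 + fm x.1 b := by
        rw [hb, show θ x.1 + (x.2 + θ x.1) = x.2 + (θ x.1 + θ x.1) by abel, self_add, add_zero]
      refine hti (tb b * g₀) h x hx0 ((hWb b x).2 hxb) hx _ ((hWb b _).2 ?_)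
      rw [hjay]
      show fm (0, 1) (x.2 + θ x.1) + θ (fm (0, 1) x.1) = θ (fm (0, 1) x.1) + fm (fm (0, 1) x.1) b
      rw [fm_assoc4, hb, add_comm]
  -- every element commutes with the structure or inverts it
  have hpm : ∀ g, (∀ x, F.act hA g (jay u x) = jay u (F.act hA g x)) ∨
      ∀ x, F.act hA g (jay u x) = jay u (jay u (F.act hA g x)) := fun g => by
    obtain ⟨J', hJ'⟩ : ∃ J' : V × V → V × V, J' = fun x => F.act hA g (jay u (F.act hA g⁻¹ x)) := ⟨_, rfl⟩
    have hJadd : ∀ x y, J' (x + y) = J' x + J' y := fun x y => by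
      subst hJ'
      show F.act hA g (jay u (F.act hA g⁻¹ (x + y))) = _
      rw [F.act_add, jay_add, F.act_add]
    have hJp : ∀ h x, Ln h x → Ln h (J' x) := fun h x hx => by
      have := hLmul g (g⁻¹ * h) _ (hJpres _ _ (hLmul g⁻¹ h x hx))
      rw [mul_inv_cancel_left] at this
      rw [hJ']
      exact this
    have hJZ : ∀ c, (J' (0, c)).1 = 0 := fun c => (hZ1 _).1 (hJp 1 _ ((hZ1 _).2 rfl))
    obtain ⟨α, hα⟩ : ∃ α : V → V, α = fun a => (J' (a, θ a)).1 := ⟨_, rfl⟩
    obtain ⟨γ, hγ⟩ : ∃ γ : V → V, γ = fun c => (J' (0, c)).2 := ⟨_, rfl⟩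
    have hb0 : ∀ a, (J' (a, θ a)).2 = θ (α a) := fun a => by
      rw [hα]
      refine (hW _).1 (hJp g₀ _ ((hW _).2 rfl))
    have hform : ∀ x, J' x = (α x.1, θ (α x.1) + γ (x.2 + θ x.1)) := fun x => by
      conv_lhs => rw [show x = (x.1, θ x.1) + (0, x.2 + θ x.1) from Prod.ext (add_zero _).symm (by
        show x.2 = θ x.1 + (x.2 + θ x.1)
        rw [show θ x.1 + (x.2 + θ x.1) = x.2 + (θ x.1 + θ x.1) by abel, self_add, add_zero]), hJadd]
      refine Prod.ext ?_ ?_
      · rw [Prod.fst_add, hJZ, add_zero, hα]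
      · rw [Prod.snd_add, hb0, hγ]
    have hkey : ∀ a b, γ (fm a b) = fm (α a) b := fun a b => by
      have h := (hWb b _).1 (hJp (tb b * g₀) _ ((hWb b (a, θ a + fm a b)).2 rfl))
      rw [hform] at h
      have e : θ a + fm a b + θ a = fm a b := by
        rw [show θ a + fm a b + θ a = fm a b + (θ a + θ a) by abel, self_add, add_zero]
      simp only [e] at h
      exact add_left_cancel h
    obtain ⟨l, hl⟩ : ∃ l, l = α (1, 0) := ⟨_, rfl⟩
    have hγl : ∀ c, γ c = fm l c := fun c => by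
      conv_lhs => rw [← (fm_one4 c).1]
      rw [hkey, hl]
    have hαl : ∀ a, α a = fm l a := fun a => by
      rw [← hγl, ← (fm_one4 (α a)).2, ← hkey, (fm_one4 a).2]
    have hsum : ∀ x, J' (J' x) + J' x + x = 0 := fun x => by
      have := congrArg (F.act hA g) (jay_sum u (F.act hA g⁻¹ x))
      rw [F.act_add, F.act_add, F.act_act_inv, F.act_zero] at this
      subst hJ'
      show F.act hA g (jay u (F.act hA g⁻¹ (F.act hA g (jay u (F.act hA g⁻¹ x))))) +
        F.act hA g (jay u (F.act hA g⁻¹ x)) + x = 0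
      rw [F.act_inv_act]
      exact this
    have hl2 : fm l l + l + (1, 0) = 0 := by
      have := congrArg Prod.fst (hsum ((1, 0), 0))
      rw [hform (J' ((1, 0), 0)), hform ((1, 0), 0)] at this
      simpa [hαl, (fm_one4 _).2, Prod.fst_add] using this
    have hfin : ∀ x, F.act hA g (jay u x) = J' (F.act hA g x) := fun x => by
      rw [hJ']; show _ = F.act hA g (jay u (F.act hA g⁻¹ (F.act hA g x))); rw [F.act_inv_act]
    rcases omega_roots l hl2 with e | e
    · left
      intro x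
      rw [hfin, hform, hjay, hαl, hγl, e]
      exact Prod.ext rfl (add_comm _ _)
    · right
      intro x
      rw [hfin, hform, hjay (jay u _), hjay (F.act hA g x), hαl, hγl, e]
      have hw : ∀ a : V, fm (1, 1) a = fm (0, 1) (fm (0, 1) a) := by decide +kernel
      refine Prod.ext (hw _) ?_
      show θ (fm (1, 1) _) + fm (1, 1) _ = fm (0, 1) (fm (0, 1) _ + θ _ + θ _) + θ _
      rw [add_assoc (fm (0, 1) _), self_add, add_zero, hw, hw]
      exact add_comm _ _
  obtain ⟨C, hC⟩ : ∃ C : Subgroup G, ∀ g, g ∈ C ↔ ∀ x, F.act hA g (jay u x) = jay u (F.act hA g x) :=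
    ⟨{ carrier := {g | ∀ x, F.act hA g (jay u x) = jay u (F.act hA g x)}
       mul_mem' := fun {a b} ha hb x => by rw [F.act_mul, hb, ha, F.act_mul]
       one_mem' := fun x => by rw [F.act_one, F.act_one]
       inv_mem' := fun {a} ha x => by
         conv_lhs => rw [← F.act_act_inv hA a x, ← ha, F.act_inv_act] }, fun g => Iff.rfl⟩
  refine ⟨u, fun g => (hC g).1 ?_⟩
  by_contra hg
  have h2 : C.index = 2 := index_eq_two_iff.2 ⟨g, fun b => by
    by_cases hb : b ∈ C
    · exact Or.inr ⟨hb, fun h => hg ((C.mul_mem_cancel_left hb).1 h)⟩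
    · refine Or.inl ⟨(hC _).2 fun x => ?_, hb⟩
      have hbJ : ∀ x, F.act hA b (jay u x) = jay u (jay u (F.act hA b x)) :=
        (hpm b).resolve_left fun h => hb ((hC b).2 h)
      rw [F.act_mul, (hpm g).resolve_left (fun h => hg ((hC g).2 h)) x, hbJ, hbJ, jay_cube, ← F.act_mul]⟩
  have hodd : Odd C.index := Odd.of_dvd_nat F.odd_index
    (index_dvd_of_le fun t ht => (hC t).2 fun x => F.act_jay_of_mem hA ht u x)
  rw [h2] at hodd
  exact absurd hodd (by decide)

end

/-- additive maps commuting with `ω` are linear -/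
theorem linear_of_sc {L : V × V → V × V} (hadd : ∀ x y, L (x + y) = L x + L y) (hsc : ∀ x, L (sc x) = sc (L x))
    (x : V × V) :
    L x = (fm x.1 (L ((1, 0), 0)).1 + fm x.2 (L (0, (1, 0))).1, fm x.1 (L ((1, 0), 0)).2 + fm x.2 (L (0, (1, 0))).2) := by
  have hl : ∀ (l : V) (z : V × V), L (fm l z.1, fm l z.2) = (fm l (L z).1, fm l (L z).2) := fun l z => by
    have h0 : L 0 = 0 := by simpa using hadd 0 0
    rcases v_cases l with rfl | rfl | rfl | rfl
    · simp only [fm_zero_left]; exact h0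
    · simp only [(fm_one4 _).1]
    · exact hsc z
    · have := hadd z (sc z)
      rw [hsc] at this
      simp only [fm_add_left, (fm_one4 _).1]
      exact this
  conv_lhs => rw [show x = (fm x.1 ((1, 0) : V), fm x.1 (0 : V)) + (fm x.2 (0 : V), fm x.2 ((1, 0) : V)) from by
    simp [fm_zero_right, (fm_one4 _).2]]
  rw [hadd, hl x.1 ((1, 0), 0), hl x.2 (0, (1, 0))]
  rfl

/-- coordinates of the field of four elements -/
theorem exists_field_coords {K : Type*} [Field K] [Fintype K] (hK : Fintype.card K = 4) :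
    ∃ ψ : V → K, (∀ a b, ψ (a + b) = ψ a + ψ b) ∧ (∀ a b, ψ (fm a b) = ψ a * ψ b) ∧ ψ (1, 0) = 1 ∧
      ∀ a, ψ a = 0 → a = 0 := by
  classical
  haveI : Fact (Nat.Prime 2) := ⟨Nat.prime_two⟩
  haveI : CharP K 2 := charP_of_card_eq_prime_pow (f := 2) (by rw [hK]; rfl)
  obtain ⟨w, hw⟩ : ∃ w : K, w ∉ ({0, 1} : Finset K) := by
    by_contra h
    push Not at h
    have := Finset.card_le_card (fun x (_ : x ∈ (Finset.univ : Finset K)) => h x)
    rw [Finset.card_univ, hK] at this
    have h2 : ({0, 1} : Finset K).card ≤ 2 := Finset.card_le_two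
    omega
  simp only [Finset.mem_insert, Finset.mem_singleton, not_or] at hw
  obtain ⟨hw0, hw1⟩ := hw
  have hw2 : w * w = 1 + w := by
    have h3 : w ^ 4 = w := hK ▸ FiniteField.pow_card w
    have h4 : (w * (w - 1)) * (w * w + w + 1) = 0 := by linear_combination h3
    rcases mul_eq_zero.1 h4 with h | h
    · exact absurd h (mul_ne_zero hw0 (sub_ne_zero.2 hw1))
    · linear_combination h - CharTwo.add_self_eq_zero (1 : K) - CharTwo.add_self_eq_zero w
  obtain ⟨ψ, hψ⟩ : ∃ ψ : V → K, ψ = fun a => (a.1.val : K) + (a.2.val : K) * w := ⟨_, rfl⟩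
  have h2 : ∀ i j : ZMod 2, (((i + j).val : ℕ) : K) = (i.val : K) + (j.val : K) := fun i j => by
    rw [ZMod.val_add, ← Nat.cast_add]
    exact (CharP.cast_eq_mod K 2 _).symm
  have h3 : ∀ i j : ZMod 2, (((i * j).val : ℕ) : K) = (i.val : K) * (j.val : K) := fun i j => by
    rw [ZMod.val_mul, ← Nat.cast_mul]
    exact (CharP.cast_eq_mod K 2 _).symm
  have hadd : ∀ a b, ψ (a + b) = ψ a + ψ b := fun a b => by
    simp only [hψ, Prod.fst_add, Prod.snd_add, h2]
    ring
  refine ⟨ψ, hadd, fun a b => ?_, by simp [hψ, ZMod.val_one], fun a ha => ?_⟩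
  · simp only [hψ, fm, h2, h3]
    linear_combination -((a.2.val : K) * (b.2.val : K)) * hw2
  · by_contra hne
    rcases v_cases a with rfl | rfl | rfl | rfl
    · exact hne rfl
    · simp [hψ, ZMod.val_one] at ha
    · simp [hψ, ZMod.val_one] at ha; exact hw0 ha
    · simp [hψ, ZMod.val_one] at ha
      exact hw1 (by linear_combination ha - CharTwo.add_self_eq_zero (1 : K))

/-- a normal self-centralising side with trivially intersecting conjugates of the centre gives an affine group -/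
theorem exists_affine_embedding {G : Type*} [Group G] [Finite G] (F : Frame G) (hA : F.A.Normal)
    (hC : centralizer (F.A : Set G) = F.A)
    (hTI : ∀ g z : G, z ∈ F.Z → z ≠ 1 → g * z * g⁻¹ ∈ F.Z → g ∈ normalizer (F.Z : Set G))
    {K : Type*} [Field K] [Fintype K] (hK : Fintype.card K = 4) :
    ∃ f : G →* GL (Fin 3) K ⧸ Subgroup.center (GL (Fin 3) K), Function.Injective f := by
  classical
  obtain ⟨u, hu⟩ : ∃ u : V, ∀ g x, F.act hA g (jay u x) = jay u (F.act hA g x) := by
    by_cases hZ : normalizer (F.Z : Set G) = ⊤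
    · exact F.exists_jay_normal hA hZ
    · obtain ⟨g₀, hg₀⟩ : ∃ g₀, g₀ ∉ normalizer (F.Z : Set G) := by
        by_contra hall
        push Not at hall
        exact hZ (eq_top_iff.2 fun g _ => hall g)
      exact F.exists_jay_spread hA hTI hg₀
  obtain ⟨L, hL⟩ : ∃ L : G → V × V → V × V, L = fun g x => kap u (F.act hA g (kap u x)) := ⟨_, rfl⟩
  have hLadd : ∀ g x y, L g (x + y) = L g x + L g y := fun g x y => by
    rw [hL]; show kap u _ = kap u _ + kap u _
    rw [kap_add, F.act_add, kap_add]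
  have hLmul : ∀ g h x, L (g * h) x = L g (L h x) := fun g h x => by
    rw [hL]; show kap u _ = kap u (F.act hA g (kap u (kap u _)))
    rw [kap_kap, F.act_mul]
  have hLsc : ∀ g x, L g (sc x) = sc (L g x) := fun g x => by
    rw [hL]; show kap u (F.act hA g (kap u (sc x))) = sc (kap u (F.act hA g (kap u x)))
    have e : kap u (sc x) = jay u (kap u x) := by
      rw [← kap_kap u (jay u (kap u x)), kap_jay, kap_kap]
    rw [e, hu, kap_jay]
  -- the complement
  haveI := hA
  haveI : IsMulCommutative F.A := F.elemA.1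
  have hco : (Nat.card F.A).Coprime (F.T : Subgroup G).index := by
    rw [F.card_A, show 16 = 2 ^ 4 from rfl]
    exact Nat.Coprime.pow_left 4 (Nat.coprime_two_left.2 F.odd_index)
  obtain ⟨B₀, hB₀⟩ : ∃ B₀ : Subgroup H4, ∀ p, p ∈ B₀ ↔ p.a = 0 ∧ p.c = 0 :=
    ⟨{ carrier := {p | p.a = 0 ∧ p.c = 0}
       mul_mem' := fun {p q} hp hq => ⟨by show p.a + q.a = 0; rw [hp.1, hq.1, add_zero],
         by show p.c + q.c + fm p.a q.b = 0; rw [hp.2, hq.2, hp.1, fm_zero_left, add_zero, add_zero]⟩
       one_mem' := ⟨rfl, rfl⟩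
       inv_mem' := fun {p} hp => ⟨hp.1, by show p.c + fm p.a p.b = 0; rw [hp.2, hp.1, fm_zero_left, add_zero]⟩ },
      fun p => Iff.rfl⟩
  have hsplit : ∀ p : H4, p = ⟨p.a, 0, p.c + fm p.a p.b⟩ * ⟨0, p.b, 0⟩ := b_split
  obtain ⟨H, hH⟩ := CfsgLib.Coprime.gaschutz_exists (K := F.A) (U := (F.T : Subgroup G)) (A := B₀.map F.hom)
    { le := by rintro _ ⟨p, -, rfl⟩; exact F.hom_mem p
      inf_eq := by
        rw [eq_bot_iff]
        rintro x ⟨⟨p, hp, rfl⟩, hx⟩
        obtain ⟨h1, h3⟩ := (hB₀ p).1 hp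
        rw [show p = 1 from CfsgLib.Invol.HeisFour.H4.ext' h1 (F.hom_mem_A.1 hx) h3, map_one]
        exact one_mem _
      sup_eq := by
        refine le_antisymm (sup_le F.A_le (by rintro _ ⟨p, -, rfl⟩; exact F.hom_mem p)) fun x hx => ?_
        obtain ⟨p, rfl⟩ := F.exists_of_mem hx
        rw [hsplit p, map_mul]
        exact mul_mem_sup (F.hom_mem_A.2 rfl) ⟨_, (hB₀ _).2 ⟨rfl, rfl⟩, rfl⟩ } hco
  have hdec : ∀ g : G, ∃ x : V × V, (F.embA x)⁻¹ * g ∈ H := fun g => by
    obtain ⟨⟨a, h⟩, hg⟩ := hH.2 g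
    obtain ⟨x, hx⟩ := F.exists_embA a.2
    refine ⟨x, ?_⟩
    rw [hx, show g = (a : G) * h from hg.symm, inv_mul_cancel_left]
    exact h.2
  choose d hd using hdec
  have huniq : ∀ g x, (F.embA x)⁻¹ * g ∈ H → x = d g := fun g x hx => F.embA_injective (by
    have h := hH.1 (a₁ := (⟨F.embA x, F.embA_mem x⟩, ⟨_, hx⟩)) (a₂ := (⟨F.embA (d g), F.embA_mem (d g)⟩, ⟨_, hd g⟩))
      (by simp)
    exact congrArg (fun z : F.A × H => ((z.1 : F.A) : G)) h)
  have hactA : ∀ a ∈ F.A, ∀ x, F.act hA a x = x := fun a ha x => F.embA_injective (by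
    rw [F.embA_act, F.comm_A ha (F.embA_mem x), mul_inv_cancel_right])
  have hdmul : ∀ g h, d (g * h) = d g + F.act hA g (d h) := fun g h => (huniq _ _ (by
    have hg : F.act hA g (d h) = F.act hA ((F.embA (d g))⁻¹ * g) (d h) := by
      rw [F.act_mul hA (F.embA (d g))⁻¹ g, hactA _ (F.A.inv_mem (F.embA_mem _))]
    rw [F.embA_add, hg, F.embA_act]
    have h1 := H.mul_mem (hd g) (hd h)
    convert h1 using 1
    group)).symm
  obtain ⟨t, ht⟩ : ∃ t : G → V × V, t = fun g => kap u (d g) := ⟨_, rfl⟩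
  have htmul : ∀ g h, t (g * h) = t g + L g (t h) := fun g h => by
    rw [ht, hL]; show kap u _ = kap u _ + kap u (F.act hA g (kap u (kap u _)))
    rw [hdmul, kap_add, kap_kap]
  obtain ⟨ψ, ψadd, ψmul, ψone, ψinj⟩ := exists_field_coords hK
  have ψ0 : ψ 0 = 0 := by simpa using ψadd 0 0
  let e₁ : V × V := ((1, 0), 0)
  let e₂ : V × V := (0, (1, 0))
  have hlin : ∀ g (x : V × V), L g x =
      (fm x.1 (L g e₁).1 + fm x.2 (L g e₂).1, fm x.1 (L g e₁).2 + fm x.2 (L g e₂).2) := fun g x =>
    linear_of_sc (hLadd g) (hLsc g) x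
  obtain ⟨mat, hmat⟩ : ∃ mat : G → Matrix (Fin 3) (Fin 3) K, mat = fun g =>
      !![ψ (L g e₁).1, ψ (L g e₂).1, ψ (t g).1; ψ (L g e₁).2, ψ (L g e₂).2, ψ (t g).2; 0, 0, 1] := ⟨_, rfl⟩
  have hmul : ∀ g h, mat (g * h) = mat g * mat h := fun g h => by
    rw [hmat]
    dsimp only
    rw [hLmul, hLmul, htmul, hlin g (L h e₁), hlin g (L h e₂), hlin g (t h)]
    ext i j
    fin_cases i <;> fin_cases j <;>
      simp [Matrix.mul_apply, Fin.sum_univ_three, ψadd, ψmul] <;> ring
  have hone : mat 1 = 1 := by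
    have hL1 : ∀ x, L 1 x = x := fun x => by rw [hL]; show kap u _ = x; rw [F.act_one, kap_kap]
    have ht1 : t 1 = 0 := by
      have h := htmul 1 1
      rw [one_mul, hL1] at h
      exact left_eq_add.1 h
    rw [hmat]
    dsimp only
    rw [hL1, hL1, ht1]
    ext i j
    fin_cases i <;> fin_cases j <;> simp [e₁, e₂, ψ0, ψone]
  let mh : G →* Matrix (Fin 3) (Fin 3) K := { toFun := mat, map_one' := hone, map_mul' := hmul }
  refine ⟨(QuotientGroup.mk' (Subgroup.center (GL (Fin 3) K))).comp mh.toHomUnits, ?_⟩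
  refine (injective_iff_map_eq_one _).2 fun g hg => ?_
  have hcen : mh.toHomUnits g ∈ Subgroup.center (GL (Fin 3) K) := (QuotientGroup.eq_one_iff _).1 hg
  rw [Matrix.GeneralLinearGroup.center_eq_range_scalar] at hcen
  obtain ⟨r, hr⟩ := hcen
  have hm : ∀ i j, mat g i j = if i = j then (r : K) else 0 := fun i j => by
    have := congrFun (congrFun (congrArg (fun z : GL (Fin 3) K => (z : Matrix (Fin 3) (Fin 3) K)) hr) i) j
    simp [Matrix.diagonal_apply] at this
    exact this.symm
  have hr1 : (r : K) = 1 := by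
    have := hm 2 2
    rw [hmat] at this
    simpa using this.symm
  have hψeq : ∀ a b, ψ a = ψ b → a = b := fun a b e => by
    have h0 : ψ (a + b) = 0 := by rw [ψadd, e, ← ψadd, self_add, ψ0]
    calc a = a + (b + b) := by rw [self_add, add_zero]
      _ = (a + b) + b := by abel
      _ = b := by rw [ψinj _ h0, zero_add]
  have h00 := hm 0 0
  have h01 := hm 0 1
  have h02 := hm 0 2
  have h10 := hm 1 0
  have h11 := hm 1 1
  have h12 := hm 1 2
  rw [hmat, hr1] at h00 h01 h02 h10 h11 h12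
  simp at h00 h01 h02 h10 h11 h12
  have hLe₁ : L g e₁ = e₁ := Prod.ext (hψeq _ _ (by rw [h00, ψone])) (ψinj _ h10)
  have hLe₂ : L g e₂ = e₂ := Prod.ext (ψinj _ h01) (hψeq _ _ (by rw [h11, ψone]))
  have htg : t g = 0 := Prod.ext (ψinj _ h02) (ψinj _ h12)
  have hid : ∀ x, F.act hA g x = x := fun x => by
    have h := hlin g (kap u x)
    rw [hLe₁, hLe₂, hL] at h
    simp only [e₁, e₂, (fm_one4 _).2, fm_zero_right, add_zero, zero_add, kap_kap] at h
    have := congrArg (kap u) h
    rwa [kap_kap, kap_kap] at this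
  have hgA : g ∈ F.A := by
    rw [← hC, mem_centralizer_iff]
    intro a ha
    obtain ⟨x, rfl⟩ := F.exists_embA ha
    have := F.embA_act hA g x
    rw [hid, eq_mul_inv_iff_mul_eq] at this
    exact this
  obtain ⟨x, rfl⟩ := F.exists_embA hgA
  have hdx : d (F.embA x) = x := (huniq _ _ (by rw [inv_mul_cancel]; exact H.one_mem)).symm
  rw [ht] at htg
  have : x = 0 := by
    rw [← kap_kap u x, show kap u x = 0 by rw [← hdx]; exact htg]
    simpa using kap_add u 0 0
  rw [this, F.embA_zero]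

end CfsgLib.Invol.L34Type
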