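import Cfsg.Agent.Lib.Invol.L34Type.Control

/-!
# When the signalizer subgroup is normal the cores vanish
-/

set_option autoImplicit false
set_option linter.unusedSectionVars false
set_option linter.style.haveILetI false

namespace CfsgLib.Invol.L34Type

open Subgroup
open CfsgLib.Invol
open CfsgLib.ProdFusion (OC OC_le le_OC odd_card_OC le_normalizer_OC le_normalizer_OC_self)
open CfsgLib.Invol.EightTypeThree (Nice)

universe u

variable {G : Type u} [Group G] [Finite G]

namespace Frame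

variable (F : Frame G)

theorem W_bot (hO : Cfsg.oddCore G = ⊥) (hodd : Odd (Nat.card F.W)) (hM : normalizer (F.W : Set G) = ⊤) :
    F.W = ⊥ := by
  haveI : F.W.Normal := normalizer_eq_top_iff.1 hM
  rw [← le_bot_iff, ← hO]
  exact CfsgLib.Coprime.le_pPrimeCore (CfsgLib.ProdFusion.odd_iff_coprime.1 hodd)

theorem θ_bot (hW : F.W = ⊥) {a : G} (ha : a ∈ F.A) : θ a = ⊥ :=
  le_bot_iff.1 (hW ▸ F.θ_le_W ha)

theorem cz_le (hW : F.W = ⊥) {z : G} (hz : z ∈ F.Z) (hz1 : z ≠ 1) :
    centralizer ({z} : Set G) ≤ normalizer ((F.T : Subgroup G) : Set G) := by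
  intro g hg
  obtain ⟨o, ho, n, hn, rfl⟩ := F.cz_factor hz hz1 hg
  have h1 : o ∈ θ z := ho
  rw [F.θ_bot hW (F.Z_le_A hz), mem_bot] at h1
  rw [h1, one_mul]
  exact hn.1

theorem cent_A (hW : F.W = ⊥) : centralizer (F.A : Set G) = F.A := by
  refine le_antisymm (fun g hg => ?_) fun a ha => mem_centralizer_iff.2 fun b hb => F.comm_A hb ha
  obtain ⟨z, hz, hz1⟩ := F.exists_Z_ne_one
  have hD : OC (centralizer (F.A : Set G)) ≤ θ z := le_OC
    ((OC_le _).trans (centralizer_le (Set.singleton_subset_iff.2 (F.Z_le_A hz)))) (odd_card_OC _)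
    ((F.cz_le hW hz hz1).trans (F.N_T_le_A.trans
      ((CfsgLib.Coprime.normalizer_le_normalizer_centralizer _).trans (le_normalizer_OC _))))
  rw [F.θ_bot hW (F.Z_le_A hz), le_bot_iff] at hD
  obtain ⟨c, hc, d, hd, rfl⟩ := F.cent_A_decomp hg
  rw [hD, mem_bot] at hd
  rw [hd, mul_one]
  exact hc

theorem selfc (hW : F.W = ⊥) :
    centralizer ((F.T : Subgroup G) : Set G) ≤ (F.T : Subgroup G) :=
  (centralizer_le F.A_le).trans ((F.cent_A hW).le.trans F.A_le)

/-- both sides fused: the hypotheses of the plane -/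
theorem planeHyp (hW : F.W = ⊥) (hα : F.Alpha) (hβ : F.swap.Alpha) : PlaneHyp F where
  cent _ hz hz1 := F.cz_le hW hz hz1
  selfc := F.selfc hW
  moveA _ ha := F.exists_to_Z hα ha
  moveB b hb := by
    have h := F.swap.exists_to_Z hβ (a := b) (by rw [F.swap_A]; exact hb)
    rwa [F.swap_A, F.swap_Z] at h

theorem normA_le_T (hW : F.W = ⊥) (hα : ¬ F.Alpha) :
    normalizer (F.A : Set G) ≤ normalizer ((F.T : Subgroup G) : Set G) := by
  intro n hn
  obtain ⟨c, hc, m, hm, rfl⟩ := F.normA_decomp hn ((not_not.1 hα) hn)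
  rw [F.cent_A hW] at hc
  exact mul_mem (le_normalizer (F.A_le hc)) hm

theorem cent_le_normA (hW : F.W = ⊥) {a : G} (ha : a ∈ F.A) (hn : Nice F.A a) :
    centralizer ({a} : Set G) ≤ normalizer (F.A : Set G) := by
  intro g hg
  obtain ⟨o, ho, n, hn', rfl⟩ := hn g hg
  have h1 : o ∈ θ a := ho
  rw [F.θ_bot hW ha, mem_bot] at h1
  rw [h1, one_mul]
  exact hn'.1

/-- one side not fused: the other is normal -/
theorem normal_B (hW : F.W = ⊥) (hα : ¬ F.Alpha)
    (hA : ∀ a ∈ F.A, a ≠ 1 → Nice F.A a) (hB : ∀ b ∈ F.B, b ≠ 1 → Nice F.B b) : F.B.Normal := by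
  have hAB : normalizer (F.A : Set G) ≤ normalizer (F.B : Set G) := (F.normA_le_T hW hα).trans F.N_T_le_B
  have hcen : ∀ i ∈ (F.T : Subgroup G), orderOf i = 2 →
      centralizer ({i} : Set G) ≤ normalizer (F.B : Set G) := by
    intro i hi hio
    rcases F.invol_cases hi (invol_mul_self hio) with h | h
    · exact (F.cent_le_normA hW h (hA i h (invol_ne_one hio))).trans hAB
    · have hW' : F.swap.W = ⊥ := F.swap_W.trans hW
      have h' := F.swap.cent_le_normA hW' (a := i) (by rw [F.swap_A]; exact h)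
        (by rw [F.swap_A]; exact hB i h (invol_ne_one hio))
      rwa [F.swap_A] at h'
  rcases F.top_or_embedded hAB le_rfl hcen with h | h
  · exact normalizer_eq_top_iff.1 h
  · exact absurd (F.alpha_of_embedded h) hα

end Frame

end CfsgLib.Invol.L34Type
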