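import Cfsg.Agent.Lib.Invol.L34Type.Side
import Cfsg.Agent.Lib.SolvSignalizer.Main
import Cfsg.Agent.Lib.Invol.StronglyEmbeddedOrbits
import Cfsg.Agent.S0205

/-!
# The signalizer subgroup and the dichotomy for its normaliser
-/

set_option autoImplicit false
set_option linter.unusedSectionVars false
set_option linter.style.haveILetI false

namespace CfsgLib.Invol.L34Type

open Subgroup
open CfsgLib.Invol
open CfsgLib.Coprime (conjBy mem_conjBy conjBy_eq_self_iff)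
open CfsgLib.ProdFusion (OC OC_le le_OC odd_card_OC le_normalizer_OC le_normalizer_OC_self odd_of_le conjBy_OC)
open CfsgLib.Invol.EightTypeThree (Nice)

universe u

variable {G : Type u} [Group G] [Finite G]

/-- the core of the centraliser of an element -/
abbrev θ (i : G) : Subgroup G := OC (centralizer ({i} : Set G))

theorem conjBy_θ (n a : G) : conjBy n (θ a) = θ (n * a * n⁻¹) := by
  show conjBy n (OC _) = OC _
  rw [conjBy_OC]
  congr 1
  ext g
  rw [mem_conjBy, mem_centralizer_singleton_iff, mem_centralizer_singleton_iff,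
    show g * (n * a * n⁻¹) = n * (n⁻¹ * g * n * a) * n⁻¹ by group,
    show n * a * n⁻¹ * g = n * (a * (n⁻¹ * g * n)) * n⁻¹ by group]
  exact ⟨fun e => by rw [e], fun e => mul_left_cancel (mul_right_cancel e)⟩

namespace Frame

variable (F : Frame G)

theorem elemZ : Cfsg.IsElementaryAbelian 2 F.Z :=
  ⟨⟨⟨fun x y => Subtype.ext (F.comm_A (F.Z_le_A x.2) (F.Z_le_A y.2))⟩⟩,
    fun z hz => F.elemA.2 z (F.Z_le_A hz)⟩

/-- the subgroup generated by the cores of the central involutions -/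
def W : Subgroup G := ⨆ z : {z : G // z ∈ F.Z ∧ z ≠ 1}, θ (z : G)

theorem θ_le_W_Z {z : G} (hz : z ∈ F.Z) (hz1 : z ≠ 1) : θ z ≤ F.W :=
  le_iSup (fun z : {z : G // z ∈ F.Z ∧ z ≠ 1} => θ (z : G)) ⟨z, hz, hz1⟩

theorem swap_W : F.swap.W = F.W := by
  refine le_antisymm (iSup_le fun z => ?_) (iSup_le fun z => ?_)
  · exact F.θ_le_W_Z (F.swap_Z ▸ z.2.1) z.2.2
  · exact F.swap.θ_le_W_Z (by rw [F.swap_Z]; exact z.2.1) z.2.2

theorem A_inv_θ {a : G} (ha : a ∈ F.A) : ∀ c ∈ F.A, ∀ x ∈ θ a, c * x * c⁻¹ ∈ θ a := fun _ hc x hx =>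
  (mem_normalizer_iff.1 (le_normalizer_OC_self _ (F.A_le_centralizer ha hc)) x).1 hx

/-- balance at an element with factorised centraliser -/
theorem balance {a b : G} (ha : a ∈ F.A) (hb : b ∈ F.A) (hn : Nice F.A b) :
    θ a ⊓ centralizer ({b} : Set G) ≤ θ b :=
  hn.le (fun c hc => F.sq_of_mem hc) (F.A_le_centralizer hb) (fun _ hn => F.cent_A_decomp hn) hb inf_le_right
    (odd_of_le inf_le_left (odd_card_OC _)) fun c hc x hx => ⟨F.A_inv_θ ha c hc x hx.1,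
      (centralizer ({b} : Set G)).mul_mem ((centralizer ({b} : Set G)).mul_mem (F.A_le_centralizer hb hc) hx.2)
        ((centralizer ({b} : Set G)).inv_mem (F.A_le_centralizer hb hc))⟩

theorem θ_le_W {a : G} (ha : a ∈ F.A) : θ a ≤ F.W := by
  haveI : Fact (Nat.Prime 2) := ⟨Nat.prime_two⟩
  refine CfsgLib.SolvSignalizer.le_of_fixed_points F.elemZ (by rw [F.card_Z]; norm_num)
    (fun c hc => CfsgLib.ProdFusion.mem_of_forall_conj_mem fun x hx => F.A_inv_θ ha c (F.Z_le_A hc) x hx)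
    (fun h => Nat.not_even_iff_odd.2 (odd_card_OC (centralizer ({a} : Set G))) (even_iff_two_dvd.2 h))
    fun z hz hz1 => (F.balance ha (F.Z_le_A hz) (F.nice_Z hz hz1)).trans (F.θ_le_W_Z hz hz1)

theorem W_eq : F.W = ⨆ a : {a : G // a ∈ F.A ∧ a ≠ 1}, θ (a : G) := by
  refine le_antisymm (iSup_le fun z => ?_) (iSup_le fun a => F.θ_le_W a.2.1)
  exact le_iSup (fun a : {a : G // a ∈ F.A ∧ a ≠ 1} => θ (a : G)) ⟨z, F.Z_le_A z.2.1, z.2.2⟩

theorem normA_le_W : normalizer (F.A : Set G) ≤ normalizer (F.W : Set G) := fun n hn => by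
  refine CfsgLib.ProdFusion.mem_of_forall_conj_mem fun x hx => ?_
  have hle : conjBy n F.W ≤ F.W := by
    rw [F.W_eq, conjBy, Subgroup.map_iSup]
    refine iSup_le fun a => ?_
    show conjBy n (θ (a : G)) ≤ _
    rw [conjBy_θ]
    exact le_iSup (fun a : {a : G // a ∈ F.A ∧ a ≠ 1} => θ (a : G))
      ⟨n * a * n⁻¹, (mem_normalizer_iff.1 hn a).1 a.2.1, fun e => a.2.2 (conj_eq_one_iff.1 e)⟩
  exact hle ⟨x, hx, rfl⟩

theorem normB_le_W : normalizer (F.B : Set G) ≤ normalizer (F.W : Set G) := by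
  have h := F.swap.normA_le_W
  rwa [F.swap_A, F.swap_W] at h

theorem odd_W (hnice : ∀ a ∈ F.A, a ≠ 1 → Nice F.A a) : Odd (Nat.card F.W) := by
  haveI : Fact (Nat.Prime 2) := ⟨Nat.prime_two⟩
  have hfun : Cfsg.IsSolvableSignalizerFunctor 2 F.A (fun a => θ a) := by
    refine ⟨⟨fun a _ _ => OC_le _, fun a _ _ h => Nat.not_even_iff_odd.2 (odd_card_OC _) (even_iff_two_dvd.2 h),
      fun a ha _ => F.A_inv_θ ha, fun a ha _ b hb hb1 => F.balance ha hb (hnice b hb hb1)⟩,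
      fun a _ _ => Cfsg.Agent.S0205.result (odd_card_OC (centralizer ({a} : Set G)))⟩
  obtain ⟨X, hX, hXθ⟩ := CfsgLib.SolvSignalizer.exists_complete F.elemA (by rw [F.card_A]; norm_num) hfun
  refine odd_of_le (iSup_le fun z => hXθ z (F.Z_le_A z.2.1) z.2.2) ?_
  rw [Nat.odd_iff]
  have := hX.2.1
  omega

/-- the fused elements -/
theorem fused_case {M : Subgroup G} (hA : normalizer (F.A : Set G) ≤ M) (hB : normalizer (F.B : Set G) ≤ M)
    {x g : G} (hx : x ∈ (F.T : Subgroup G)) (hx2 : x * x = 1) (hg : g * x * g⁻¹ ∈ F.Z) :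
    ∃ m ∈ M, m * x * m⁻¹ ∈ F.Z := by
  rcases F.invol_cases hx hx2 with h | h
  · obtain ⟨n, hn, he⟩ := F.exists_normalizer_of_conj h hg
    exact ⟨n, hA hn, by rw [he]; exact hg⟩
  · obtain ⟨n, hn, he⟩ := F.swap.exists_normalizer_of_conj (by rw [F.swap_A]; exact h)
      (by rw [F.swap_Z]; exact hg)
    rw [F.swap_A] at hn
    exact ⟨n, hB hn, by rw [he]; exact hg⟩

theorem control_A {M : Subgroup G} (hA : normalizer (F.A : Set G) ≤ M)
    {x g : G} (hx : x ∈ F.A) (hy : g * x * g⁻¹ ∈ F.A)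
    (hu : ∀ n ∈ normalizer (F.A : Set G), n * (g * x * g⁻¹) * n⁻¹ ∉ F.Z) :
    ∃ m ∈ M, m * x * m⁻¹ = g * x * g⁻¹ := by
  haveI : Fact (Nat.Prime 2) := ⟨Nat.prime_two⟩
  set y := g * x * g⁻¹ with hyd
  have hle : conjBy g F.A ≤ centralizer ({y} : Set G) := by
    rintro _ ⟨a, ha, rfl⟩
    refine mem_centralizer_singleton_iff.2 ?_
    show g * a * g⁻¹ * y = y * (g * a * g⁻¹)
    rw [hyd, show g * a * g⁻¹ * (g * x * g⁻¹) = g * (a * x) * g⁻¹ by group, F.comm_A ha hx]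
    group
  obtain ⟨c, hc⟩ := exists_conj_le_sylow ((((F.T.2.to_le F.A_le).map _).of_equiv
    (subgroupOfEquivOfLe hle).symm))
    (((F.T.2.to_le F.A_le).of_equiv (subgroupOfEquivOfLe (F.A_le_centralizer hy)).symm).toSylow
      (F.sylow_of_unfused hy hu))
  refine ⟨(c : G) * g, hA (F.conj_into fun a ha => F.A_le ?_), ?_⟩
  · rw [show (c : G) * g * a * ((c : G) * g)⁻¹ = c * (g * a * g⁻¹) * (c : G)⁻¹ by group]
    exact hc ⟨g * a * g⁻¹, hle ⟨a, ha, rfl⟩⟩ ⟨a, ha, rfl⟩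
  · rw [show (c : G) * g * x * ((c : G) * g)⁻¹ = c * y * (c : G)⁻¹ from (by group : (c : G) * g * x * ((c : G) * g)⁻¹ = c * (g * x * g⁻¹) * (c : G)⁻¹),
      mem_centralizer_singleton_iff.1 c.2, mul_inv_cancel_right]

/-- **fusion of involutions of `T` is controlled by the normalisers of the two sides** -/
theorem control {M : Subgroup G} (hA : normalizer (F.A : Set G) ≤ M) (hB : normalizer (F.B : Set G) ≤ M)
    {x g : G} (hx : x ∈ (F.T : Subgroup G)) (hx2 : x * x = 1) (hy : g * x * g⁻¹ ∈ (F.T : Subgroup G)) :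
    ∃ m ∈ M, m * x * m⁻¹ = g * x * g⁻¹ := by
  haveI : Fact (Nat.Prime 2) := ⟨Nat.prime_two⟩
  set y := g * x * g⁻¹ with hyd
  have hy2 : y * y = 1 := by rw [hyd, show g * x * g⁻¹ * (g * x * g⁻¹) = g * (x * x) * g⁻¹ by group, hx2]; group
  by_cases hfx : ∃ k, k * x * k⁻¹ ∈ F.Z
  · obtain ⟨k, hk⟩ := hfx
    obtain ⟨m, hm, hmZ⟩ := F.fused_case hA hB hx hx2 hk
    obtain ⟨n, hn, hnZ⟩ := F.fused_case hA hB hy hy2 (g := k * g⁻¹) (by
      rw [hyd, show k * g⁻¹ * (g * x * g⁻¹) * (k * g⁻¹)⁻¹ = k * x * k⁻¹ by group]; exact hk)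
    obtain ⟨r, hr, hre⟩ := CfsgLib.Fusion.exists_normalizer_conj_eq_of_central F.T
      (F.T_le_centralizer hmZ) (n * g * m⁻¹) (by
        rw [show n * g * m⁻¹ * (m * x * m⁻¹) * (n * g * m⁻¹)⁻¹ = n * y * n⁻¹ by rw [hyd]; group]
        exact F.T_le_centralizer hnZ)
    refine ⟨n⁻¹ * r * m, M.mul_mem (M.mul_mem (M.inv_mem hn) (hA (F.N_T_le_A hr))) hm, ?_⟩
    rw [show n⁻¹ * r * m * x * (n⁻¹ * r * m)⁻¹ = n⁻¹ * (r * (m * x * m⁻¹) * r⁻¹) * n by group, hre, hyd]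
    group
  push Not at hfx
  have key : ∀ F' : Frame G, F'.Z = F.Z → normalizer (F'.A : Set G) ≤ M → x ∈ F'.A →
      F'.T = F.T → ∃ m ∈ M, m * x * m⁻¹ = y := by
    intro F' hZ hA' hxA hT
    have hu : ∀ n ∈ normalizer (F'.A : Set G), n * y * n⁻¹ ∉ F'.Z := fun n _ h =>
      hfx (n * g) (by rw [show n * g * x * (n * g)⁻¹ = n * y * n⁻¹ by rw [hyd]; group, ← hZ]; exact h)
    rcases F'.invol_cases (hT ▸ hy) hy2 with hyA | hyB
    · exact F'.control_A hA' hxA hyA hu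
    · by_cases hyA : y ∈ F'.A
      · exact F'.control_A hA' hxA hyA hu
      · obtain ⟨n, -, hn⟩ := F'.cross_fusion hxA hyB hyA
        exact absurd (hZ ▸ hn) (hfx n)
  rcases F.invol_cases hx hx2 with h | h
  · exact key F rfl hA h rfl
  · exact key F.swap F.swap_Z (by rw [F.swap_A]; exact hB) (by rw [F.swap_A]; exact h) F.swap_T

/-- **dichotomy**: a subgroup with the normalisers of both sides and all centralisers is everything or
strongly embedded -/
theorem top_or_embedded {M : Subgroup G} (hA : normalizer (F.A : Set G) ≤ M)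
    (hB : normalizer (F.B : Set G) ≤ M)
    (hcen : ∀ i ∈ (F.T : Subgroup G), orderOf i = 2 → centralizer ({i} : Set G) ≤ M) :
    M = ⊤ ∨ Cfsg.IsStronglyEmbedded M := by
  refine or_iff_not_imp_left.2 fun hM => ?_
  have hTM : (F.T : Subgroup G) ≤ M := F.T_le_normalizer_A.trans hA
  obtain ⟨z, hz, hz1⟩ := F.exists_Z_ne_one
  have heven : Even (Nat.card M) := even_card_of_invol_mem (hTM (F.Z_le hz))
    (invol_iff.2 ⟨F.sq_of_mem (F.Z_le_A hz), hz1⟩)
  rw [stronglyEmbedded_iff hM heven]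
  intro t ht hto g hg
  haveI : Fact (Nat.Prime 2) := ⟨Nat.prime_two⟩
  have hp : ∀ x : G, orderOf x = 2 → IsPGroup 2 (zpowers x) := fun x hx =>
    IsPGroup.of_card (n := 1) (by rw [Nat.card_zpowers, hx, pow_one])
  obtain ⟨a, ha, hat⟩ := exists_conj_into F.T.2 F.not_dvd_index hTM (zpowers_le.2 ht) (hp t hto)
  obtain ⟨b, hb, hbt⟩ := exists_conj_into F.T.2 F.not_dvd_index hTM (zpowers_le.2 hg) (hp _ (invol_conj hto g))
  set x := a * t * a⁻¹ with hx
  have hxo : orderOf x = 2 := invol_conj hto a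
  have hxT : x ∈ (F.T : Subgroup G) := hat t (mem_zpowers t)
  obtain ⟨m, hm, hme⟩ := F.control hA hB hxT (invol_mul_self hxo) (g := b * g * a⁻¹) (by
    rw [hx, show b * g * a⁻¹ * (a * t * a⁻¹) * (b * g * a⁻¹)⁻¹ = b * (g * t * g⁻¹) * b⁻¹ by group]
    exact hbt _ (mem_zpowers _))
  have h1 : m⁻¹ * (b * g * a⁻¹) ∈ M := hcen x hxT hxo (mem_centralizer_singleton_iff.2 (by
    calc m⁻¹ * (b * g * a⁻¹) * x = m⁻¹ * ((b * g * a⁻¹) * x * (b * g * a⁻¹)⁻¹) * (b * g * a⁻¹) := by group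
      _ = m⁻¹ * (m * x * m⁻¹) * (b * g * a⁻¹) := by rw [hme]
      _ = x * (m⁻¹ * (b * g * a⁻¹)) := by group))
  have h2 := M.mul_mem (M.mul_mem (M.inv_mem hb) (M.mul_mem hm h1)) ha
  rwa [show b⁻¹ * (m * (m⁻¹ * (b * g * a⁻¹))) * a = g by group] at h2

/-- a strongly embedded subgroup forces one class of involutions, so both sides are fused -/
theorem alpha_of_embedded {M : Subgroup G} (hM : Cfsg.IsStronglyEmbedded M) : F.Alpha := by
  intro h
  obtain ⟨a, ha, haZ⟩ := F.exists_A_not_Z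
  obtain ⟨z, hz, hz1⟩ := F.exists_Z_ne_one
  obtain ⟨g, hg⟩ := isConj_iff.1 (exists_conj_fixing hM
    (invol_iff.2 ⟨F.sq_of_mem ha, fun e => haZ (e ▸ one_mem _)⟩)
    (invol_iff.2 ⟨F.sq_of_mem (F.Z_le_A hz), hz1⟩))
  exact haZ (F.mem_Z_of_fused h ha (g := g) (by rw [hg]; exact hz))

end Frame

end CfsgLib.Invol.L34Type
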