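import Cfsg.Agent.Lib.Invol.L34Type.Acts
import Cfsg.Agent.Lib.Invol.L34Type.Control

/-!
# The normaliser of the Sylow subgroup acts diagonally; a fused side gives a scaling
-/

set_option autoImplicit false
set_option linter.unusedSectionVars false
set_option linter.style.haveILetI false

namespace CfsgLib.Invol.L34Type

open Subgroup
open CfsgLib.Invol
open CfsgLib.Invol.HeisFour (V fm H4)
open CfsgLib.ProdFusion (OC OC_le)

universe u

variable {G : Type u} [Group G] [Finite G]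

theorem fm_ne_zero : ∀ a b : V, a ≠ 0 → b ≠ 0 → fm a b ≠ 0 := by decide +kernel

theorem zero_ne_unit : (0 : V) ≠ (1, 0) := by decide

theorem conj_ab : ∀ p q : H4, (q * p * q⁻¹).a = p.a ∧ (q * p * q⁻¹).b = p.b := by decide +kernel

namespace Frame

variable (F : Frame G)

/-- elements of the Sylow subgroup act trivially on the coordinates -/
theorem acts_T {t : G} (ht : t ∈ (F.T : Subgroup G)) : F.Acts t (1, 0) (1, 0) := by
  obtain ⟨q, rfl⟩ := F.exists_of_mem ht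
  refine ⟨fun p => ⟨(q * p * q⁻¹).c, ?_⟩, fun c => ?_⟩
  · rw [fm_one, fm_one, F.hom_conj]
    exact congrArg F.hom (CfsgLib.Invol.HeisFour.H4.ext' (conj_ab p q).1 (conj_ab p q).2 rfl)
  · rw [F.hom_conj, fm_one, fm_one, central_subZ ⟨0, 0, c⟩ rfl rfl q, mul_inv_cancel_right]

variable {F}

theorem Acts.unique {g : G} {l m l' m' : V} (h : F.Acts g l m) (h' : F.Acts g l' m') : l = l' ∧ m = m' := by
  obtain ⟨d, hd⟩ := h.pt ⟨(1, 0), (1, 0), 0⟩
  obtain ⟨d', hd'⟩ := h'.pt ⟨(1, 0), (1, 0), 0⟩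
  rw [hd] at hd'
  have e := F.hom_injective hd'
  have e1 := congrArg H4.a e
  have e2 := congrArg H4.b e
  simp only [fm_one_right] at e1 e2
  exact ⟨e1, e2⟩

theorem Acts.pow {g : G} {l m : V} (h : F.Acts g l m) : ∀ k : ℕ, ∃ l' m' : V, F.Acts (g ^ k) l' m' ∧
    (l ≠ 0 → l' ≠ 0) ∧ (m ≠ 0 → m' ≠ 0) ∧ (l = (1, 0) → l' = (1, 0)) ∧ (m = (1, 0) → m' = (1, 0))
  | 0 => ⟨(1, 0), (1, 0), by rw [pow_zero]; exact Acts.one, fun _ => by decide, fun _ => by decide,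
      fun _ => rfl, fun _ => rfl⟩
  | k + 1 => by
      obtain ⟨l', m', h', e1, e2, e3, e4⟩ := h.pow k
      refine ⟨fm l' l, fm m' m, by rw [pow_succ]; exact h'.mul h, fun hl => fm_ne_zero _ _ (e1 hl) hl,
        fun hm => fm_ne_zero _ _ (e2 hm) hm, fun hl => ?_, fun hm => ?_⟩
      · rw [e3 hl, hl, fm_one]
      · rw [e4 hm, hm, fm_one]

variable (F)

/-- two-elements of the normaliser of `T` lie in `T` -/
theorem two_mem_T {g : G} (hg : g ∈ normalizer ((F.T : Subgroup G) : Set G)) (hp : IsPGroup 2 (zpowers g)) :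
    g ∈ (F.T : Subgroup G) := by
  have h1 : IsPGroup 2 ((F.T : Subgroup G) ⊔ zpowers g : Subgroup G) :=
    F.T.2.to_sup_of_normal_left' hp (zpowers_le.2 hg)
  exact (F.T.3 h1 le_sup_left).le (mem_sup_right (mem_zpowers _))

/-- the elements acting diagonally -/
def diagonal : Subgroup G where
  carrier := {g | g ∈ normalizer ((F.T : Subgroup G) : Set G) ∧ ∃ l m : V, l ≠ 0 ∧ m ≠ 0 ∧ F.Acts g l m}
  one_mem' := ⟨one_mem _, (1, 0), (1, 0), by decide, by decide, Acts.one⟩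
  mul_mem' := by
    rintro g g' ⟨hg, l, m, hl, hm, h⟩ ⟨hg', l', m', hl', hm', h'⟩
    exact ⟨mul_mem hg hg', fm l l', fm m m', fm_ne_zero _ _ hl hl', fm_ne_zero _ _ hm hm', h.mul h'⟩
  inv_mem' := by
    rintro g ⟨hg, l, m, hl, hm, h⟩
    obtain ⟨l', m', h', e1, e2, -, -⟩ := h.pow (orderOf g - 1)
    refine ⟨inv_mem hg, l', m', e1 hl, e2 hm, ?_⟩
    rwa [show g⁻¹ = g ^ (orderOf g - 1) from inv_eq_of_mul_eq_one_right (by
      rw [← pow_succ', Nat.sub_add_cancel (orderOf_pos g), pow_orderOf_eq_one])]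

theorem acts_all {g : G} (hg : g ∈ normalizer ((F.T : Subgroup G) : Set G)) :
    ∃ l m : V, l ≠ 0 ∧ m ≠ 0 ∧ F.Acts g l m :=
  (mem_of_parts (K := F.diagonal)
    (fun j hp => ⟨pow_mem hg j, (1, 0), (1, 0), by decide, by decide, F.acts_T (F.two_mem_T (pow_mem hg j) hp)⟩)
    fun j ho => ⟨pow_mem hg j, acts_of_scalar (pow_mem hg j) ho⟩ : g ∈ F.diagonal).2

/-- elements of the normaliser of `T` acting trivially centralise it up to `T` -/
theorem mem_T_of_trivial (hC : centralizer ((F.T : Subgroup G) : Set G) ≤ (F.T : Subgroup G)) {g : G}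
    (hg : g ∈ normalizer ((F.T : Subgroup G) : Set G)) (h : F.Acts g (1, 0) (1, 0)) :
    g ∈ (F.T : Subgroup G) := by
  refine mem_of_parts (fun j hp => F.two_mem_T (pow_mem hg j) hp) fun j ho => hC ?_
  obtain ⟨l, m, -, -, hp, hc, hcent⟩ := F.scalar (pow_mem hg j) ho
  obtain ⟨l', m', h', -, -, e3, e4⟩ := h.pow j
  rw [e3 rfl, e4 rfl] at h'
  obtain ⟨e1, e2⟩ := Acts.unique (⟨hp, hc⟩ : F.Acts (g ^ j) l m) h'
  exact hcent e1 e2

/-- a commutator of `a` with an element of `B` is central -/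
theorem comm_AB {a b : G} (ha : a ∈ (F.T : Subgroup G)) (hb : b ∈ (F.T : Subgroup G)) :
    b * a * b⁻¹ * a⁻¹ ∈ F.Z := by
  obtain ⟨p, rfl⟩ := F.exists_of_mem ha
  obtain ⟨q, rfl⟩ := F.exists_of_mem hb
  rw [← map_inv, ← map_inv, ← map_mul, ← map_mul, ← map_mul, F.hom_mem_Z, comm_value]
  exact ⟨rfl, rfl⟩

theorem comm_surj : ∀ p : H4, p.a ≠ 0 → ∀ c : V, ∃ b : V,
    (⟨0, b, 0⟩ : H4) * p * (⟨0, b, 0⟩ : H4)⁻¹ * p⁻¹ = ⟨0, 0, c⟩ := by decide +kernel

/-- **a fused side gives an element scaling the other coordinate** -/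
theorem exists_scaling (hβ : F.swap.Alpha) :
    ∃ n ∈ normalizer ((F.T : Subgroup G) : Set G), ∃ l m : V, l ≠ 0 ∧ m ≠ 0 ∧ l ≠ (1, 0) ∧ F.Acts n l m := by
  classical
  haveI : Fact (Nat.Prime 2) := ⟨Nat.prime_two⟩
  by_contra hcon
  push Not at hcon
  have hl : ∀ {g : G}, g ∈ normalizer ((F.T : Subgroup G) : Set G) → ∃ m : V, F.Acts g (1, 0) m := by
    intro g hg
    obtain ⟨l, m, hl, hm, h⟩ := F.acts_all hg
    by_cases h1 : l = (1, 0)
    · exact ⟨m, h1 ▸ h⟩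
    · exact absurd h (hcon g hg l m hl hm h1)
  refine hβ ?_
  rw [F.swap_A, F.swap_Z]
  set H := normalizer (F.B : Set G) with hH
  set T₀ := (F.T : Subgroup G) with hT₀
  have hTH : T₀ ≤ H := F.T_le_normalizer_B
  set C := centralizer (F.B : Set G) with hC
  have hCH : C ≤ H := CfsgLib.Coprime.centralizer_le_normalizer_self _
  haveI hNn : (C.subgroupOf H).Normal := ⟨fun x hx g =>
    mem_subgroupOf.2 ((mem_normalizer_iff.1 (CfsgLib.Coprime.normalizer_le_normalizer_centralizer _ g.2)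
      (x : G)).1 hx)⟩
  set q := QuotientGroup.mk' (C.subgroupOf H) with hq
  have hqs : Function.Surjective q := QuotientGroup.mk'_surjective _
  have hqk : ∀ x : H, q x = 1 ↔ (x : G) ∈ C := fun x => QuotientGroup.eq_one_iff x
  have hTB : ∀ x ∈ T₀, x ∈ C → x ∈ F.B := by
    intro x hx hxC
    obtain ⟨p, rfl⟩ := F.exists_of_mem hx
    rw [F.hom_mem_B]
    by_contra hpa
    obtain ⟨b, hb⟩ := comm_surj p hpa (1, 0)
    have hmem : F.hom ⟨0, b, 0⟩ ∈ F.B := F.hom_mem_B.2 rfl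
    have h1 := mem_centralizer_iff.1 hxC _ hmem
    rw [← map_mul, ← map_mul] at h1
    have h2 := F.hom_injective h1
    rw [h2, mul_inv_cancel_right, mul_inv_cancel] at hb
    exact zero_ne_unit (congrArg H4.c hb)
  set S' := (T₀.subgroupOf H).map q with hS'
  have hS'p : IsPGroup 2 S' := (F.T.2.of_equiv (subgroupOfEquivOfLe hTH).symm).map q
  have hS'i : ¬ 2 ∣ S'.index := fun h => F.not_dvd_index
    ((h.trans (index_map_dvd _ hqs)).trans (by
      rw [← T₀.relIndex_mul_index hTH]; exact dvd_mul_right _ _))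
  let P : Sylow 2 (H ⧸ C.subgroupOf H) := hS'p.toSylow hS'i
  have hcomm : ∀ x ∈ T₀, ∀ y ∈ T₀, x * y * x⁻¹ * y⁻¹ ∈ C := fun x hx y hy =>
    mem_centralizer_iff.2 fun b hb => (F.Z_central (F.comm_AB hy hx) (F.B_le hb))
  have hS'el : Cfsg.IsElementaryAbelian 2 S' := by
    refine ⟨⟨⟨?_⟩⟩, ?_⟩
    · rintro ⟨_, x, hx, rfl⟩ ⟨_, y, hy, rfl⟩
      refine Subtype.ext ?_
      show q x * q y = q y * q x
      rw [← map_mul, ← map_mul]
      refine (mul_inv_eq_one.1 ?_)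
      rw [← map_inv, ← map_mul, hqk]
      push_cast
      rw [mul_inv_rev, ← mul_assoc]
      exact hcomm _ hx _ hy
    · rintro _ ⟨x, hx, rfl⟩
      rw [← map_pow, hqk, pow_two]
      exact mem_centralizer_iff.2 fun b hb => (F.Z_central (F.sq_mem_Z hx) (F.B_le hb))
  have hS'4 : 2 ^ 2 ≤ Nat.card S' := by
    let f : V → S' := fun a => ⟨q ⟨F.hom ⟨a, 0, 0⟩, hTH (F.hom_mem _)⟩, _, F.hom_mem _, rfl⟩
    have hf : Function.Injective f := by
      intro a a' e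
      have h1 : q ((⟨F.hom ⟨a, 0, 0⟩, hTH (F.hom_mem _)⟩ : H)⁻¹ * ⟨F.hom ⟨a', 0, 0⟩, hTH (F.hom_mem _)⟩) = 1 := by
        rw [map_mul, map_inv, inv_mul_eq_one]; exact congrArg Subtype.val e
      rw [hqk] at h1
      push_cast at h1
      rw [← map_inv, ← map_mul] at h1
      have h2 := F.hom_mem_B.1 (hTB _ (F.hom_mem _) h1)
      rw [CfsgLib.Invol.HeisFour.inv_def, CfsgLib.Invol.HeisFour.mul_def] at h2
      exact (add_eq_zero_iff_eq_neg.1 (show a + a' = 0 from h2)).trans (ZModModule.neg_eq_self _)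
    refine le_trans (le_of_eq ?_) (Nat.card_le_card_of_injective f hf)
    simp
  have hnc : normalizer ((P : Subgroup (H ⧸ C.subgroupOf H)) : Set (H ⧸ C.subgroupOf H)) ≤
      centralizer ((P : Subgroup (H ⧸ C.subgroupOf H)) : Set (H ⧸ C.subgroupOf H)) := by
    intro w hw
    obtain ⟨g, rfl⟩ := hqs w
    set R := C ⊔ T₀ with hR
    have hTC : T₀ ≤ normalizer (C : Set G) :=
      hTH.trans (CfsgLib.Coprime.normalizer_le_normalizer_centralizer _)
    have hconj : CfsgLib.Coprime.conjBy (g : G) T₀ ≤ R := by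
      rintro _ ⟨t, ht, rfl⟩
      obtain ⟨s, hs, hse⟩ := (mem_normalizer_iff.1 hw (q ⟨t, hTH ht⟩)).1 ⟨_, ht, rfl⟩
      have h1 : q (s⁻¹ * (g * ⟨t, hTH ht⟩ * g⁻¹)) = 1 := by
        rw [map_mul, map_mul, map_mul, map_inv, map_inv, ← hse, inv_mul_cancel]
      rw [hqk] at h1
      push_cast at h1
      show (g : G) * t * (g : G)⁻¹ ∈ R
      rw [show (g : G) * t * (g : G)⁻¹ = (s : G) * ((s : G)⁻¹ * ((g : G) * t * (g : G)⁻¹)) by group]
      exact R.mul_mem (mem_sup_right hs) (mem_sup_left h1)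
    obtain ⟨r, hr, hrT⟩ := exists_conj_into F.T.2 F.not_dvd_index le_sup_right hconj (F.T.2.map _)
    have hrg : r * (g : G) ∈ normalizer (T₀ : Set G) := CfsgLib.ProdFusion.mem_of_forall_conj_mem fun t ht => by
      rw [show r * (g : G) * t * (r * g)⁻¹ = r * ((g : G) * t * (g : G)⁻¹) * r⁻¹ by group]
      exact hrT _ ⟨t, ht, rfl⟩
    rw [← SetLike.mem_coe, coe_mul_of_right_le_normalizer_left C T₀ hTC, Set.mem_mul] at hr
    obtain ⟨c, hc, s, hs, hcs⟩ := hr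
    obtain ⟨m, hm⟩ := hl hrg
    have hwe : q g = (q ⟨s, hTH hs⟩)⁻¹ * q ⟨r * (g : G), F.N_T_le_B hrg⟩ := by
      rw [eq_inv_mul_iff_mul_eq, ← map_mul]
      refine mul_inv_eq_one.1 ?_
      rw [← map_inv, ← map_mul, hqk]
      push_cast
      rw [← hcs, show s * (g : G) * (c * s * (g : G))⁻¹ = c⁻¹ by group]
      exact C.inv_mem hc
    rw [hwe]
    refine mul_mem (inv_mem ?_) ?_
    · exact mem_centralizer_iff.2 fun x hx => congrArg Subtype.val
        (hS'el.1.is_comm.comm (⟨x, hx⟩ : S') ⟨_, ⟨s, hTH hs⟩, hs, rfl⟩)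
    · refine mem_centralizer_iff.2 ?_
      rintro _ ⟨x, hx, rfl⟩
      refine (mul_inv_eq_one.1 ?_)
      rw [← map_mul, ← map_mul, ← map_inv, ← map_mul, hqk]
      obtain ⟨p, hp⟩ := F.exists_of_mem (x := (x : G)) hx
      obtain ⟨d, hd⟩ := hm.pt p
      have e : ((x * (⟨r * (g : G), F.N_T_le_B hrg⟩ : H) * ((⟨r * (g : G), F.N_T_le_B hrg⟩ : H) * x)⁻¹ : H) : G) =
          F.hom (p * (⟨fm (1, 0) p.a, fm m p.b, d⟩ : H4)⁻¹) := by
        rw [map_mul, map_inv, ← hd, hp]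
        push_cast
        group
      rw [e]
      refine mem_centralizer_iff.2 fun b hb => ?_
      have hmem : F.hom (p * (⟨fm (1, 0) p.a, fm m p.b, d⟩ : H4)⁻¹) ∈ F.B := by
        rw [F.hom_mem_B, CfsgLib.Invol.HeisFour.inv_def, CfsgLib.Invol.HeisFour.mul_def]
        show p.a + fm (1, 0) p.a = 0
        rw [fm_one]; exact CfsgLib.Invol.HeisFour.self_add _
      exact congrArg Subtype.val (F.elemB.1.is_comm.comm (⟨b, hb⟩ : F.B) ⟨_, hmem⟩)
  have hdec := CfsgLib.Invol.EightTypeThree.decomp_of_selfcentral P hnc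
  set O := Cfsg.pPrimeCore 2 (H ⧸ C.subgroupOf H) with hO
  haveI : O.Normal := by
    haveI := CfsgLib.Coprime.pPrimeCore_characteristic (G := H ⧸ C.subgroupOf H) 2
    infer_instance
  set W := ((normalizer (F.Z : Set G)).subgroupOf H).map q with hW
  have hfix : ∀ a ∈ S', a ≠ 1 → O ⊓ centralizer ({a} : Set (H ⧸ C.subgroupOf H)) ≤ W := by
    rintro _ ⟨x, hx, rfl⟩ hx1 w ⟨-, hw⟩
    obtain ⟨g, rfl⟩ := hqs w
    refine ⟨g, mem_subgroupOf.2 (CfsgLib.ProdFusion.mem_of_forall_conj_mem ?_), rfl⟩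
    rintro _ ⟨p, hp, rfl⟩
    obtain ⟨px, hpx⟩ := F.exists_of_mem (x := (x : G)) hx
    have hpa : px.a ≠ 0 := fun e => hx1 ((hqk x).2 (by
      have hxB : (x : G) ∈ F.B := by rw [← hpx]; exact F.hom_mem_B.2 e
      exact mem_centralizer_iff.2 fun b hb => congrArg Subtype.val (F.elemB.1.is_comm.comm (⟨b, hb⟩ : F.B) ⟨_, hxB⟩)))
    obtain ⟨b, hb⟩ := comm_surj px hpa p.c
    rw [show p = (⟨0, 0, p.c⟩ : H4) from CfsgLib.Invol.HeisFour.H4.ext' hp.2 hp.1 rfl, ← hb, map_mul, map_mul,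
      map_mul, map_inv, map_inv, hpx]
    set β := F.hom ⟨0, b, 0⟩ with hβ'
    have hβB : β ∈ F.B := F.hom_mem_B.2 rfl
    set β' := (g : G) * β * (g : G)⁻¹ with hβ''
    have hβ'B : β' ∈ F.B := (mem_normalizer_iff.1 g.2 β).1 hβB
    have h1 : q (g * x * g⁻¹ * x⁻¹) = 1 := by
      rw [map_mul, map_mul, map_mul, map_inv, map_inv, mem_centralizer_singleton_iff.1 hw, mul_inv_cancel_right,
        mul_inv_cancel]
    rw [hqk] at h1
    push_cast at h1
    set c := (g : G) * (x : G) * (g : G)⁻¹ * (x : G)⁻¹ with hc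
    have hxB : (x : G) * β'⁻¹ * (x : G)⁻¹ ∈ F.B :=
      (mem_normalizer_iff.1 (hTH hx) β'⁻¹).1 (F.B.inv_mem hβ'B)
    rw [show (g : G) * (β * (x : G) * β⁻¹ * (x : G)⁻¹) * (g : G)⁻¹ = β' * c * ((x : G) * β'⁻¹ * (x : G)⁻¹) * c⁻¹ by
      rw [hβ'', hc]; group]
    rw [mul_assoc β' c, ← mem_centralizer_iff.1 h1 _ hxB, ← mul_assoc, mul_inv_cancel_right,
      show β' * ((x : G) * β'⁻¹ * (x : G)⁻¹) = β' * (x : G) * β'⁻¹ * (x : G)⁻¹ by group]
    exact F.comm_AB hx (F.B_le hβ'B)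
  have hOW : O ≤ W := CfsgLib.SolvSignalizer.le_of_fixed_points hS'el hS'4
    (fun _ _ => CfsgLib.ProdFusion.mem_of_forall_conj_mem fun x hx => (inferInstance : O.Normal).conj_mem x hx _)
    (fun h => (Nat.prime_two.coprime_iff_not_dvd.1 (CfsgLib.Coprime.pPrimeCore_coprime
      (G := H ⧸ C.subgroupOf H) Nat.prime_two).symm) h)
    hfix
  intro g hg
  obtain ⟨c, hc, d, hd, he⟩ := hdec (q ⟨g, hg⟩)
  obtain ⟨s, hs, rfl⟩ := hc
  obtain ⟨y, hy, rfl⟩ := hOW hd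
  have h1 : q ((s * y)⁻¹ * ⟨g, hg⟩) = 1 := by
    rw [map_mul, map_inv, map_mul, ← he, inv_mul_cancel]
  rw [hqk] at h1
  push_cast at h1
  have hsN : (s : G) ∈ normalizer (F.Z : Set G) := F.N_T_le_Z (le_normalizer hs)
  rw [show g = (s : G) * y * (((s : G) * y)⁻¹ * g) by group]
  exact mul_mem (mul_mem hsN hy)
    (CfsgLib.Coprime.centralizer_le_normalizer_self _ (centralizer_le F.Z_le_B h1))

end Frame

end CfsgLib.Invol.L34Type
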