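import Cfsg.Agent.Lib.Invol.L34Type.CaseTwo
import Cfsg.Agent.Lib.Invol.L34Type.Scaling
import Cfsg.Agent.Lib.Invol.L34Type.Endgame
import Mathlib.GroupTheory.PGroup

/-!
# One fused side and one bad side: a group of order 48960 with impossible conjugates
-/

set_option autoImplicit false
set_option linter.unusedSectionVars false
set_option linter.style.haveILetI false

namespace CfsgLib.Invol.L34Type

open Subgroup
open CfsgLib.Invol
open CfsgLib.Invol.HeisFour (V fm H4)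
open CfsgLib.Coprime (conjBy mem_conjBy conjBy_eq_self_iff)
open CfsgLib.ProdFusion (OC OC_le odd_card_OC le_normalizer_OC_self)
open CfsgLib.Invol.EightTypeThree (Nice)

universe u

variable {G : Type u} [Group G] [Finite G]

/-- the second element encoded by four coordinates over the central involution with coordinate `c` -/
abbrev overCond (c : V) (x : (V × V) × (V × V)) : Prop :=
  (x.1 ≠ 0 ∧ x.2.1 ≠ 0) ∧
    ((⟨0, x.1.1, x.1.2⟩ : H4) * ⟨x.2.1, 0, x.2.2⟩ = ⟨0, 0, c⟩ ∨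
      ((⟨0, x.1.1, x.1.2⟩ : H4) * ⟨x.2.1, 0, x.2.2⟩) ^ 2 = ⟨0, 0, c⟩ ∨
      ((⟨0, x.1.1, x.1.2⟩ : H4) * ⟨x.2.1, 0, x.2.2⟩) ^ 3 = ⟨0, 0, c⟩)

theorem card_overCond : ∀ c : V, c ≠ 0 → (Finset.univ.filter (overCond c)).card = 48 := by decide +kernel

theorem prod_four : ∀ p q : H4, p.a = 0 → q.b = 0 → (p * q) ^ 4 = 1 := by decide +kernel

theorem scalar_cube : ∀ l : V, l ≠ 0 → fm l (fm l l) = (1, 0) := by decide +kernel

theorem scalar_fix_prod : ∀ l m r : V, l ≠ (1, 0) → l ≠ 0 → m ≠ 0 → r ≠ (1, 0) → r ≠ 0 →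
        fm l m = (1, 0) ∨ fm l (fm m r) = (1, 0) ∨ fm l (fm m (fm r r)) = (1, 0) := by decide +kernel

theorem scalar_unit : ∀ l' m' a b : V, l' ≠ (1, 0) → fm l' m' = (1, 0) → fm a b = (1, 0) →
        (a = (1, 0) ∧ b = (1, 0)) ∨ (a = l' ∧ b = m') ∨ (a = fm l' l' ∧ b = fm m' m') := by decide +kernel

theorem mpow_injective : ∀ l : V, l ≠ (1, 0) → l ≠ 0 → ∀ i j : Fin 3, mpow l i = mpow l j → i = j := by decide +kernel

namespace Frame

variable {F : Frame G}

theorem Fixer.card_isoPart {t h : G} (H : F.Fixer t h) (hα : ¬ F.Alpha) (ht : t ∈ F.A) (htZ : t ∉ F.Z) :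
    Nat.card (F.isoPart t h) = Nat.card (Cfsg.pPrimeCore 2 (centralizer ({t} : Set G))) * 4 := by
  set C := centralizer ({t} : Set G) with hC
  rw [← H.card_A0, ← Nat.card_prod]
  refine (Nat.card_congr (Equiv.ofBijective
    (fun p : Cfsg.pPrimeCore 2 C × (F.A ⊓ centralizer ({h} : Set G) : Subgroup G) =>
    (⟨(p.1 : C) * ⟨(p.2 : G), F.A_le_centralizer ht p.2.2.1⟩,
      mul_mem ((QuotientGroup.eq_one_iff (p.1 : C)).1 (H.locMap_core hα ht htZ p.1.2))
        ((QuotientGroup.eq_one_iff (⟨(p.2 : G), F.A_le_centralizer ht p.2.2.1⟩ : C)).1 (H.locMap_A0 hα ht htZ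
          (a := ⟨(p.2 : G), F.A_le_centralizer ht p.2.2.1⟩) p.2.2))⟩ : F.isoPart t h)) ⟨?_, ?_⟩)).symm
  · rintro ⟨o, a⟩ ⟨o', a'⟩ e
    have e' : (o : C) * ⟨a, F.A_le_centralizer ht a.2.1⟩ = o' * ⟨a', F.A_le_centralizer ht a'.2.1⟩ :=
      congrArg Subtype.val e
    have h2 : (o' : C)⁻¹ * o =
        (⟨a', F.A_le_centralizer ht a'.2.1⟩ : C) * (⟨a, F.A_le_centralizer ht a.2.1⟩ : C)⁻¹ := by
      rw [inv_mul_eq_iff_eq_mul, ← mul_assoc, ← e', mul_inv_cancel_right]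
    have h3 : (o' : C)⁻¹ * o = 1 := CfsgLib.ProdFusion.eq_one_of_sq (odd_pPrimeCore C)
      (mul_mem (inv_mem o'.2) o.2) (by
        rw [h2]; exact Subtype.ext (F.sq_of_mem (F.A.mul_mem a'.2.1 (F.A.inv_mem a.2.1))))
    have ho : (o : C) = o' := (inv_mul_eq_one.1 h3).symm
    refine Prod.ext (Subtype.ext ho) (Subtype.ext ?_)
    rw [ho] at e'
    have h4 := mul_left_cancel e'
    exact congrArg (fun x : C => (x : G)) h4
  · rintro ⟨c, hc⟩
    obtain ⟨o, ho, a, ha, rfl⟩ := H.mem_iso hα ht htZ ((QuotientGroup.eq_one_iff c).2 hc)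
    exact ⟨(⟨o, ho⟩, ⟨a, ha⟩), rfl⟩

/-- the centraliser of an outer element of the bad side normalises the signalizer subgroup -/
theorem Fixer.cent_le_NW {t h : G} (H : F.Fixer t h) (hα : ¬ F.Alpha) (hA : F.Bad) (ht : t ∈ F.A)
    (htZ : t ∉ F.Z) (hW : Odd (Nat.card F.W)) :
    centralizer ({t} : Set G) ≤ normalizer (F.W : Set G) := by
  haveI : Fact (Nat.Prime 2) := ⟨Nat.prime_two⟩
  set A0 := F.A ⊓ centralizer ({h} : Set G) with hA0
  set W0 := ⨆ a : {a : G // a ∈ A0 ∧ a ≠ 1}, θ (a : G) with hW0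
  have hel : Cfsg.IsElementaryAbelian 2 A0 :=
    ⟨⟨⟨fun x y => Subtype.ext (F.comm_A x.2.1 y.2.1)⟩⟩, fun a ha => F.elemA.2 a ha.1⟩
  have hθW : ∀ e ∈ F.Z, e ≠ 1 → θ e ≤ W0 := by
    intro e he he1
    refine CfsgLib.SolvSignalizer.le_of_fixed_points hel (by rw [H.card_A0]; norm_num)
      (fun c hc => CfsgLib.ProdFusion.mem_of_forall_conj_mem fun x hx => F.A_inv_θ (F.Z_le_A he) c hc.1 x hx)
      (fun h => Nat.not_even_iff_odd.2 (odd_card_OC (centralizer ({e} : Set G))) (even_iff_two_dvd.2 h))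
      fun a ha ha1 => le_trans ?_ (le_iSup (fun a : {a : G // a ∈ A0 ∧ a ≠ 1} => θ (a : G)) ⟨a, ha, ha1⟩)
    by_cases hn : Nice F.A a
    · exact F.balance (F.Z_le_A he) ha.1 hn
    · have haZ : a ∉ F.Z := fun h => ha1 (H.A0_Z ha h)
      obtain ⟨k, K⟩ := F.exists_fixer hA ha.1 haZ
      exact K.balance_bad hα ha.1 haZ hn hW he he1
  have hWeq : F.W = W0 := le_antisymm (iSup_le fun e => hθW e e.2.1 e.2.2) (iSup_le fun a => F.θ_le_W a.2.1.1)
  have hA0N : A0 ≤ normalizer (F.W : Set G) := inf_le_left.trans (le_normalizer.trans F.normA_le_W)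
  intro g hg
  set R := (F.isoPart t h).map (centralizer ({t} : Set G)).subtype with hR
  have hA0R : A0 ≤ R := fun a ha => ⟨⟨a, F.A_le_centralizer ht ha.1⟩, (QuotientGroup.eq_one_iff _).1
    (H.locMap_A0 hα ht htZ (a := ⟨a, F.A_le_centralizer ht ha.1⟩) ha), rfl⟩
  have hconj : conjBy g A0 ≤ R := by
    rintro _ ⟨a, ha, rfl⟩
    exact ⟨⟨g, hg⟩ * ⟨a, F.A_le_centralizer ht ha.1⟩ * ⟨g, hg⟩⁻¹,
      (F.isoPart_normal t h).conj_mem _ ((QuotientGroup.eq_one_iff _).1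
        (H.locMap_A0 hα ht htZ (a := ⟨a, F.A_le_centralizer ht ha.1⟩) ha)) _, rfl⟩
  have hidx : ¬ 2 ∣ (A0.subgroupOf R).index := by
    intro h2
    have h3 := (A0.subgroupOf R).card_mul_index
    have hRc : Nat.card R = Nat.card (Cfsg.pPrimeCore 2 (centralizer ({t} : Set G))) * 4 := by
      rw [hR, card_map_of_injective (centralizer ({t} : Set G)).subtype_injective, H.card_isoPart hα ht htZ]
    rw [Nat.card_congr (subgroupOfEquivOfLe hA0R).toEquiv, H.card_A0, hRc] at h3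
    have h4 : (A0.subgroupOf R).index = Nat.card (Cfsg.pPrimeCore 2 (centralizer ({t} : Set G))) := by omega
    rw [h4] at h2
    exact Nat.not_even_iff_odd.2 (odd_pPrimeCore _) (even_iff_two_dvd.2 h2)
  obtain ⟨r, hr⟩ := exists_conj_le_sylow
    ((((F.T.2.to_le F.A_le).to_le inf_le_left).map _).of_equiv (subgroupOfEquivOfLe hconj).symm)
    ((((F.T.2.to_le F.A_le).to_le inf_le_left).of_equiv (subgroupOfEquivOfLe hA0R).symm).toSylow hidx)
  have hrW : (r : G) ∈ normalizer (F.W : Set G) := by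
    obtain ⟨c, hc, hce⟩ := r.2
    obtain ⟨o, ho, a, ha, rfl⟩ := H.mem_iso hα ht htZ ((QuotientGroup.eq_one_iff c).2 hc)
    rw [← hce]
    exact mul_mem (le_normalizer (F.θ_le_W ht ⟨o, ho, rfl⟩)) (hA0N ha)
  have hcent : ∀ a ∈ A0, Commute ((r : G) * g) a := by
    intro a ha
    have hmem : (r : G) * g * a * ((r : G) * g)⁻¹ ∈ A0 := by
      rw [show (r : G) * g * a * ((r : G) * g)⁻¹ = r * (g * a * g⁻¹) * (r : G)⁻¹ by group]
      exact hr ⟨g * a * g⁻¹, hconj ⟨a, ha, rfl⟩⟩ ⟨a, ha, rfl⟩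
    refine mul_inv_eq_iff_eq_mul.1 (H.isolated hα ht htZ ?_ ha hmem.1)
    exact Commute.mul_left (mem_centralizer_singleton_iff.1 ((map_subtype_le _) r.2) : Commute (r : G) t)
      (mem_centralizer_singleton_iff.1 hg)
  have hN : (r : G) * g ∈ normalizer (F.W : Set G) := by
    refine CfsgLib.ProdFusion.mem_of_forall_conj_mem fun x hx => ?_
    have hle : conjBy ((r : G) * g) F.W ≤ F.W := by
      rw [hWeq, conjBy, Subgroup.map_iSup]
      refine iSup_le fun a => ?_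
      show conjBy ((r : G) * g) (θ (a : G)) ≤ _
      rw [conjBy_θ, (hcent a a.2.1).eq, mul_inv_cancel_right]
      exact le_iSup (fun a : {a : G // a ∈ A0 ∧ a ≠ 1} => θ (a : G)) a
    exact hle ⟨x, hx, rfl⟩
  have := mul_mem (inv_mem hrW) hN
  rwa [inv_mul_cancel_left] at this

variable (F)

/-- the signalizer subgroup is trivial -/
theorem W_bot_of_mixed (hO : Cfsg.oddCore G = ⊥) (hα : ¬ F.Alpha) (hβ : F.swap.Alpha) (hA : F.Bad) :
    F.W = ⊥ := by
  have hniceB : ∀ b ∈ F.swap.A, b ≠ 1 → Nice F.swap.A b := fun b hb hb1 => F.swap.nice_all (Or.inl hβ) hb hb1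
  have hW : Odd (Nat.card F.W) := by rw [← F.swap_W]; exact F.swap.odd_W hniceB
  set M := normalizer (F.W : Set G) with hM
  have hθ : ∀ {i : G}, i ∈ F.A → θ i ≤ M := fun hi => (F.θ_le_W hi).trans le_normalizer
  have hcen : ∀ i ∈ (F.T : Subgroup G), orderOf i = 2 → centralizer ({i} : Set G) ≤ M := by
    intro i hi hio g hg
    have hi1 : i ≠ 1 := invol_ne_one hio
    rcases F.invol_cases hi (invol_mul_self hio) with h | h
    · by_cases hZ : i ∈ F.Z
      · obtain ⟨o, ho, n, hn, rfl⟩ := F.cz_factor hZ hi1 hg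
        exact M.mul_mem (hθ h ho) (F.normA_le_W (F.N_T_le_A hn.1))
      · obtain ⟨k, K⟩ := F.exists_fixer hA h hZ
        exact K.cent_le_NW hα hA h hZ hW hg
    · obtain ⟨o, ho, n, hn, rfl⟩ := hniceB i (by rw [F.swap_A]; exact h) hi1 g hg
      refine M.mul_mem ?_ ?_
      · have h1 := F.swap.θ_le_W (a := i) (by rw [F.swap_A]; exact h) ho
        rw [F.swap_W] at h1
        exact le_normalizer h1
      · exact F.normB_le_W (F.swap_A ▸ hn.1)
  rcases F.top_or_embedded F.normA_le_W F.normB_le_W hcen with h | h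
  · exact F.W_bot hO hW h
  · exact absurd (F.alpha_of_embedded h) hα

/-- **one fused and one bad side is impossible** -/
theorem false_of_mixed (hO : Cfsg.oddCore G = ⊥) (hα : ¬ F.Alpha) (hβ : F.swap.Alpha) (hA : F.Bad) {t : G}
    (ht : t ∈ F.A) (htZ : t ∉ F.Z) (hn : ¬ Nice F.A t) : False := by
  classical
  haveI := Fintype.ofFinite G
  haveI : Fact (Nat.Prime 2) := ⟨Nat.prime_two⟩
  haveI : Fact (Nat.Prime 5) := ⟨by norm_num⟩
  have hWb := F.W_bot_of_mixed hO hα hβ hA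
  have hWodd : Odd (Nat.card F.W) := by rw [hWb, Subgroup.card_bot]; exact odd_one
  have hsel : centralizer ((F.T : Subgroup G) : Set G) ≤ (F.T : Subgroup G) := F.selfc hWb
  set NT := normalizer ((F.T : Subgroup G) : Set G) with hNT
  set H := normalizer (F.B : Set G) with hH
  have hNTH : NT ≤ H := F.N_T_le_B
  obtain ⟨h, Hf⟩ := F.exists_fixer hA ht htZ
  obtain ⟨r, hr0, hr1, hrp, hrc⟩ := Hf.scal
  have hh : F.Acts h (1, 0) r := ⟨fun p => by
    obtain ⟨d, hd⟩ := hrp p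
    exact ⟨d, by rw [fm_one]; exact hd⟩, fun c => by rw [fm_one, hrc]⟩
  obtain ⟨z, hz, hz1⟩ := F.exists_Z_ne_one
  have hzo : orderOf z = 2 := invol_iff.2 ⟨F.sq_of_mem (F.Z_le_A hz), hz1⟩
  have hto : orderOf t = 2 := invol_iff.2 ⟨F.sq_of_mem ht, fun e => htZ (by rw [e]; exact F.Z.one_mem)⟩
  have hzT : z ∈ (F.T : Subgroup G) := F.Z_le hz
  obtain ⟨s, hsN, l, m, hl0, hm0, hl1, hs⟩ := F.exists_scaling hβ
  -- an element of `C(z)` scaling both coordinates
  obtain ⟨n, l', m', hnN, hl'1, hl'0, hlm', hn'⟩ : ∃ n l' m', n ∈ NT ∧ l' ≠ (1, 0) ∧ l' ≠ 0 ∧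
      fm l' m' = (1, 0) ∧ F.Acts n l' m' := by
    rcases scalar_fix_prod l m r hl1 hl0 hm0 hr1 hr0 with e | e | e
    · exact ⟨s, l, m, hsN, hl1, hl0, e, hs⟩
    · have h' := hs.mul hh
      rw [fm_one_right] at h'
      exact ⟨s * h, l, _, mul_mem hsN Hf.mem, hl1, hl0, e, h'⟩
    · have h' := hs.mul (hh.mul hh)
      rw [fm_one, fm_one_right] at h'
      exact ⟨s * (h * h), l, _, mul_mem hsN (mul_mem Hf.mem Hf.mem), hl1, hl0, e, h'⟩
  have hnz : Commute n z := hn'.commute hlm' hz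
  -- classes
  have hBclass : ∀ b ∈ F.B, b ≠ 1 → ∃ y ∈ H, y * z * y⁻¹ = b := by
    intro b hb hb1
    obtain ⟨y, hy, hyZ⟩ := F.swap.exists_to_Z hβ (a := b) (by rw [F.swap_A]; exact hb)
    rw [F.swap_A] at hy
    rw [F.swap_Z] at hyZ
    obtain ⟨j, hj⟩ := Hf.move hz hz1 hyZ (fun e => hb1 (conj_eq_one_iff.1 e))
    refine ⟨y⁻¹ * h ^ j, mul_mem (inv_mem hy) (hNTH (pow_mem Hf.mem j)), ?_⟩
    rw [show y⁻¹ * h ^ j * z * (y⁻¹ * h ^ j)⁻¹ = y⁻¹ * (h ^ j * z * (h ^ j)⁻¹) * y by group, hj]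
    group
  have hnzt : ¬ IsConj z t := fun e => F.not_isConj_AZ hα ht htZ hz e.symm
  have hTclass : ∀ x ∈ (F.T : Subgroup G), orderOf x = 2 →
      (x ∈ F.B ∧ IsConj z x) ∨ (x ∈ F.A ∧ x ∉ F.Z ∧ IsConj t x) := by
    intro x hx hxo
    by_cases hxB : x ∈ F.B
    · obtain ⟨y, -, hy⟩ := hBclass x hxB (invol_ne_one hxo)
      exact Or.inl ⟨hxB, isConj_iff.2 ⟨y, hy⟩⟩
    · have hxA := (F.invol_cases hx (invol_mul_self hxo)).resolve_right hxB
      have hxZ : x ∉ F.Z := fun e => hxB (F.Z_le_B e)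
      exact Or.inr ⟨hxA, hxZ, F.outer_class hn' hl'1 hl'0 ht htZ hxA hxZ⟩
  have hall : ∀ w : G, orderOf w = 2 → IsConj z w ∨ IsConj t w := by
    intro w hw
    obtain ⟨c, hc⟩ := exists_conj_le_sylow (Q := zpowers w)
      (IsPGroup.of_card (n := 1) (by rw [Nat.card_zpowers, hw, pow_one])) F.T
    have hwc : IsConj (c * w * c⁻¹) w := isConj_iff.2 ⟨c⁻¹, by group⟩
    rcases hTclass _ (hc w (mem_zpowers w)) (invol_conj hw c) with ⟨-, h'⟩ | ⟨-, -, h'⟩
    · exact Or.inl (h'.trans hwc)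
    · exact Or.inr (h'.trans hwc)
  -- the centraliser of `z`
  have hCz : centralizer ({z} : Set G) ≤ NT := F.cz_le hWb hz hz1
  have hTz : (F.T : Subgroup G) ≤ centralizer ({z} : Set G) := F.T_le_centralizer hz
  have hzcoord : z = F.hom ⟨0, 0, (F.e.symm ⟨z, hzT⟩).c⟩ ∧ (F.e.symm ⟨z, hzT⟩).c ≠ 0 := by
    obtain ⟨p, hp, hpe⟩ := hz
    have hpeq : F.e.symm ⟨z, hzT⟩ = p := F.e.symm_apply_eq.2 (Subtype.ext hpe.symm)
    have hp' : p = (⟨0, 0, p.c⟩ : H4) := CfsgLib.Invol.HeisFour.H4.ext' hp.2 hp.1 rfl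
    rw [hpeq]
    refine ⟨by rw [← hp']; exact hpe.symm, fun e => hz1 ?_⟩
    rw [← hpe, show p = 1 from hp'.trans (by rw [e]; rfl), map_one]
  set c := (F.e.symm ⟨z, hzT⟩).c with hc
  obtain ⟨hzc, hc0⟩ := hzcoord
  have hzprod : ∀ {g : G}, g ∈ centralizer ({z} : Set G) → ∃ i : Fin 3, (n ^ (i : ℕ))⁻¹ * g ∈ (F.T : Subgroup G) := by
    intro g hg
    have hgN := hCz hg
    obtain ⟨a, b, ha, hb, hab⟩ := F.acts_all hgN
    have hab1 : fm a b = (1, 0) := by
      have h1 := hab.ctr c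
      rw [← hzc, mem_centralizer_singleton_iff.1 hg, mul_inv_cancel_right, hzc] at h1
      exact scalar_one _ c (congrArg H4.c (F.hom_injective h1)).symm hc0
    rcases scalar_unit l' m' a b hl'1 hlm' hab1 with ⟨rfl, rfl⟩ | ⟨ea, eb⟩ | ⟨ea, eb⟩
    · exact ⟨0, by simpa using F.mem_T_of_trivial hsel hgN hab⟩
    · refine ⟨1, ?_⟩
      obtain ⟨a', b', hinv, -, -, -, -⟩ := hn'.pow (orderOf n - 1)
      have hn1 : n ^ (orderOf n - 1) = n⁻¹ := eq_inv_of_mul_eq_one_left (by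
        rw [← pow_succ, Nat.sub_add_cancel (orderOf_pos n), pow_orderOf_eq_one])
      rw [hn1] at hinv
      have h1 := hinv.mul hn'
      rw [inv_mul_cancel] at h1
      obtain ⟨e1, e2⟩ := Acts.unique h1 Acts.one
      have h2 := hinv.mul hab
      rw [ea, eb, e1, e2] at h2
      simpa using F.mem_T_of_trivial hsel (mul_mem (inv_mem hnN) hgN) h2
    · refine ⟨2, ?_⟩
      obtain ⟨a', b', hinv, -, -, -, -⟩ := (hn'.mul hn').pow (orderOf (n * n) - 1)
      have hn1 : (n * n) ^ (orderOf (n * n) - 1) = (n * n)⁻¹ := eq_inv_of_mul_eq_one_left (by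
        rw [← pow_succ, Nat.sub_add_cancel (orderOf_pos _), pow_orderOf_eq_one])
      rw [hn1] at hinv
      have h1 := hinv.mul (hn'.mul hn')
      rw [inv_mul_cancel] at h1
      obtain ⟨e1, e2⟩ := Acts.unique h1 Acts.one
      have h2 := hinv.mul hab
      rw [ea, eb, e1, e2] at h2
      have h3 := F.mem_T_of_trivial hsel (mul_mem (inv_mem (mul_mem hnN hnN)) hgN) h2
      simpa [pow_two] using h3
  have hcardz : Nat.card (centralizer ({z} : Set G)) = 192 := by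
    have e : Nat.card (Fin 3 × (F.T : Subgroup G)) = Nat.card (centralizer ({z} : Set G)) := by
      refine Nat.card_congr (Equiv.ofBijective (fun p => (⟨n ^ (p.1 : ℕ) * p.2,
        mul_mem (pow_mem (mem_centralizer_singleton_iff.2 hnz.eq) _) (hTz p.2.2)⟩ :
          centralizer ({z} : Set G))) ⟨?_, ?_⟩)
      · rintro ⟨i, x⟩ ⟨j, y⟩ e
        have e' : n ^ (i : ℕ) * (x : G) = n ^ (j : ℕ) * y := congrArg Subtype.val e
        have hacts : ∀ (i : Fin 3) (x : (F.T : Subgroup G)), ∃ b, F.Acts (n ^ (i : ℕ) * x) (mpow l' i) b := by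
          intro i x
          fin_cases i
          · exact ⟨_, by simpa [mpow, fm_one_right] using (Acts.one (F := F)).mul (F.acts_T x.2)⟩
          · exact ⟨_, by simpa [mpow, fm_one_right] using hn'.mul (F.acts_T x.2)⟩
          · exact ⟨_, by simpa [mpow, fm_one_right, pow_two] using (hn'.mul hn').mul (F.acts_T x.2)⟩
        obtain ⟨b, hb⟩ := hacts i x
        obtain ⟨b', hb'⟩ := hacts j y
        rw [e'] at hb
        have hij : i = j := by
          have e1 := (Acts.unique hb hb').1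
          exact mpow_injective l' hl'1 hl'0 i j e1
        subst hij
        exact Prod.ext rfl (Subtype.ext (mul_left_cancel e'))
      · rintro ⟨g, hg⟩
        obtain ⟨i, hi⟩ := hzprod hg
        exact ⟨(i, ⟨_, hi⟩), Subtype.ext (mul_inv_cancel_left _ _)⟩
    rw [← e, Nat.card_prod, F.card_T]; simp
  obtain ⟨hcardt, hPt⟩ := Hf.counts hα ht htZ hn hWodd (F.θ_bot hWb ht) hz hz1
  -- pairs over `z`
  have hPz : Nat.card {p : G × G // IsConj z p.1 ∧ IsConj t p.2 ∧ z ∈ zpowers (p.1 * p.2)} = 48 := by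
    rw [← card_overCond c hc0, ← Fintype.card_subtype, ← Nat.card_eq_fintype_card]
    have hC : ∀ {x : G}, orderOf x = 2 → Commute x z → x ∈ (F.T : Subgroup G) := by
      intro x hxo hxz
      exact F.two_mem_T (hCz (mem_centralizer_singleton_iff.2 hxz.eq))
        (IsPGroup.of_card (n := 1) (by rw [Nat.card_zpowers, hxo, pow_one]))
    symm
    refine Nat.card_congr (Equiv.ofBijective (fun x : {x : (V × V) × (V × V) // overCond c x} =>
      (⟨(F.hom ⟨0, x.1.1.1, x.1.1.2⟩, F.hom ⟨x.1.2.1, 0, x.1.2.2⟩), ?_, ?_, ?_⟩ :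
        {p : G × G // IsConj z p.1 ∧ IsConj t p.2 ∧ z ∈ zpowers (p.1 * p.2)})) ⟨?_, ?_⟩)
    · have h1 : F.hom ⟨0, x.1.1.1, x.1.1.2⟩ ≠ 1 := fun e => x.2.1.1 (by
        have e1 := F.hom_injective (e.trans (map_one F.hom).symm)
        exact Prod.ext (congrArg H4.b e1) (congrArg H4.c e1))
      obtain ⟨y, -, hy⟩ := hBclass _ (F.hom_mem_B.2 rfl) h1
      exact isConj_iff.2 ⟨y, hy⟩
    · have h1 : F.hom ⟨x.1.2.1, 0, x.1.2.2⟩ ∉ F.Z := fun e => x.2.1.2 (F.hom_mem_Z.1 e).2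
      exact F.outer_class hn' hl'1 hl'0 ht htZ (F.hom_mem_A.2 rfl) h1
    · rw [← map_mul, hzc]
      rcases x.2.2 with e | e | e
      · rw [e]; exact mem_zpowers _
      · rw [← e, map_pow]; exact pow_mem (mem_zpowers _) _
      · rw [← e, map_pow]; exact pow_mem (mem_zpowers _) _
    · rintro ⟨⟨⟨b1, c1⟩, ⟨a2, c2⟩⟩, h1⟩ ⟨⟨⟨b1', c1'⟩, ⟨a2', c2'⟩⟩, h2⟩ e
      have e' := congrArg Subtype.val e
      have e1 := F.hom_injective (congrArg Prod.fst e' :)
      have e2 := F.hom_injective (congrArg Prod.snd e' :)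
      refine Subtype.ext (Prod.ext (Prod.ext ?_ ?_) (Prod.ext ?_ ?_))
      · exact congrArg H4.b e1
      · exact congrArg H4.c e1
      · exact congrArg H4.a e2
      · exact congrArg H4.c e2
    · rintro ⟨⟨x, y⟩, hx, hy, hmem⟩
      have hxo := invol_of_isConj hzo hx
      have hyo := invol_of_isConj hto hy
      obtain ⟨hxz, hyz⟩ := commute_of_mem_zpowers hxo hyo hzo hmem
      obtain ⟨p, rfl⟩ := F.exists_of_mem (hC hxo hxz)
      obtain ⟨q, rfl⟩ := F.exists_of_mem (hC hyo hyz)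
      have hpa : p.a = 0 := by
        rcases hTclass _ (F.hom_mem p) hxo with ⟨h', -⟩ | ⟨-, -, h'⟩
        · exact F.hom_mem_B.1 h'
        · exact absurd (hx.trans h'.symm) hnzt
      have hp0 : (p.b, p.c) ≠ (0 : V × V) := fun e => invol_ne_one hxo (by
        rw [show p = 1 from CfsgLib.Invol.HeisFour.H4.ext' hpa (congrArg Prod.fst e) (congrArg Prod.snd e), map_one])
      obtain ⟨hqb, hqa⟩ : q.b = 0 ∧ q.a ≠ 0 := by
        rcases hTclass _ (F.hom_mem q) hyo with ⟨-, h'⟩ | ⟨h', h'', -⟩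
        · exact absurd (h'.trans hy.symm) hnzt
        · exact ⟨F.hom_mem_A.1 h', fun e => h'' (F.hom_mem_Z.2 ⟨F.hom_mem_A.1 h', e⟩)⟩
      have hp' : (⟨0, p.b, p.c⟩ : H4) = p := CfsgLib.Invol.HeisFour.H4.ext' hpa.symm rfl rfl
      have hq' : (⟨q.a, 0, q.c⟩ : H4) = q := CfsgLib.Invol.HeisFour.H4.ext' rfl hqb.symm rfl
      have hcond : overCond c ((p.b, p.c), (q.a, q.c)) := by
        refine ⟨⟨hp0, hqa⟩, ?_⟩
        obtain ⟨j, hj⟩ := (isOfFinOrder_of_finite (F.hom p * F.hom q)).mem_powers_iff_mem_zpowers.2 hmem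
        rw [show (⟨0, (((p.b, p.c), (q.a, q.c)) : (V × V) × (V × V)).1.1, p.c⟩ : H4) = p from hp', hq']
        have hj' : (p * q) ^ j = ⟨0, 0, c⟩ := F.hom_injective (by rw [map_pow, map_mul]; exact hj.trans hzc)
        rw [← Nat.mod_add_div j 4, pow_add, pow_mul, prod_four p q hpa hqb, one_pow, mul_one] at hj'
        have hlt : j % 4 < 4 := Nat.mod_lt _ (by norm_num)
        generalize hi : j % 4 = i at hj' hlt
        interval_cases i
        · rw [pow_zero] at hj'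
          exact absurd (congrArg H4.c hj').symm hc0
        · exact Or.inl (by rwa [pow_one] at hj')
        · exact Or.inr (Or.inl hj')
        · exact Or.inr (Or.inr hj')
      exact ⟨⟨_, hcond⟩, Subtype.ext (Prod.ext (congrArg F.hom hp') (congrArg F.hom hq'))⟩
  have hG : Nat.card G = 48960 := by
    rw [thompson_two_classes z t hzo hto hnzt hall, hcardz, hcardt, hPz, hPt]
  -- the normaliser of `B`
  have hzH : z ∈ H := hNTH (le_normalizer hzT)
  have hcardH : Nat.card H = 2880 := by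
    have h1 := card_isConj_mul (⟨z, hzH⟩ : H)
    have h2 : Nat.card {y : H // IsConj (⟨z, hzH⟩ : H) y} = 15 := by
      have e : {y : H // IsConj (⟨z, hzH⟩ : H) y} ≃ {b : F.B // b ≠ 1} :=
        Equiv.ofBijective (fun y => (⟨⟨((y : H) : G), by
            obtain ⟨k, hk⟩ := isConj_iff.1 y.2
            rw [← hk]
            exact (mem_normalizer_iff.1 k.2 z).1 (F.Z_le_B hz)⟩, fun e => by
            obtain ⟨k, hk⟩ := isConj_iff.1 y.2
            have h3 : (k : G) * z * (k : G)⁻¹ = 1 := by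
              exact (congrArg Subtype.val hk).trans (congrArg (fun b : F.B => (b : G)) e)
            exact hz1 (conj_eq_one_iff.1 h3)⟩ : {b : F.B // b ≠ 1}))
          ⟨fun a b e => Subtype.ext (Subtype.ext (congrArg (fun x : {b : F.B // b ≠ 1} => ((x : F.B) : G)) e)),
            fun b => by
              obtain ⟨y, hy, hye⟩ := hBclass b.1 b.1.2 fun e => b.2 (Subtype.ext e)
              exact ⟨⟨⟨b.1, le_normalizer b.1.2⟩, isConj_iff.2 ⟨⟨y, hy⟩, Subtype.ext hye⟩⟩, rfl⟩⟩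
      haveI := Fintype.ofFinite F.B
      rw [Nat.card_congr e, Nat.card_eq_fintype_card, Fintype.card_subtype_compl, Fintype.card_subtype_eq,
        ← Nat.card_eq_fintype_card, F.card_B]
    have h3 : Nat.card (centralizer ({(⟨z, hzH⟩ : H)} : Set H)) = 192 := by
      rw [← hcardz]
      refine Nat.card_congr (Equiv.ofBijective (fun k => (⟨((k : H) : G), mem_centralizer_singleton_iff.2
        (congrArg Subtype.val (mem_centralizer_singleton_iff.1 k.2))⟩ : centralizer ({z} : Set G))) ⟨?_, ?_⟩)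
      · exact fun a b e => Subtype.ext (Subtype.ext (congrArg (fun x : centralizer ({z} : Set G) => (x : G)) e))
      · rintro ⟨g, hg⟩
        exact ⟨⟨⟨g, hNTH (hCz hg)⟩, mem_centralizer_singleton_iff.2
          (Subtype.ext (mem_centralizer_singleton_iff.1 hg))⟩, rfl⟩
    rw [h2, h3] at h1
    omega
  -- the conjugates of `B`
  have hΩ : Nat.card (G ⧸ H) = 17 := by
    have h1 := H.index_mul_card
    rw [hcardH, hG] at h1
    have h2 : H.index = Nat.card (G ⧸ H) := rfl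
    omega
  set o : G ⧸ H := QuotientGroup.mk (1 : G) with ho
  have hstab : ∀ g : G, g • o = o ↔ g ∈ H := by
    intro g
    rw [ho, MulAction.Quotient.smul_mk, smul_eq_mul, mul_one, QuotientGroup.eq]
    simp
  have hsemi : ∀ (b : G) (ω : G ⧸ H), b ∈ F.B → b ≠ 1 → b • ω = ω → ω = o := by
    intro b ω hb hb1 hfix
    obtain ⟨g, rfl⟩ := QuotientGroup.mk_surjective ω
    rw [MulAction.Quotient.smul_mk, smul_eq_mul, QuotientGroup.eq] at hfix
    have hm' : g⁻¹ * b * g ∈ H := by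
      have := H.inv_mem hfix
      rw [show ((b * g)⁻¹ * g)⁻¹ = g⁻¹ * b * g by group] at this
      exact this
    have hbo : orderOf b = 2 := invol_iff.2 ⟨F.swap.sq_of_mem (a := b) (by rw [F.swap_A]; exact hb), hb1⟩
    have hmo : orderOf (g⁻¹ * b * g) = 2 := by simpa using invol_conj hbo g⁻¹
    obtain ⟨c', hc', hcT⟩ := exists_conj_into F.T.2 F.not_dvd_index (F.T_le_normalizer_B) (zpowers_le.2 hm')
      (IsPGroup.of_card (n := 1) (by rw [Nat.card_zpowers, hmo, pow_one]))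
    obtain ⟨y, hy, hye⟩ := hBclass b hb hb1
    rcases hTclass _ (hcT _ (mem_zpowers _)) (invol_conj hmo c') with ⟨h', -⟩ | ⟨-, -, h'⟩
    · have hBb : g⁻¹ * b * g ∈ F.B := (mem_normalizer_iff.1 hc' _).2 h'
      obtain ⟨y', hy', hy'e⟩ := hBclass _ hBb (invol_ne_one hmo)
      have h5 : y⁻¹ * g * y' ∈ centralizer ({z} : Set G) := mem_centralizer_singleton_iff.2 (by
        calc y⁻¹ * g * y' * z = y⁻¹ * g * (y' * z * y'⁻¹) * y' := by group
          _ = y⁻¹ * g * (g⁻¹ * (y * z * y⁻¹) * g) * y' := by rw [hy'e, hye]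
          _ = z * (y⁻¹ * g * y') := by group)
      have hgH : g ∈ H := by
        have := H.mul_mem (H.mul_mem hy (hNTH (hCz h5))) (H.inv_mem hy')
        rwa [show y * (y⁻¹ * g * y') * y'⁻¹ = g by group] at this
      exact (QuotientGroup.eq).2 (by simpa using H.inv_mem hgH)
    · refine absurd ?_ hnzt
      have h1 : IsConj b (c' * (g⁻¹ * b * g) * c'⁻¹) := isConj_iff.2 ⟨c' * g⁻¹, by group⟩
      exact ((isConj_iff.2 ⟨y, hye⟩).trans h1).trans h'.symm
  have hreg : ∀ ω ω' : G ⧸ H, ω ≠ o → ω' ≠ o → ∃ b ∈ F.B, b • ω = ω' := by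
    intro ω ω' hω hω'
    have hbo' : ∀ b : F.B, (b : G) • o = o := fun b => (hstab _).2 (le_normalizer b.2)
    let f : F.B → {x : G ⧸ H // x ≠ o} := fun b => ⟨(b : G) • ω, fun e => hω (by
      have := congrArg ((b : G)⁻¹ • ·) e
      simp only [inv_smul_smul] at this
      rw [this, inv_smul_eq_iff, hbo'])⟩
    have hf : Function.Bijective f := by
      refine (Nat.bijective_iff_injective_and_card f).2 ⟨fun b b' e => ?_, ?_⟩
      · by_contra hne
        have e' : (b : G) • ω = (b' : G) • ω := congrArg Subtype.val e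
        refine hω (hsemi ((b' : G)⁻¹ * b) ω (F.B.mul_mem (F.B.inv_mem b'.2) b.2)
          (fun e'' => hne (Subtype.ext (inv_mul_eq_one.1 e'').symm)) ?_)
        rw [mul_smul, e', inv_smul_smul]
      · haveI := Fintype.ofFinite (G ⧸ H)
        rw [F.card_B, Nat.card_eq_fintype_card, Fintype.card_subtype_compl, Fintype.card_subtype_eq,
          ← Nat.card_eq_fintype_card, hΩ]
    obtain ⟨b, hb⟩ := hf.2 ⟨ω', hω'⟩
    exact ⟨b, b.2, congrArg Subtype.val hb⟩
  -- an element of order five centralising the fixed part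
  obtain ⟨⟨f, hfC⟩, hfo⟩ := exists_prime_orderOf_dvd_card' (G := centralizer ({t} : Set G)) 5
    (by rw [hcardt]; norm_num)
  rw [Subgroup.orderOf_mk] at hfo
  set A0 := F.A ⊓ centralizer ({h} : Set G) with hA0
  have hcen : ∀ a ∈ A0, Commute f a := by
    intro a ha
    have h1 := Hf.zcentral hα ht htZ ha ⟨f, hfC⟩
    have hcb : Cfsg.pPrimeCore 2 (centralizer ({t} : Set G)) = ⊥ :=
      (Subgroup.map_eq_bot_iff_of_injective _ (centralizer ({t} : Set G)).subtype_injective).1 (F.θ_bot hWb ht)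
    rw [hcb, mem_bot] at h1
    have h2 := congrArg (fun y : centralizer ({t} : Set G) => (y : G)) h1
    simp only [Subgroup.coe_mul, Subgroup.coe_inv, Subgroup.coe_one] at h2
    exact (mul_inv_eq_iff_eq_mul.1 (mul_inv_eq_one.1 h2) : Commute a f).symm
  haveI : Fintype (G ⧸ H) := Fintype.ofFinite _
  have hfix5 : ∀ f : G, orderOf f = 5 → ∃ ω ω' : G ⧸ H, ω ≠ ω' ∧ f • ω = ω ∧ f • ω' = ω' := by
    intro f hfo
    have hmod := (IsPGroup.of_card (p := 5) (n := 1)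
      (by rw [Nat.card_zpowers, hfo, pow_one] : Nat.card (zpowers f) = 5 ^ 1)).card_modEq_card_fixedPoints (G ⧸ H)
    rw [hΩ] at hmod
    have h2 : 1 < Nat.card (MulAction.fixedPoints (zpowers f) (G ⧸ H)) := by
      by_contra hle
      have h01 : Nat.card (MulAction.fixedPoints (zpowers f) (G ⧸ H)) = 0 ∨
          Nat.card (MulAction.fixedPoints (zpowers f) (G ⧸ H)) = 1 := by omega
      rcases h01 with e | e <;> rw [e] at hmod <;> exact absurd hmod (by decide)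
    haveI := Fintype.ofFinite (MulAction.fixedPoints (zpowers f) (G ⧸ H))
    rw [Nat.card_eq_fintype_card, Fintype.one_lt_card_iff] at h2
    obtain ⟨⟨ω, hω⟩, ⟨ω', hω'⟩, hne⟩ := h2
    exact ⟨ω, ω', fun e => hne (Subtype.ext e), hω ⟨f, mem_zpowers f⟩, hω' ⟨f, mem_zpowers f⟩⟩
  obtain ⟨ω₀, -, -, hω₀, -⟩ := hfix5 f hfo
  obtain ⟨g, rfl⟩ := QuotientGroup.mk_surjective ω₀
  set f' := g⁻¹ * f * g with hf'
  have hf'o : orderOf f' = 5 := by
    rw [hf', ← hfo]
    simpa using MulEquiv.orderOf_eq (MulAut.conj g⁻¹) f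
  have hf'H : f' ∈ H := by
    rw [← hstab, hf', mul_smul, mul_smul, ho, MulAction.Quotient.smul_mk, smul_eq_mul, mul_one,
      hω₀, MulAction.Quotient.smul_mk, smul_eq_mul, inv_mul_cancel]
  have h192 : ∀ {b k : G}, IsConj z b → orderOf k = 5 → ¬ Commute k b := by
    intro b k hb hk hc
    obtain ⟨y, rfl⟩ := isConj_iff.1 hb
    have h1 : y⁻¹ * k * y ∈ centralizer ({z} : Set G) := mem_centralizer_singleton_iff.2 (by
      calc y⁻¹ * k * y * z = y⁻¹ * (k * (y * z * y⁻¹)) * y := by group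
        _ = y⁻¹ * ((y * z * y⁻¹) * k) * y := by rw [hc.eq]
        _ = z * (y⁻¹ * k * y) := by group)
    have h2 := (centralizer ({z} : Set G)).orderOf_dvd_natCard h1
    have h3 : orderOf (y⁻¹ * k * y) = 5 := by
      rw [← hk]; simpa using MulEquiv.orderOf_eq (MulAut.conj y⁻¹) k
    rw [h3, hcardz] at h2
    norm_num at h2
  have huniq : ∀ ω ω' : G ⧸ H, ω ≠ o → ω' ≠ o → f' • ω = ω → f' • ω' = ω' → ω = ω' := by
    intro ω ω' hω hω' e e'
    obtain ⟨b, hb, hbe⟩ := hreg ω ω' hω hω'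
    by_cases hb1 : b = 1
    · rw [hb1, one_smul] at hbe; exact hbe
    exfalso
    have hb' : f' * b * f'⁻¹ ∈ F.B := (mem_normalizer_iff.1 hf'H b).1 hb
    have he'' : (f' * b * f'⁻¹) • ω = ω' := by
      rw [mul_smul, mul_smul, show f'⁻¹ • ω = ω from inv_smul_eq_iff.2 e.symm, hbe, e']
    have h1 : b⁻¹ * (f' * b * f'⁻¹) = 1 := by
      by_contra hne
      exact hω (hsemi _ ω (F.B.mul_mem (F.B.inv_mem hb) hb') hne (by rw [mul_smul, he'', ← hbe, inv_smul_smul]))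
    obtain ⟨y, -, hye⟩ := hBclass b hb hb1
    exact h192 (isConj_iff.2 ⟨y, hye⟩) hf'o (mul_inv_eq_iff_eq_mul.1 (inv_mul_eq_one.1 h1).symm)
  obtain ⟨ω₁, hω₁, hω₁'⟩ : ∃ ω : G ⧸ H, ω ≠ o ∧ f' • ω = ω := by
    obtain ⟨ω, ω', hne, e, e'⟩ := hfix5 f' hf'o
    by_cases h1 : ω = o
    · exact ⟨ω', fun e2 => hne (h1.trans e2.symm), e'⟩
    · exact ⟨ω, h1, e⟩
  -- some outer involution fixes both points
  obtain ⟨a, ha, hao, haH⟩ : ∃ a, Commute f' a ∧ IsConj t a ∧ a ∈ H := by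
    have hcl : ∀ d ∈ A0, d ≠ 1 → IsConj t (g⁻¹ * d * g) := fun d hd hd1 =>
      (F.outer_class hn' hl'1 hl'0 ht htZ hd.1 (fun e => hd1 (Hf.A0_Z hd e))).trans (isConj_iff.2 ⟨g⁻¹, by group⟩)
    have hcm : ∀ d ∈ A0, Commute f' (g⁻¹ * d * g) := fun d hd => by
      have := (Commute.conj_iff g⁻¹).2 (hcen d hd)
      simpa [hf', mul_assoc] using this
    have hdo : ∀ d ∈ A0, d ≠ 1 → g⁻¹ * d * g ∉ H → (g⁻¹ * d * g) • o = ω₁ := by
      intro d hd hd1 hdH
      refine huniq _ _ (fun e => hdH ((hstab _).1 e)) hω₁ ?_ hω₁'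
      rw [← mul_smul, (hcm d hd).eq, mul_smul, (hstab f').2 hf'H]
    obtain ⟨⟨d1, hd1⟩, hd11⟩ := ne_bot_iff_exists_ne_one.1 (show A0 ≠ ⊥ from fun e => by
      have := Hf.card_A0
      rw [← hA0, e, card_bot] at this
      omega)
    obtain ⟨d2, hd2, hd21, hd12⟩ : ∃ d ∈ A0, d ≠ 1 ∧ d ≠ d1 := by
      by_contra hno
      push Not at hno
      have hsub : A0 ≤ zpowers d1 := fun x hx => by
        by_cases hx1 : x = 1
        · rw [hx1]; exact one_mem _
        · rw [hno x hx hx1]; exact mem_zpowers _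
      have := Nat.le_of_dvd Nat.card_pos (card_dvd_of_le hsub)
      rw [Nat.card_zpowers, hA0, Hf.card_A0, invol_iff.2 ⟨F.sq_of_mem hd1.1, fun e => hd11 (Subtype.ext e)⟩] at this
      omega
    have hd11' : d1 ≠ 1 := fun e => hd11 (Subtype.ext e)
    by_cases h1 : g⁻¹ * d1 * g ∈ H
    · exact ⟨_, hcm d1 hd1, hcl d1 hd1 hd11', h1⟩
    by_cases h2 : g⁻¹ * d2 * g ∈ H
    · exact ⟨_, hcm d2 hd2, hcl d2 hd2 hd21, h2⟩
    have hd : d1 * d2 ∈ A0 := A0.mul_mem hd1 hd2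
    have hd' : d1 * d2 ≠ 1 := fun e => hd12 (by
      rw [eq_inv_of_mul_eq_one_right e, inv_eq_of_mul_eq_one_right (F.sq_of_mem hd1.1)])
    refine ⟨_, hcm _ hd, hcl _ hd hd', ?_⟩
    rw [← hstab, show g⁻¹ * (d1 * d2) * g = (g⁻¹ * d1 * g) * (g⁻¹ * d2 * g) by group, mul_smul,
      hdo d2 hd2 hd21 h2, ← hdo d1 hd1 hd11' h1, ← mul_smul,
      show g⁻¹ * d1 * g * (g⁻¹ * d1 * g) = g⁻¹ * (d1 * d1) * g by group, F.sq_of_mem hd1.1,
      show g⁻¹ * (1 : G) * g = 1 by group, one_smul]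
  obtain ⟨k, hk, hkT⟩ := exists_conj_into F.T.2 F.not_dvd_index F.T_le_normalizer_B (zpowers_le.2 haH)
    (IsPGroup.of_card (n := 1) (by rw [Nat.card_zpowers, invol_of_isConj hto hao, pow_one]))
  have hak : IsConj t (k * a * k⁻¹) := hao.trans (isConj_iff.2 ⟨k, rfl⟩)
  obtain ⟨hakA, hakZ⟩ : k * a * k⁻¹ ∈ F.A ∧ k * a * k⁻¹ ∉ F.Z := by
    rcases hTclass _ (hkT a (mem_zpowers a)) (invol_of_isConj hto hak) with ⟨-, h'⟩ | ⟨h', h'', -⟩
    · exact absurd (h'.trans hak.symm) hnzt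
    · exact ⟨h', h''⟩
  set a' := k * a * k⁻¹ with ha'
  set f'' := k * f' * k⁻¹ with hf''
  have hf''o : orderOf f'' = 5 := by
    rw [hf'', ← hf'o]; exact MulEquiv.orderOf_eq (MulAut.conj k) f'
  have hf''a : Commute f'' a' := (Commute.conj_iff k).2 ha
  have hf''H : f'' ∈ H := H.mul_mem (H.mul_mem hk hf'H) (H.inv_mem hk)
  -- it moves the central involutions into the centre
  have hfz : f'' * z * f''⁻¹ ∈ F.Z := by
    have hmem : f'' * z * f''⁻¹ ∈ F.B := (mem_normalizer_iff.1 hf''H z).1 (F.Z_le_B hz)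
    by_contra hnot
    refine F.cross hakA hakZ hmem hnot ?_
    calc a' * (f'' * z * f''⁻¹) = (f'' * a' * f''⁻¹) * (f'' * z * f''⁻¹) := by
          rw [hf''a.eq, mul_inv_cancel_right]
      _ = f'' * (a' * z) * f''⁻¹ := by group
      _ = f'' * (z * a') * f''⁻¹ := by rw [F.comm_A hakA (F.Z_le_A hz)]
      _ = (f'' * z * f''⁻¹) * (f'' * a' * f''⁻¹) := by group
      _ = (f'' * z * f''⁻¹) * a' := by rw [hf''a.eq, mul_inv_cancel_right]
  obtain ⟨j, hj⟩ := Hf.move hz hz1 hfz (fun e => hz1 (conj_eq_one_iff.1 e))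
  have h1 : (h ^ j)⁻¹ * f'' ∈ centralizer ({z} : Set G) := mem_centralizer_singleton_iff.2 (by
    calc (h ^ j)⁻¹ * f'' * z = (h ^ j)⁻¹ * (f'' * z * f''⁻¹) * f'' := by group
      _ = (h ^ j)⁻¹ * (h ^ j * z * (h ^ j)⁻¹) * f'' := by rw [hj]
      _ = z * ((h ^ j)⁻¹ * f'') := by group)
  have hfN : f'' ∈ NT := by
    have := mul_mem (pow_mem Hf.mem j) (hCz h1)
    rwa [mul_inv_cancel_left] at this
  obtain ⟨a1, b1, ha1, hb1, hab⟩ := F.acts_all hfN
  have h3 := (hab.mul (hab.mul hab))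
  rw [scalar_cube a1 ha1, scalar_cube b1 hb1] at h3
  have h3T := F.mem_T_of_trivial hsel (mul_mem hfN (mul_mem hfN hfN)) h3
  obtain ⟨i, hi⟩ := F.T.2 ⟨_, h3T⟩
  have h5 : f'' * (f'' * f'') = 1 := by
    refine eq_one_of_odd_of_pow_two (k := i) ?_ (congrArg Subtype.val hi)
    have hd : orderOf (f'' * (f'' * f'')) ∣ orderOf f'' := by
      rw [show f'' * (f'' * f'') = f'' ^ 3 from (pow_three f'').symm]
      exact orderOf_pow_dvd 3
    rw [hf''o] at hd
    exact (show Odd 5 by decide).of_dvd_nat hd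
  have h6 : orderOf f'' ∣ 3 := orderOf_dvd_of_pow_eq_one (by rw [pow_three, h5])
  rw [hf''o] at h6
  norm_num at h6

end Frame

end CfsgLib.Invol.L34Type
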