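import Cfsg.Agent.Lib.Invol.L34Type.BadSide

/-!
# Diagonal actions and classes of involutions; coordinates in the centraliser of a central involution
-/

set_option autoImplicit false
set_option linter.unusedSectionVars false
set_option linter.style.haveILetI false

namespace CfsgLib.Invol.L34Type

open Subgroup
open CfsgLib.Invol
open CfsgLib.Invol.HeisFour (V fm H4)
open CfsgLib.ProdFusion (OC OC_le le_normalizer_OC_self odd_card_OC)

universe u

variable {G : Type u} [Group G] [Finite G]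

theorem fm_assoc' : ∀ a b c : V, fm a (fm b c) = fm (fm a b) c := by decide +kernel

theorem fm_four : ∀ a b c d : V, fm (fm a b) (fm c d) = fm (fm a c) (fm b d) := by decide +kernel

theorem swap_central : ∀ c : V, swapFun ⟨0, 0, c⟩ = ⟨0, 0, c⟩ := by decide +kernel

namespace Frame

variable (F : Frame G)

/-- `g` multiplies the coordinates by `l`, `m` and `l m` -/
structure Acts (g : G) (l m : V) : Prop where
  pt : ∀ p : H4, ∃ d : V, g * F.hom p * g⁻¹ = F.hom ⟨fm l p.a, fm m p.b, d⟩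
  ctr : ∀ c : V, g * F.hom ⟨0, 0, c⟩ * g⁻¹ = F.hom ⟨0, 0, fm (fm l m) c⟩

variable {F}

theorem Acts.one : F.Acts 1 (1, 0) (1, 0) :=
  ⟨fun p => ⟨p.c, by rw [fm_one, fm_one]; group⟩, fun c => by rw [fm_one, fm_one]; group⟩

theorem Acts.mul {g g' : G} {l m l' m' : V} (h : F.Acts g l m) (h' : F.Acts g' l' m') :
    F.Acts (g * g') (fm l l') (fm m m') := by
  refine ⟨fun p => ?_, fun c => ?_⟩
  · obtain ⟨d, hd⟩ := h'.pt p
    obtain ⟨d', hd'⟩ := h.pt ⟨fm l' p.a, fm m' p.b, d⟩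
    refine ⟨d', ?_⟩
    rw [show g * g' * F.hom p * (g * g')⁻¹ = g * (g' * F.hom p * g'⁻¹) * g⁻¹ by group, hd, hd',
      ← fm_assoc', ← fm_assoc']
  · rw [show g * g' * F.hom ⟨0, 0, c⟩ * (g * g')⁻¹ = g * (g' * F.hom ⟨0, 0, c⟩ * g'⁻¹) * g⁻¹ by group, h'.ctr,
      h.ctr, fm_assoc', fm_four]

theorem Acts.to_swap {g : G} {l m : V} (h : F.Acts g l m) (hg : g ∈ normalizer ((F.T : Subgroup G) : Set G)) :
    F.swap.Acts g m l := by
  refine ⟨fun p => ?_, fun c => ?_⟩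
  · obtain ⟨d, hd⟩ := h.pt (swapFun p)
    refine ⟨(swapFun ⟨fm l (swapFun p).a, fm m (swapFun p).b, d⟩).c, ?_⟩
    rw [F.swap_hom, hd, F.swap_hom]
    congr 1
    refine CfsgLib.Invol.HeisFour.H4.ext' rfl rfl ?_
    show d = d + fm (fm l p.b) (fm m p.a) + fm (fm m p.a) (fm l p.b)
    rw [fm_comm (fm m p.a), add_assoc, CfsgLib.Invol.HeisFour.self_add, add_zero]
  · rw [F.swap_hom, F.swap_hom, swap_central, swap_central, h.ctr, fm_comm l m]

theorem acts_of_scalar {g : G} (hg : g ∈ normalizer ((F.T : Subgroup G) : Set G)) (ho : Odd (orderOf g)) :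
    ∃ l m : V, l ≠ 0 ∧ m ≠ 0 ∧ F.Acts g l m := by
  obtain ⟨l, m, hl, hm, hp, hc, -⟩ := F.scalar hg ho
  exact ⟨l, m, hl, hm, ⟨hp, hc⟩⟩

theorem Acts.commute {g : G} {l m : V} (h : F.Acts g l m) (hlm : fm l m = (1, 0)) {z : G} (hz : z ∈ F.Z) :
    Commute g z := by
  obtain ⟨p, hp, rfl⟩ := hz
  refine mul_inv_eq_iff_eq_mul.1 ?_
  rw [show p = (⟨0, 0, p.c⟩ : H4) from CfsgLib.Invol.HeisFour.H4.ext' hp.2 hp.1 rfl, h.ctr, hlm, fm_one]

variable (F)

/-- one class of outer elements when some element scales them -/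
theorem outer_class {g : G} {l m : V} (h : F.Acts g l m) (hl : l ≠ (1, 0)) (hl0 : l ≠ 0) {t a : G}
    (ht : t ∈ F.A) (htZ : t ∉ F.Z) (ha : a ∈ F.A) (haZ : a ∉ F.Z) : IsConj t a := by
  obtain ⟨p, hp, rfl⟩ := ht
  obtain ⟨q, hq, rfl⟩ := ha
  have hpa : p.a ≠ 0 := fun e => htZ (F.hom_mem_Z.2 ⟨hp, e⟩)
  have hqa : q.a ≠ 0 := fun e => haZ (F.hom_mem_Z.2 ⟨hq, e⟩)
  have key : ∀ {x : G} {l' m' : V}, F.Acts x l' m' → fm l' p.a = q.a → IsConj (F.hom p) (F.hom q) := by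
    intro x l' m' hx he
    obtain ⟨d, hd⟩ := hx.pt p
    rw [show p.b = 0 from hp, CfsgLib.Invol.HeisFour.fm_zero_right, he] at hd
    have hmA : F.hom ⟨q.a, 0, d⟩ ∈ F.A := F.hom_mem_A.2 rfl
    have hmZ : F.hom ⟨q.a, 0, d⟩ ∉ F.Z := fun e => hqa (F.hom_mem_Z.1 e).2
    have hz : (F.hom ⟨q.a, 0, d⟩)⁻¹ * F.hom q ∈ F.Z := by
      rw [← map_inv, ← map_mul, F.hom_mem_Z, CfsgLib.Invol.HeisFour.inv_def, CfsgLib.Invol.HeisFour.mul_def]
      refine ⟨?_, ?_⟩
      · show (0 : V) + q.b = 0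
        rw [show q.b = 0 from hq, add_zero]
      · show q.a + q.a = 0
        exact CfsgLib.Invol.HeisFour.self_add _
    obtain ⟨y, -, hy⟩ := F.exists_shift hmA hmZ hz
    rw [mul_inv_cancel_left] at hy
    exact (isConj_iff.2 ⟨x, hd⟩).trans (isConj_iff.2 ⟨y, hy⟩)
  rcases scalar_reach l p.a q.a hl hl0 hpa hqa with e | e | e
  · exact key Acts.one (by rw [fm_one, e])
  · exact key h e.symm
  · exact key (h.mul h) (by rw [← fm_assoc', e])

/-- coordinates modulo the core of `C(z)` -/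
def Coord (z u : G) (p : H4) : Prop := ∃ o ∈ θ z, u = o * F.hom p

variable {F}

theorem hom_central (z : G) (hz : z ∈ F.Z) (p : H4) : F.hom p ∈ centralizer ({z} : Set G) :=
  F.T_le_centralizer hz (F.hom_mem p)

theorem Coord.mem {z u : G} {p : H4} (hz : z ∈ F.Z) (h : F.Coord z u p) : u ∈ centralizer ({z} : Set G) := by
  obtain ⟨o, ho, rfl⟩ := h
  exact (centralizer ({z} : Set G)).mul_mem (OC_le _ ho) (hom_central z hz p)

theorem coord_unique {z u : G} (hz : z ∈ F.Z) {p q : H4} (h : F.Coord z u p) (h' : F.Coord z u q) : p = q := by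
  obtain ⟨o, ho, rfl⟩ := h
  obtain ⟨o', ho', he⟩ := h'
  have h1 : F.hom (p * q⁻¹) = o⁻¹ * o' := by
    rw [map_mul, map_inv, eq_inv_mul_iff_mul_eq, ← mul_assoc, he, mul_inv_cancel_right]
  obtain ⟨k, hk⟩ := F.T.2 ⟨F.hom (p * q⁻¹), F.hom_mem _⟩
  have h2 : F.hom (p * q⁻¹) = 1 := by
    refine eq_one_of_odd_of_pow_two (k := k) ?_ (congrArg Subtype.val hk)
    rw [h1]
    exact CfsgLib.ProdFusion.odd_orderOf_of_mem (odd_card_OC _) ((θ z).mul_mem ((θ z).inv_mem ho) ho')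
  exact mul_inv_eq_one.1 (F.hom_injective (h2.trans (map_one F.hom).symm))

theorem coord_hom (z : G) (p : H4) : F.Coord z (F.hom p) p := ⟨1, (θ z).one_mem, by rw [one_mul]⟩

theorem Coord.mul {z u v : G} (hz : z ∈ F.Z) {p q : H4} (h : F.Coord z u p) (h' : F.Coord z v q) :
    F.Coord z (u * v) (p * q) := by
  obtain ⟨o, ho, rfl⟩ := h
  obtain ⟨o', ho', rfl⟩ := h'
  exact ⟨o * (F.hom p * o' * (F.hom p)⁻¹), (θ z).mul_mem ho
    ((mem_normalizer_iff.1 (le_normalizer_OC_self _ (hom_central z hz p)) o').1 ho'), by rw [map_mul]; group⟩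

theorem Coord.pow {z u : G} (hz : z ∈ F.Z) {p : H4} (h : F.Coord z u p) :
    ∀ k : ℕ, F.Coord z (u ^ k) (p ^ k)
  | 0 => ⟨1, (θ z).one_mem, by simp⟩
  | k + 1 => by rw [pow_succ, pow_succ]; exact (h.pow hz k).mul hz h

theorem Coord.conj {z u g : G} (hz : z ∈ F.Z) {p q : H4} (h : F.Coord z u p) (hgz : Commute g z)
    (hg : g * F.hom p * g⁻¹ = F.hom q) : F.Coord z (g * u * g⁻¹) q := by
  obtain ⟨o, ho, rfl⟩ := h
  refine ⟨g * o * g⁻¹, (mem_normalizer_iff.1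
    (le_normalizer_OC_self _ (mem_centralizer_singleton_iff.2 hgz.eq)) o).1 ho, ?_⟩
  rw [← hg]; group

variable (F)

/-- every involution commuting with `z` has coordinates, and is conjugate to the element they give -/
theorem exists_coord {z u : G} (hz : z ∈ F.Z) (hz1 : z ≠ 1) (hu : orderOf u = 2) (huz : Commute u z) :
    ∃ p : H4, F.Coord z u p ∧ IsConj u (F.hom p) := by
  haveI : Fact (Nat.Prime 2) := ⟨Nat.prime_two⟩
  obtain ⟨c, hc, hcT⟩ := exists_conj_into F.T.2 F.not_dvd_index (F.T_le_centralizer hz)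
    (zpowers_le.2 (mem_centralizer_singleton_iff.2 huz.eq))
    (IsPGroup.of_card (n := 1) (by rw [Nat.card_zpowers, hu, pow_one]))
  obtain ⟨o, ho, n, hn, rfl⟩ := F.cz_factor hz hz1 hc
  set o' := n⁻¹ * o * n with ho'
  have ho'θ : o' ∈ θ z := by
    have := (mem_normalizer_iff.1 (le_normalizer_OC_self _ ((centralizer ({z} : Set G)).inv_mem hn.2)) o).1 ho
    rwa [inv_inv] at this
  have hmem : o' * u * o'⁻¹ ∈ (F.T : Subgroup G) := by
    rw [show o' * u * o'⁻¹ = n⁻¹ * (o * n * u * (o * n)⁻¹) * n⁻¹⁻¹ by rw [ho']; group]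
    exact (mem_normalizer_iff.1 (inv_mem hn.1) _).1 (hcT u (mem_zpowers u))
  obtain ⟨p, hp⟩ := F.exists_of_mem hmem
  refine ⟨p, ⟨o'⁻¹ * (F.hom p * o' * (F.hom p)⁻¹), (θ z).mul_mem ((θ z).inv_mem ho'θ)
    ((mem_normalizer_iff.1 (le_normalizer_OC_self _ (hom_central z hz p)) o').1 ho'θ), ?_⟩, ?_⟩
  · rw [hp]; group
  · exact isConj_iff.2 ⟨o', hp.symm⟩

end Frame

end CfsgLib.Invol.L34Type
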