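import Cfsg.Agent.Lib.Invol.TwoClasses

/-!
# Counting pairs of elements of two classes
-/

set_option autoImplicit false

namespace CfsgLib.Invol.L34Type

open Subgroup
open CfsgLib.Invol

universe u

variable {G : Type u} [Group G] [Finite G]

/-- when all products of two classes lead to one class of involutions -/
theorem class_product (a b c : G) (hc : orderOf c = 2)
    (h : ∀ x y : G, IsConj a x → IsConj b y → ∃ w, IsConj c w ∧ w ∈ zpowers (x * y)) :
    Nat.card {x : G // IsConj a x} * Nat.card {y : G // IsConj b y} =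
      Nat.card {w : G // IsConj c w} *
        Nat.card {p : G × G // IsConj a p.1 ∧ IsConj b p.2 ∧ c ∈ zpowers (p.1 * p.2)} := by
  classical
  haveI := Fintype.ofFinite G
  have hinv : ∀ {w : G}, IsConj c w → orderOf w = 2 := by
    intro w hw
    obtain ⟨g, rfl⟩ := isConj_iff.1 hw
    exact invol_conj hc g
  have e : {x : G // IsConj a x} × {y : G // IsConj b y} ≃
      Σ w : {w : G // IsConj c w},
        {p : G × G // IsConj a p.1 ∧ IsConj b p.2 ∧ (w : G) ∈ zpowers (p.1 * p.2)} :=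
    { toFun := fun q => ⟨⟨(h q.1 q.2 q.1.2 q.2.2).choose, (h q.1 q.2 q.1.2 q.2.2).choose_spec.1⟩,
        ⟨((q.1 : G), (q.2 : G)), q.1.2, q.2.2, (h q.1 q.2 q.1.2 q.2.2).choose_spec.2⟩⟩
      invFun := fun s => (⟨s.2.1.1, s.2.2.1⟩, ⟨s.2.1.2, s.2.2.2.1⟩)
      left_inv := fun q => rfl
      right_inv := by
        rintro ⟨⟨w, hw⟩, ⟨⟨x, y⟩, hx, hy, hm⟩⟩
        have e1 : (h x y hx hy).choose = w :=
          invol_zpowers_unique (hinv (h x y hx hy).choose_spec.1) (hinv hw) (h x y hx hy).choose_spec.2 hm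
        exact Sigma.subtype_ext (Subtype.ext e1) rfl }
  rw [← Nat.card_prod, Nat.card_congr e, Nat.card_sigma, Finset.sum_congr rfl (fun w _ =>
    card_pairs_over c a w.1 (fun _ y => IsConj b y)
      (fun g _ y => ⟨fun h' => h'.trans (isConj_iff.2 ⟨g, rfl⟩),
        fun h' => h'.trans (isConj_iff.2 ⟨g⁻¹, by group⟩)⟩) w.2),
    Finset.sum_const, Finset.card_univ, ← Nat.card_eq_fintype_card, smul_eq_mul]

/-- double counting of commuting pairs -/
theorem class_incidence (a b : G) :
    Nat.card {y : G // IsConj b y} * Nat.card {x : G // IsConj a x ∧ Commute x b} =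
      Nat.card {x : G // IsConj a x} * Nat.card {y : G // IsConj b y ∧ Commute y a} := by
  classical
  haveI := Fintype.ofFinite G
  have hmove : ∀ a b y : G, IsConj b y →
      Nat.card {x : G // IsConj a x ∧ Commute x y} = Nat.card {x : G // IsConj a x ∧ Commute x b} := by
    intro a b y hy
    obtain ⟨g, rfl⟩ := isConj_iff.1 hy
    refine (Nat.card_congr ((MulAut.conj g).toEquiv.subtypeEquiv fun x => ?_)).symm
    show _ ↔ IsConj a (g * x * g⁻¹) ∧ Commute (g * x * g⁻¹) (g * b * g⁻¹)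
    refine and_congr ⟨fun h => h.trans (isConj_iff.2 ⟨g, rfl⟩), fun h => h.trans (isConj_iff.2 ⟨g⁻¹, by group⟩)⟩ ?_
    exact ⟨fun h => (Commute.conj_iff g).2 h, fun h => (Commute.conj_iff g).1 h⟩
  have e : (Σ y : {y : G // IsConj b y}, {x : G // IsConj a x ∧ Commute x (y : G)}) ≃
      Σ x : {x : G // IsConj a x}, {y : G // IsConj b y ∧ Commute y (x : G)} :=
    { toFun := fun s => ⟨⟨s.2.1, s.2.2.1⟩, ⟨s.1.1, s.1.2, s.2.2.2.symm⟩⟩
      invFun := fun s => ⟨⟨s.2.1, s.2.2.1⟩, ⟨s.1.1, s.1.2, s.2.2.2.symm⟩⟩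
      left_inv := fun _ => rfl
      right_inv := fun _ => rfl }
  have h := Nat.card_congr e
  rw [Nat.card_sigma, Nat.card_sigma,
    Finset.sum_congr rfl (fun (y : {y : G // IsConj b y}) (_ : y ∈ Finset.univ) => hmove a b y.1 y.2),
    Finset.sum_congr rfl (fun (x : {x : G // IsConj a x}) (_ : x ∈ Finset.univ) => hmove b a x.1 x.2), Finset.sum_const, Finset.sum_const,
    Finset.card_univ, Finset.card_univ, ← Nat.card_eq_fintype_card, ← Nat.card_eq_fintype_card,
    smul_eq_mul, smul_eq_mul] at h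
  exact h

end CfsgLib.Invol.L34Type
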