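import Cfsg.Agent.Lib.Invol.L34Type.BadCount
import Cfsg.Agent.Lib.Invol.L34Type.Acts
import Cfsg.Agent.Lib.Invol.L34Type.ClassCount

/-!
# Two bad sides: a counting contradiction
-/

set_option autoImplicit false
set_option linter.unusedSectionVars false
set_option linter.style.haveILetI false

namespace CfsgLib.Invol.L34Type

open Subgroup
open CfsgLib.Invol
open CfsgLib.Invol.HeisFour (V fm H4)
open CfsgLib.Invol.EightTypeThree (Nice)

universe u

variable {G : Type u} [Group G] [Finite G]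

/-- the first three powers of a scalar -/
def mpow (m : V) (i : Fin 3) : V := if i = 0 then (1, 0) else if i = 1 then m else fm m m

theorem reach_value : ∀ a b c m : V, a ≠ 0 → b ≠ 0 → c ≠ 0 → m ≠ (1, 0) → m ≠ 0 →
    ∃ i : Fin 3, fm a (fm (mpow m i) b) = c := by decide +kernel

set_option synthInstance.maxSize 2000 in
set_option synthInstance.maxHeartbeats 100000 in
theorem unique_value : ∀ a b c m : V, ∀ i j : Fin 3, c ≠ 0 → m ≠ (1, 0) → m ≠ 0 →
    fm a (fm (mpow m i) b) = c → fm a (fm (mpow m j) b) = c → i = j := by decide +kernel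

theorem prod_sq : ∀ p q : H4, p.b = 0 → q.a = 0 → (p * q) ^ 2 = ⟨0, 0, fm p.a q.b⟩ := by decide +kernel

theorem prod_cases : ∀ p q : H4, p.b = 0 → q.a = 0 → (p * q) ^ 4 = 1 := by decide +kernel

theorem prod_odd : ∀ p q : H4, p.b = 0 → p.a ≠ 0 → q.a = 0 →
    (p * q).a ≠ 0 ∧ ((p * q) ^ 3).a ≠ 0 := by decide +kernel

theorem prod_nonzero : ∀ a b : V, a ≠ 0 → b ≠ 0 → fm a b ≠ 0 := by decide +kernel

theorem prod_ZA : ∀ p q : H4, p.a = 0 → p.b = 0 → q.b = 0 → q.a ≠ 0 →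
    (p * q) ^ 2 = 1 ∧ (p * q).a ≠ 0 := by decide +kernel

theorem pair_two : ∀ r l : V, r ≠ (1, 0) → r ≠ 0 → l ≠ (1, 0) → l ≠ 0 →
    fm l r = (1, 0) ∨ fm l (fm r r) = (1, 0) := by decide +kernel

theorem fm_sq_ne : ∀ r : V, r ≠ (1, 0) → r ≠ 0 → fm r r ≠ (1, 0) ∧ fm r r ≠ 0 := by decide +kernel

namespace Frame

variable (F : Frame G)

theorem swap_swap_frame : F.swap.swap = F := by
  show (⟨F.T, swapEquiv.trans (swapEquiv.trans F.e)⟩ : Frame G) = F
  have e' : swapEquiv.trans (swapEquiv.trans F.e) = F.e := MulEquiv.ext fun p => by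
    show F.e (swapEquiv (swapEquiv p)) = F.e p
    rw [swap_swap]
  rw [e']

theorem one_class_Z {t h : G} (H : F.Fixer t h) {z w : G} (hz : z ∈ F.Z) (hz1 : z ≠ 1) (hw : w ∈ F.Z)
    (hw1 : w ≠ 1) : IsConj z w := by
  obtain ⟨j, hj⟩ := H.move hz hz1 hw hw1
  exact isConj_iff.2 ⟨h ^ j, hj⟩

/-- an element of `A` outside `Z` is not fused to one of `B` outside `Z` -/
theorem not_isConj_AB (hα : ¬ F.Alpha) {a b : G} (ha : a ∈ F.A) (haZ : a ∉ F.Z) (hb : b ∈ F.B) (hbZ : b ∉ F.Z) :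
    ¬ IsConj a b := by
  intro h
  obtain ⟨g, rfl⟩ := isConj_iff.1 h
  obtain ⟨n, hn, hnZ⟩ := F.cross_fusion ha hb fun e => hbZ (by rw [F.Z_eq]; exact ⟨e, hb⟩)
  exact haZ (F.mem_Z_of_fused (not_not.1 hα) ha hnZ)

theorem not_isConj_AZ (hα : ¬ F.Alpha) {a z : G} (ha : a ∈ F.A) (haZ : a ∉ F.Z) (hz : z ∈ F.Z) :
    ¬ IsConj a z := by
  intro h
  obtain ⟨g, rfl⟩ := isConj_iff.1 h
  exact haZ (F.mem_Z_of_fused (not_not.1 hα) ha hz)

/-- no conjugate of an outer element of `A` commutes with one of `B` -/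
theorem no_common (hα : ¬ F.Alpha) (hβ : ¬ F.swap.Alpha) {t b y w : G} (ht : t ∈ F.A) (htZ : t ∉ F.Z)
    (hb : b ∈ F.B) (hbZ : b ∉ F.Z) (hy : IsConj t y) (hw : IsConj b w) : ¬ Commute y w := by
  intro hc
  obtain ⟨g, rfl⟩ := isConj_iff.1 hw
  have hy' : IsConj t (g⁻¹ * y * g) := hy.trans (isConj_iff.2 ⟨g⁻¹, by group⟩)
  have hyo : orderOf (g⁻¹ * y * g) = 2 :=
    invol_of_isConj (invol_iff.2 ⟨F.sq_of_mem ht, fun e => htZ (by rw [e]; exact F.Z.one_mem)⟩) hy'
  have hcb : Commute (g⁻¹ * y * g) b := by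
    have h1 := (Commute.conj_iff g⁻¹).2 hc
    simpa [mul_assoc] using h1
  obtain ⟨c, -, hc'⟩ := F.swap.exists_conj_A hβ (t := b) (by rw [F.swap_A]; exact hb)
    (by rw [F.swap_Z]; exact hbZ) hyo hcb
  rw [F.swap_A] at hc'
  have hy'' : IsConj t (c * (g⁻¹ * y * g) * c⁻¹) := hy'.trans (isConj_iff.2 ⟨c, rfl⟩)
  by_cases hZ : c * (g⁻¹ * y * g) * c⁻¹ ∈ F.Z
  · exact F.not_isConj_AZ hα ht htZ hZ hy''
  · exact F.not_isConj_AB hα ht htZ hc' hZ hy''

/-- coordinates of a conjugate of an outer element of `A` in `C(z)` -/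
theorem coord_A (hα : ¬ F.Alpha) {t z u : G} (ht : t ∈ F.A) (htZ : t ∉ F.Z) (hz : z ∈ F.Z) (hz1 : z ≠ 1)
    (hu : IsConj t u) (huz : Commute u z) : ∃ p : H4, F.Coord z u p ∧ p.b = 0 ∧ p.a ≠ 0 := by
  have huo := invol_of_isConj (invol_iff.2 ⟨F.sq_of_mem ht, fun e => htZ (by rw [e]; exact F.Z.one_mem)⟩) hu
  obtain ⟨p, hp, hpc⟩ := F.exists_coord hz hz1 huo huz
  have hc := hu.trans hpc
  have hnZ : F.hom p ∉ F.Z := fun h => F.not_isConj_AZ hα ht htZ h hc
  rcases F.invol_cases (F.hom_mem p) (invol_mul_self (invol_of_isConj huo hpc)) with h | h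
  · exact ⟨p, hp, F.hom_mem_A.1 h, fun e => hnZ (F.hom_mem_Z.2 ⟨F.hom_mem_A.1 h, e⟩)⟩
  · exact absurd hc (F.not_isConj_AB hα ht htZ h hnZ)

theorem coord_B (hα : ¬ F.Alpha) (hβ : ¬ F.swap.Alpha) {b z u : G} (hb : b ∈ F.B) (hbZ : b ∉ F.Z)
    (hz : z ∈ F.Z) (hz1 : z ≠ 1) (hu : IsConj b u) (huz : Commute u z) :
    ∃ p : H4, F.Coord z u p ∧ p.a = 0 ∧ p.b ≠ 0 := by
  have huo := invol_of_isConj (invol_iff.2 ⟨by
    have := F.swap.sq_of_mem (a := b) (by rw [F.swap_A]; exact hb); exact this, fun e => hbZ (by rw [e]; exact F.Z.one_mem)⟩) hu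
  obtain ⟨p, hp, hpc⟩ := F.exists_coord hz hz1 huo huz
  have hc := hu.trans hpc
  have hnZ : F.hom p ∉ F.Z := fun h =>
    F.swap.not_isConj_AZ hβ (by rw [F.swap_A]; exact hb) (by rw [F.swap_Z]; exact hbZ) (by rw [F.swap_Z]; exact h) hc
  rcases F.invol_cases (F.hom_mem p) (invol_mul_self (invol_of_isConj huo hpc)) with h | h
  · exact absurd hc.symm (F.not_isConj_AB hα h hnZ hb hbZ)
  · exact ⟨p, hp, F.hom_mem_B.1 h, fun e => hnZ (F.hom_mem_Z.2 ⟨e, F.hom_mem_B.1 h⟩)⟩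

theorem coord_Z (hα : ¬ F.Alpha) (hβ : ¬ F.swap.Alpha) {z u : G} (hz : z ∈ F.Z) (hz1 : z ≠ 1)
    (hu : IsConj z u) (huz : Commute u z) : ∃ p : H4, F.Coord z u p ∧ p.a = 0 ∧ p.b = 0 := by
  have huo := invol_of_isConj (invol_iff.2 ⟨F.sq_of_mem (F.Z_le_A hz), hz1⟩) hu
  obtain ⟨p, hp, hpc⟩ := F.exists_coord hz hz1 huo huz
  have hc := hu.trans hpc
  have hZ : F.hom p ∈ F.Z := by
    by_contra hnZ
    rcases F.invol_cases (F.hom_mem p) (invol_mul_self (invol_of_isConj huo hpc)) with h | h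
    · exact F.not_isConj_AZ hα h hnZ hz hc.symm
    · exact F.swap.not_isConj_AZ hβ (by rw [F.swap_A]; exact h) (by rw [F.swap_Z]; exact hnZ)
        (by rw [F.swap_Z]; exact hz) hc.symm
  exact ⟨p, hp, (F.hom_mem_Z.1 hZ).2, (F.hom_mem_Z.1 hZ).1⟩

/-- the two bad sides of the same frame -/
theorem false_of_two_bad (hα : ¬ F.Alpha) (hβ : ¬ F.swap.Alpha) (hA : F.Bad) (hB : F.swap.Bad) {t : G}
    (ht : t ∈ F.A) (htZ : t ∉ F.Z) (hn : ¬ Nice F.A t) : False := by
  classical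
  haveI := Fintype.ofFinite G
  obtain ⟨z, hz, hz1⟩ := F.exists_Z_ne_one
  obtain ⟨b, hb', hbZ'⟩ := F.swap.exists_A_not_Z
  have hb : b ∈ F.B := F.swap_A ▸ hb'
  have hbZ : b ∉ F.Z := F.swap_Z ▸ hbZ'
  obtain ⟨h, H⟩ := F.exists_fixer hA ht htZ
  obtain ⟨k, K⟩ := F.swap.exists_fixer hB hb' hbZ'
  obtain ⟨r, hr0, hr1, hrp, hrc⟩ := H.scal
  have hh : F.Acts h (1, 0) r := ⟨fun p => by
    obtain ⟨d, hd⟩ := hrp p
    exact ⟨d, by rw [fm_one]; exact hd⟩, fun c => by rw [fm_one, hrc]⟩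
  obtain ⟨s, hs0, hs1, hsp, hsc⟩ := K.scal
  have hk' : F.swap.Acts k (1, 0) s := ⟨fun p => by
    obtain ⟨d, hd⟩ := hsp p
    exact ⟨d, by rw [fm_one]; exact hd⟩, fun c => by rw [fm_one, hsc]⟩
  have hk : F.Acts k s (1, 0) := by
    have h1 := hk'.to_swap (F.swap_T ▸ K.mem)
    rwa [swap_swap_frame] at h1
  obtain ⟨n, m, hm1, hm0, hnz, hnN, hn'⟩ : ∃ n m, m ≠ (1, 0) ∧ m ≠ 0 ∧ Commute n z ∧
      n ∈ normalizer ((F.T : Subgroup G) : Set G) ∧ ∃ l, F.Acts n l m := by
    have hkN : k ∈ normalizer ((F.T : Subgroup G) : Set G) := F.swap_T ▸ K.mem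
    rcases pair_two r s hr1 hr0 hs1 hs0 with e | e
    · have hA' := hk.mul hh
      rw [fm_one_right, fm_one] at hA'
      exact ⟨k * h, r, hr1, hr0, hA'.commute e hz, mul_mem hkN H.mem, s, hA'⟩
    · have hA' := hk.mul (hh.mul hh)
      rw [fm_one, fm_one_right, fm_one] at hA'
      exact ⟨k * (h * h), fm r r, (fm_sq_ne r hr1 hr0).1, (fm_sq_ne r hr1 hr0).2, hA'.commute e hz,
        mul_mem hkN (mul_mem H.mem H.mem), s, hA'⟩
  obtain ⟨l, hn'⟩ := hn'
  have hzo : orderOf z = 2 := invol_iff.2 ⟨F.sq_of_mem (F.Z_le_A hz), hz1⟩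
  have hto : orderOf t = 2 := invol_iff.2 ⟨F.sq_of_mem ht, fun e => htZ (by rw [e]; exact F.Z.one_mem)⟩
  have hbo : orderOf b = 2 := invol_iff.2 ⟨F.swap.sq_of_mem hb', fun e => hbZ (by rw [e]; exact F.Z.one_mem)⟩
  -- the three classes
  have hclass : ∀ w : G, orderOf w = 2 → IsConj z w ∨ IsConj t w ∨ IsConj b w := by
    intro w hw
    haveI : Fact (Nat.Prime 2) := ⟨Nat.prime_two⟩
    obtain ⟨c, hc⟩ := exists_conj_le_sylow (Q := zpowers w)
      (IsPGroup.of_card (n := 1) (by rw [Nat.card_zpowers, hw, pow_one])) F.T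
    have hmem : c * w * c⁻¹ ∈ (F.T : Subgroup G) := hc w (mem_zpowers w)
    have hwc : IsConj (c * w * c⁻¹) w := isConj_iff.2 ⟨c⁻¹, by group⟩
    by_cases hZ : c * w * c⁻¹ ∈ F.Z
    · exact Or.inl ((F.one_class_Z H hz hz1 hZ (invol_ne_one (invol_conj hw c))).trans hwc)
    rcases F.invol_cases hmem (invol_mul_self (invol_conj hw c)) with h' | h'
    · exact Or.inr (Or.inl ((F.outer_class hk hs1 hs0 ht htZ h' hZ).trans hwc))
    · have hh' : F.swap.Acts h r (1, 0) := hh.to_swap H.mem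
      exact Or.inr (Or.inr ((F.swap.outer_class hh' hr1 hr0 hb' hbZ' (by rw [F.swap_A]; exact h')
        (by rw [F.swap_Z]; exact hZ)).trans hwc))
  have hzt : ∀ {x y : G}, IsConj z x → IsConj t y → ∃ w, IsConj t w ∧ w ∈ zpowers (x * y) := by
    intro x y hx hy
    have hne : ¬ IsConj x y := fun e =>
      F.not_isConj_AZ hα ht htZ hz ((hy.trans e.symm).trans hx.symm)
    have hxo := invol_of_isConj hzo hx
    have hyo := invol_of_isConj hto hy
    have hev := even_of_not_isConj hxo hyo hne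
    set w := (x * y) ^ (orderOf (x * y) / 2) with hw
    have hwo : orderOf w = 2 := orderOf_pow_half hev
    have hwm : w ∈ zpowers (x * y) := pow_mem (mem_zpowers _) _
    obtain ⟨hxw, hyw⟩ := commute_of_mem_zpowers hxo hyo hwo hwm
    rcases hclass w hwo with h' | h' | h'
    · exfalso
      obtain ⟨g, hg⟩ := isConj_iff.1 h'
      have hx' : IsConj z (g⁻¹ * x * g) := hx.trans (isConj_iff.2 ⟨g⁻¹, by group⟩)
      have hy' : IsConj t (g⁻¹ * y * g) := hy.trans (isConj_iff.2 ⟨g⁻¹, by group⟩)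
      have hxz : Commute (g⁻¹ * x * g) z := by
        have h1 := (Commute.conj_iff g⁻¹).2 hxw
        rw [← hg] at h1
        simpa [mul_assoc] using h1
      have hyz : Commute (g⁻¹ * y * g) z := by
        have h1 := (Commute.conj_iff g⁻¹).2 hyw
        rw [← hg] at h1
        simpa [mul_assoc] using h1
      obtain ⟨p, hp, hpa, hpb⟩ := F.coord_Z hα hβ hz hz1 hx' hxz
      obtain ⟨q, hq, hqb, hqa⟩ := F.coord_A hα ht htZ hz hz1 hy' hyz
      have hpow : z = (g⁻¹ * x * g * (g⁻¹ * y * g)) ^ (orderOf (x * y) / 2) := by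
        rw [show g⁻¹ * x * g * (g⁻¹ * y * g) = g⁻¹ * (x * y) * g⁻¹⁻¹ by group, conj_pow, ← hw, ← hg]
        group
      have h1 := (hp.mul hz hq).pow hz (orderOf (x * y) / 2)
      rw [← hpow] at h1
      obtain ⟨c, hc, hce⟩ := hz
      have h2 := coord_unique (z := z) ⟨c, hc, hce⟩ h1 (p := _) (q := c) (by rw [← hce]; exact coord_hom _ c)
      obtain ⟨hsq, hne'⟩ := prod_ZA p q hpa hpb hqb hqa
      rcases Nat.even_or_odd (orderOf (x * y) / 2) with ⟨j, hj⟩ | ⟨j, hj⟩
      · rw [hj, ← two_mul, pow_mul, hsq, one_pow] at h2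
        rw [← h2, map_one] at hce
        exact hz1 hce.symm
      · rw [hj, pow_succ, pow_mul, hsq, one_pow, one_mul] at h2
        exact hne' (h2 ▸ hc.2)
    · exact ⟨w, h', hwm⟩
    · exact absurd hyw (F.no_common hα hβ ht htZ hb hbZ hy h')
  have htb : ∀ {x y : G}, IsConj t x → IsConj b y → ∃ w, IsConj z w ∧ w ∈ zpowers (x * y) := by
    intro x y hx hy
    have hne : ¬ IsConj x y := fun e => F.not_isConj_AB hα ht htZ hb hbZ ((hx.trans e).trans hy.symm)
    have hxo := invol_of_isConj hto hx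
    have hyo := invol_of_isConj hbo hy
    have hev := even_of_not_isConj hxo hyo hne
    set w := (x * y) ^ (orderOf (x * y) / 2) with hw
    have hwo : orderOf w = 2 := orderOf_pow_half hev
    have hwm : w ∈ zpowers (x * y) := pow_mem (mem_zpowers _) _
    obtain ⟨hxw, hyw⟩ := commute_of_mem_zpowers hxo hyo hwo hwm
    rcases hclass w hwo with h' | h' | h'
    · exact ⟨w, h', hwm⟩
    · exact absurd hyw.symm (F.no_common hα hβ ht htZ hb hbZ h' hy)
    · exact absurd hxw (F.no_common hα hβ ht htZ hb hbZ hx h')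
  have e1 := class_product z t t hto fun x y hx hy => hzt hx hy
  have e2 := class_product t b z hzo fun x y hx hy => htb hx hy
  have e3 := class_incidence z t
  have e4 := class_incidence z b
  -- one third of the pairs over `z`
  have e5 : 3 * Nat.card {p : G × G // IsConj t p.1 ∧ IsConj b p.2 ∧ z ∈ zpowers (p.1 * p.2)} =
      Nat.card {u : G // IsConj t u ∧ Commute u z} * Nat.card {v : G // IsConj b v ∧ Commute v z} := by
    obtain ⟨c, hc, hce⟩ := hz
    have hz' : z ∈ F.Z := ⟨c, hc, hce⟩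
    have hcc : c = (⟨0, 0, c.c⟩ : H4) := CfsgLib.Invol.HeisFour.H4.ext' hc.2 hc.1 rfl
    have hc0 : c.c ≠ 0 := fun e => hz1 (by
      rw [← hce, show c = 1 from hcc.trans (by rw [e]; rfl), map_one])
    have hzc : F.Coord z z c := by rw [← hce]; exact coord_hom _ c
    have good : ∀ (u v : G) (p q : H4), IsConj t u → IsConj b v → Commute u z → Commute v z →
        F.Coord z u p → p.b = 0 → p.a ≠ 0 → F.Coord z v q → q.a = 0 → q.b ≠ 0 →
        (z ∈ zpowers (u * v) ↔ fm p.a q.b = c.c) := by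
      intro u v p q hu hv huz hvz hp hpb hpa hq hqa hqb
      have hpq := hp.mul hz' hq
      constructor
      · intro hmem
        obtain ⟨j, hj⟩ := (isOfFinOrder_of_finite (u * v)).mem_powers_iff_mem_zpowers.2 hmem
        have h1 := hpq.pow hz' j
        rw [show (u * v) ^ j = z from hj] at h1
        have h2 := coord_unique hz' h1 hzc
        rw [← Nat.mod_add_div j 4, pow_add, pow_mul, prod_cases p q hpb hqa, one_pow, mul_one] at h2
        obtain ⟨ho1, ho3⟩ := prod_odd p q hpb hpa hqa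
        have hlt : j % 4 < 4 := Nat.mod_lt _ (by norm_num)
        generalize hi : j % 4 = i at h2 hlt
        interval_cases i
        · rw [pow_zero] at h2
          exact absurd (congrArg H4.c h2).symm (by rw [CfsgLib.Invol.HeisFour.one_def]; exact hc0)
        · rw [pow_one] at h2
          exact absurd (h2 ▸ hc.2) ho1
        · rw [prod_sq p q hpb hqa] at h2
          exact congrArg H4.c h2
        · exact absurd (h2 ▸ hc.2) ho3
      · intro hval
        have huo := invol_of_isConj hto hu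
        have hvo := invol_of_isConj hbo hv
        obtain ⟨w, -, hwm⟩ := htb hu hv
        have hne : ¬ IsConj u v := fun e => F.not_isConj_AB hα ht htZ hb hbZ ((hu.trans e).trans hv.symm)
        have hev := even_of_not_isConj huo hvo hne
        set w := (u * v) ^ (orderOf (u * v) / 2) with hw
        have hwo : orderOf w = 2 := orderOf_pow_half hev
        have h1 := hpq.pow hz' (orderOf (u * v) / 2)
        rw [← hw] at h1
        have h3 := h1.pow hz' 2
        rw [pow_two w, invol_mul_self hwo] at h3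
        have h4 := coord_unique hz' h3 (by rw [← map_one F.hom]; exact coord_hom _ 1)
        have h5 : (p * q) ^ (orderOf (u * v) / 2) = 1 ∨ (p * q) ^ (orderOf (u * v) / 2) = c := by
          rcases Nat.even_or_odd (orderOf (u * v) / 2) with ⟨i, hi⟩ | ⟨i, hi⟩
          · rcases Nat.even_or_odd i with ⟨i', hi'⟩ | ⟨i', hi'⟩
            · left
              rw [hi, hi', show i' + i' + (i' + i') = 4 * i' by ring, pow_mul, prod_cases p q hpb hqa, one_pow]
            · right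
              rw [hi, hi', show 2 * i' + 1 + (2 * i' + 1) = 4 * i' + 2 by ring, pow_add, pow_mul,
                prod_cases p q hpb hqa, one_pow, one_mul, prod_sq p q hpb hqa, hval, ← hcc]
          · exfalso
            rw [hi, ← pow_mul, show (2 * i + 1) * 2 = 4 * i + 2 by ring, pow_add, pow_mul,
              prod_cases p q hpb hqa, one_pow, one_mul, prod_sq p q hpb hqa] at h4
            exact prod_nonzero _ _ hpa hqb (congrArg H4.c h4)
        rcases h5 with h5 | h5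
        · exfalso
          rw [h5] at h1
          obtain ⟨o, ho, hoe⟩ := h1
          rw [map_one, mul_one] at hoe
          exact invol_ne_one hwo (CfsgLib.ProdFusion.eq_one_of_sq (CfsgLib.ProdFusion.odd_card_OC _)
            (hoe ▸ ho) (invol_mul_self hwo))
        · rw [h5] at h1
          obtain ⟨o, ho, hoe⟩ := h1
          rw [hce] at hoe
          have hwz : Commute w z := by
            rw [hw]; exact (huz.mul_left hvz).pow_left _
          have h6 : o * o = 1 := by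
            have e : o = w * z := by
              rw [hoe, mul_assoc, invol_mul_self hzo, mul_one]
            rw [e, show w * z * (w * z) = w * (z * w) * z by group, ← hwz.eq,
              show w * (w * z) * z = w * w * (z * z) by group, invol_mul_self hwo, invol_mul_self hzo, one_mul]
          rw [CfsgLib.ProdFusion.eq_one_of_sq (CfsgLib.ProdFusion.odd_card_OC _) ho h6, one_mul] at hoe
          exact hoe ▸ pow_mem (mem_zpowers _) _
    have hcomm : ∀ q : {p : G × G // IsConj t p.1 ∧ IsConj b p.2 ∧ z ∈ zpowers (p.1 * p.2)},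
        Commute q.1.1 z ∧ Commute q.1.2 z := fun q =>
      commute_of_mem_zpowers (invol_of_isConj hto q.2.1) (invol_of_isConj hbo q.2.2.1) hzo q.2.2.2
    let ni : Fin 3 → G := fun i => if i = 0 then 1 else if i = 1 then n else n * n
    have hni : ∀ i, Commute (ni i) z := by
      intro i; fin_cases i <;> simp [ni, hnz, hnz.mul_left hnz]
    have hact : ∀ i, ∃ l', F.Acts (ni i) l' (mpow m i) := by
      intro i
      fin_cases i
      · exact ⟨(1, 0), by simpa [ni, mpow] using (Acts.one (F := F))⟩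
      · exact ⟨l, by simpa [ni, mpow] using hn'⟩
      · exact ⟨fm l l, by simpa [ni, mpow] using hn'.mul hn'⟩
    have hval : ∀ (i : Fin 3) (v : G) (q : H4), F.Coord z v q → q.a = 0 →
        ∃ q' : H4, F.Coord z (ni i * v * (ni i)⁻¹) q' ∧ q'.a = 0 ∧ q'.b = fm (mpow m i) q.b := by
      intro i v q hq hqa
      obtain ⟨l', hl'⟩ := hact i
      obtain ⟨d, hd⟩ := hl'.pt q
      exact ⟨_, hq.conj hz' (hni i) hd, by
        show fm l' q.a = 0
        rw [hqa, CfsgLib.Invol.HeisFour.fm_zero_right], rfl⟩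
    have hbconj : ∀ (i : Fin 3) (v : G), IsConj b v → IsConj b (ni i * v * (ni i)⁻¹) := fun i v hv =>
      hv.trans (isConj_iff.2 ⟨ni i, rfl⟩)
    let f : Fin 3 × {p : G × G // IsConj t p.1 ∧ IsConj b p.2 ∧ z ∈ zpowers (p.1 * p.2)} →
        {u : G // IsConj t u ∧ Commute u z} × {v : G // IsConj b v ∧ Commute v z} := fun s =>
      (⟨s.2.1.1, s.2.2.1, (hcomm s.2).1⟩, ⟨(ni s.1)⁻¹ * s.2.1.2 * ni s.1,
        s.2.2.2.1.trans (isConj_iff.2 ⟨(ni s.1)⁻¹, by group⟩),
        ((hni s.1).inv_left.mul_left (hcomm s.2).2).mul_left (hni s.1)⟩)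
    rw [← Nat.card_prod, show 3 = Nat.card (Fin 3) by simp, ← Nat.card_prod]
    refine Nat.card_congr (Equiv.ofBijective f ⟨?_, ?_⟩)
    · rintro ⟨i, q⟩ ⟨j, q'⟩ e
      have e1 : q.1.1 = q'.1.1 := congrArg (fun s => (s.1 : G)) e
      have e2 : (ni i)⁻¹ * q.1.2 * ni i = (ni j)⁻¹ * q'.1.2 * ni j := congrArg (fun s => (s.2 : G)) e
      set v := (ni i)⁻¹ * q.1.2 * ni i with hv
      have hvz : Commute v z := ((hni i).inv_left.mul_left (hcomm q).2).mul_left (hni i)
      have hvb : IsConj b v := q.2.2.1.trans (isConj_iff.2 ⟨(ni i)⁻¹, by rw [hv]; group⟩)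
      obtain ⟨p, hp, hpb, hpa⟩ := F.coord_A hα ht htZ hz' hz1 q.2.1 (hcomm q).1
      obtain ⟨w, hw, hwa, hwb⟩ := F.coord_B hα hβ hb hbZ hz' hz1 hvb hvz
      have hi : q.1.2 = ni i * v * (ni i)⁻¹ := by rw [hv]; group
      have hj : q'.1.2 = ni j * v * (ni j)⁻¹ := by rw [e2]; group
      obtain ⟨w1, hw1, hw1a, hw1b⟩ := hval i v w hw hwa
      obtain ⟨w2, hw2, hw2a, hw2b⟩ := hval j v w hw hwa
      rw [← hi] at hw1
      rw [← hj] at hw2
      have hnz1 : w1.b ≠ 0 := by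
        rw [hw1b]
        obtain ⟨x, hx, hxa, hxb⟩ := F.coord_B hα hβ hb hbZ hz' hz1 q.2.2.1 (hcomm q).2
        rw [← hw1b, coord_unique hz' hw1 hx]
        exact hxb
      have hnz2 : w2.b ≠ 0 := by
        obtain ⟨x, hx, hxa, hxb⟩ := F.coord_B hα hβ hb hbZ hz' hz1 q'.2.2.1 (hcomm q').2
        rw [coord_unique hz' hw2 hx]
        exact hxb
      have g1 := (good _ _ p w1 q.2.1 q.2.2.1 (hcomm q).1 (hcomm q).2 hp hpb hpa hw1 hw1a hnz1).1 q.2.2.2
      have g2 := (good _ _ p w2 q'.2.1 q'.2.2.1 (hcomm q').1 (hcomm q').2 (by rw [← e1]; exact hp) hpb hpa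
        hw2 hw2a hnz2).1 q'.2.2.2
      rw [hw1b] at g1
      rw [hw2b] at g2
      have hij := unique_value p.a w.b c.c m i j hc0 hm1 hm0 g1 g2
      subst hij
      exact Prod.ext rfl (Subtype.ext (Prod.ext e1 (hi.trans hj.symm)))
    · rintro ⟨⟨u, hu, huz⟩, ⟨v, hv, hvz⟩⟩
      obtain ⟨p, hp, hpb, hpa⟩ := F.coord_A hα ht htZ hz' hz1 hu huz
      obtain ⟨w, hw, hwa, hwb⟩ := F.coord_B hα hβ hb hbZ hz' hz1 hv hvz
      obtain ⟨i, hi⟩ := reach_value p.a w.b c.c m hpa hwb hc0 hm1 hm0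
      obtain ⟨w1, hw1, hw1a, hw1b⟩ := hval i v w hw hwa
      have hvz' : Commute (ni i * v * (ni i)⁻¹) z := ((hni i).mul_left hvz).mul_left (hni i).inv_left
      have hw1ne : w1.b ≠ 0 := fun e0 => hc0 (by
        rw [← hi, ← hw1b, e0, CfsgLib.Invol.HeisFour.fm_zero_right])
      have hmem := (good u _ p w1 hu (hbconj i v hv) huz hvz' hp hpb hpa hw1 hw1a hw1ne).2 (by rw [hw1b]; exact hi)
      refine ⟨(i, ⟨(u, ni i * v * (ni i)⁻¹), hu, hbconj i v hv, hmem⟩), Prod.ext rfl (Subtype.ext ?_)⟩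
      show (ni i)⁻¹ * (ni i * v * (ni i)⁻¹) * ni i = v
      group
  obtain ⟨hX1, hX1', hX1p⟩ := H.bad_ineq hα ht htZ hz hz1
  obtain ⟨hX2, -, hX2p⟩ := K.bad_ineq hβ hb' hbZ' (by rw [F.swap_Z]; exact hz) hz1
  have hX1lt := hX1' hn
  -- the same for the other side
  have hzb : ∀ {x y : G}, IsConj z x → IsConj b y → ∃ w, IsConj b w ∧ w ∈ zpowers (x * y) := by
    intro x y hx hy
    have hne : ¬ IsConj x y := fun e => F.swap.not_isConj_AZ hβ hb' hbZ' (by rw [F.swap_Z]; exact hz)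
      ((hy.trans e.symm).trans hx.symm)
    have hxo := invol_of_isConj hzo hx
    have hyo := invol_of_isConj hbo hy
    have hev := even_of_not_isConj hxo hyo hne
    set w := (x * y) ^ (orderOf (x * y) / 2) with hw
    have hwo : orderOf w = 2 := orderOf_pow_half hev
    have hwm : w ∈ zpowers (x * y) := pow_mem (mem_zpowers _) _
    obtain ⟨hxw, hyw⟩ := commute_of_mem_zpowers hxo hyo hwo hwm
    rcases hclass w hwo with h' | h' | h'
    · exfalso
      obtain ⟨g, hg⟩ := isConj_iff.1 h'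
      have hx' : IsConj z (g⁻¹ * x * g) := hx.trans (isConj_iff.2 ⟨g⁻¹, by group⟩)
      have hy' : IsConj b (g⁻¹ * y * g) := hy.trans (isConj_iff.2 ⟨g⁻¹, by group⟩)
      have hxz : Commute (g⁻¹ * x * g) z := by
        have h1 := (Commute.conj_iff g⁻¹).2 hxw
        rw [← hg] at h1
        simpa [mul_assoc] using h1
      have hyz : Commute (g⁻¹ * y * g) z := by
        have h1 := (Commute.conj_iff g⁻¹).2 hyw
        rw [← hg] at h1
        simpa [mul_assoc] using h1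
      obtain ⟨p, hp, hpa, hpb⟩ := F.swap.coord_Z hβ (by
        show ¬ F.swap.swap.Alpha
        rw [swap_swap_frame]; exact hα) (by rw [F.swap_Z]; exact hz) hz1 hx' hxz
      obtain ⟨q, hq, hqb, hqa⟩ := F.swap.coord_A hβ hb' hbZ' (by rw [F.swap_Z]; exact hz) hz1 hy' hyz
      have hpow : z = (g⁻¹ * x * g * (g⁻¹ * y * g)) ^ (orderOf (x * y) / 2) := by
        rw [show g⁻¹ * x * g * (g⁻¹ * y * g) = g⁻¹ * (x * y) * g⁻¹⁻¹ by group, conj_pow, ← hw, ← hg]
        group
      have hzS : z ∈ F.swap.Z := by rw [F.swap_Z]; exact hz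
      have h1 := (hp.mul hzS hq).pow hzS (orderOf (x * y) / 2)
      rw [← hpow] at h1
      obtain ⟨c, hc, hce⟩ := hzS
      have h2 := coord_unique (z := z) ⟨c, hc, hce⟩ h1 (p := _) (q := c) (by rw [← hce]; exact coord_hom _ c)
      obtain ⟨hsq, hne'⟩ := prod_ZA p q hpa hpb hqb hqa
      rcases Nat.even_or_odd (orderOf (x * y) / 2) with ⟨j, hj⟩ | ⟨j, hj⟩
      · rw [hj, ← two_mul, pow_mul, hsq, one_pow] at h2
        rw [← h2, map_one] at hce
        exact hz1 hce.symm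
      · rw [hj, pow_succ, pow_mul, hsq, one_pow, one_mul] at h2
        exact hne' (h2 ▸ hc.2)
    · exact absurd hyw.symm (F.no_common hα hβ ht htZ hb hbZ h' hy)
    · exact ⟨w, h', hwm⟩
  have e6 := class_product z b b hbo fun x y hx hy => hzb hx hy
  haveI : Nonempty {x : G // IsConj z x} := ⟨⟨z, IsConj.refl z⟩⟩
  haveI : Nonempty {x : G // IsConj t x} := ⟨⟨t, IsConj.refl t⟩⟩
  haveI : Nonempty {x : G // IsConj b x} := ⟨⟨b, IsConj.refl b⟩⟩
  have hZp : 0 < Nat.card {x : G // IsConj z x} := Nat.card_pos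
  have hTp : 0 < Nat.card {x : G // IsConj t x} := Nat.card_pos
  have hBp : 0 < Nat.card {x : G // IsConj b x} := Nat.card_pos
  set Zc := Nat.card {x : G // IsConj z x}
  set Tc := Nat.card {x : G // IsConj t x}
  set Bc := Nat.card {x : G // IsConj b x}
  set X1 := Nat.card (Xset z t)
  set X2 := Nat.card (Xset z b)
  set Y1 := Nat.card {u : G // IsConj t u ∧ Commute u z}
  set Y2 := Nat.card {v : G // IsConj b v ∧ Commute v z}
  set P1 := Nat.card (Pset z t)
  set P2 := Nat.card (Pset z b)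
  set P0 := Nat.card {p : G × G // IsConj t p.1 ∧ IsConj b p.2 ∧ z ∈ zpowers (p.1 * p.2)}
  have f1 : P1 = Zc := Nat.eq_of_mul_eq_mul_left hTp (e1.symm.trans (mul_comm _ _))
  have f2 : P2 = Zc := Nat.eq_of_mul_eq_mul_left hBp (e6.symm.trans (mul_comm _ _))
  have f3 : 3 * Zc = X1 * X2 := by
    have h1 : 3 * Zc * (Tc * Bc) = X1 * X2 * (Tc * Bc) := by
      calc 3 * Zc * (Tc * Bc) = 3 * Zc * (Zc * P0) := by rw [e2]
        _ = Zc * Zc * (3 * P0) := by ring
        _ = Zc * Zc * (Y1 * Y2) := by rw [e5]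
        _ = (Zc * Y1) * (Zc * Y2) := by ring
        _ = (Tc * X1) * (Bc * X2) := by rw [e3, e4]
        _ = X1 * X2 * (Tc * Bc) := by ring
    exact Nat.eq_of_mul_eq_mul_right (Nat.mul_pos hTp hBp) h1
  rw [f1] at hX1lt
  rw [f2] at hX2
  have h4 : X1 * X1 * (X2 * X2) < 3 * Zc * (3 * Zc) :=
    lt_of_lt_of_le (Nat.mul_lt_mul_of_pos_right hX1lt (Nat.mul_pos hX2p hX2p)) (Nat.mul_le_mul_left _ hX2)
  rw [f3] at h4
  exact absurd h4 (by rw [show X1 * X1 * (X2 * X2) = X1 * X2 * (X1 * X2) by ring]; exact lt_irrefl _)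

end Frame

end CfsgLib.Invol.L34Type
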