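import Cfsg.Agent.Lib.Invol.L34Type.Endgame
import Cfsg.Agent.Lib.Coprime.Core

/-!
# A strongly embedded subgroup gives a plane with an odd transitive subgroup
-/

set_option autoImplicit false
set_option linter.unusedSectionVars false
set_option linter.style.haveILetI false

namespace CfsgLib.Invol.L34Type

open Subgroup
open CfsgLib.Invol
open CfsgLib.Invol.HeisFour (H4)
open CfsgLib.ProdFusion (OC OC_le le_OC odd_card_OC le_normalizer_OC_self)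

universe u

variable {G : Type u} [Group G] [Finite G]

namespace Frame

variable (F : Frame G)

theorem plane_of_embedded {M : Subgroup G} (hM : Cfsg.IsStronglyEmbedded M)
    (hA : normalizer (F.A : Set G) ≤ M) (hB : normalizer (F.B : Set G) ≤ M)
    (hW : F.W ≤ M) (hodd : Odd (Nat.card F.W)) (hWn : M ≤ normalizer (F.W : Set G))
    (hβ : F.swap.Alpha) :
    ∃ (F' : Frame (M ⧸ Cfsg.oddCore M)), PlaneHyp F' ∧ Cfsg.oddCore (M ⧸ Cfsg.oddCore M) = ⊥ ∧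
      ∃ D : Subgroup (M ⧸ Cfsg.oddCore M), Odd (Nat.card D) ∧
        ∀ i j : M ⧸ Cfsg.oddCore M, orderOf i = 2 → orderOf j = 2 → ∃ d ∈ D, d * i * d⁻¹ = j := by
  haveI : Fact (Nat.Prime 2) := ⟨Nat.prime_two⟩
  set O := Cfsg.oddCore M with hOdef
  haveI : O.Normal := by
    haveI := CfsgLib.Coprime.pPrimeCore_characteristic (G := M) 2
    infer_instance
  have hOodd : Odd (Nat.card O) := by
    have h := odd_card_OC M
    rwa [OC, card_map_of_injective M.subtype_injective] at h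
  set q := QuotientGroup.mk' O with hq
  have hqs : Function.Surjective q := QuotientGroup.mk'_surjective O
  have hTM : (F.T : Subgroup G) ≤ M := F.T_le_normalizer_A.trans hA
  have hWO : ∀ x (hx : x ∈ F.W), (⟨x, hW hx⟩ : M) ∈ O := by
    intro x hx
    haveI : (F.W.subgroupOf M).Normal := (normal_subgroupOf_iff_le_normalizer hW).2 hWn
    refine CfsgLib.Coprime.le_pPrimeCore (N := F.W.subgroupOf M) (p := 2) ?_ (mem_subgroupOf.2 hx)
    rw [Nat.card_congr (subgroupOfEquivOfLe hW).toEquiv]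
    exact CfsgLib.ProdFusion.odd_iff_coprime.1 hodd
  set ψ : (F.T : Subgroup G) →* M ⧸ O := q.comp (Subgroup.inclusion hTM) with hψ
  have hTO : ∀ t ∈ (F.T : Subgroup G), ∀ (h : t ∈ M), (⟨t, h⟩ : M) ∈ O → t = 1 := by
    intro t ht h hto
    obtain ⟨k, hk⟩ := F.T.2 ⟨t, ht⟩
    have h1 : (⟨t, h⟩ : M) = 1 := eq_one_of_odd_of_pow_two (k := k)
      (CfsgLib.ProdFusion.odd_orderOf_of_mem hOodd hto) (Subtype.ext (by simpa using congrArg Subtype.val hk))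
    exact congrArg Subtype.val h1
  have hψi : Function.Injective ψ := by
    refine (injective_iff_map_eq_one ψ).2 fun t ht => Subtype.ext ?_
    exact hTO t t.2 (hTM t.2) ((QuotientGroup.eq_one_iff _).1 ht)
  have hidx : ¬ 2 ∣ ψ.range.index := by
    have e : ψ.range = ((F.T : Subgroup G).subgroupOf M).map q := by
      ext x
      constructor
      · rintro ⟨t, rfl⟩; exact ⟨Subgroup.inclusion hTM t, t.2, rfl⟩
      · rintro ⟨m, hm, rfl⟩; exact ⟨⟨m, hm⟩, rfl⟩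
    rw [e]
    intro h
    exact F.not_dvd_index ((h.trans (index_map_dvd _ hqs)).trans (by
      rw [← (F.T : Subgroup G).relIndex_mul_index hTM]; exact dvd_mul_right _ _))
  let F' : Frame (M ⧸ O) :=
    ⟨((IsPGroup.of_card (n := 6) (by
        rw [Nat.card_congr (MonoidHom.ofInjective hψi).toEquiv.symm, F.card_T]; norm_num)) :
        IsPGroup 2 ψ.range).toSylow hidx,
      F.e.trans (MonoidHom.ofInjective hψi)⟩
  have hhom : ∀ p : H4, F'.hom p = q ⟨F.hom p, hTM (F.hom_mem p)⟩ := fun p => rfl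
  have lift : ∀ g : M ⧸ O, ∀ z (hz : z ∈ F.Z), z ≠ 1 → Commute g (q ⟨z, hTM (F.Z_le hz)⟩) →
      ∃ n : M, (n : G) ∈ normalizer ((F.T : Subgroup G) : Set G) ∧ g = q n := by
    intro g z hz hz1 hc
    obtain ⟨m, rfl⟩ := hqs g
    obtain ⟨o, ho, hoc⟩ := CfsgLib.ProdFusion.exists_commute_of_commute_mk hOodd (s := (⟨z, hTM (F.Z_le hz)⟩ : M))
      (by rw [Subgroup.orderOf_mk]; exact invol_iff.2 ⟨F.sq_of_mem (F.Z_le_A hz), hz1⟩) hc
    have h1 : ((o * m : M) : G) ∈ centralizer ({z} : Set G) :=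
      mem_centralizer_singleton_iff.2 (congrArg Subtype.val hoc.eq)
    obtain ⟨w, hw, n, hn, he⟩ := F.cz_factor hz hz1 h1
    have hwW : w ∈ F.W := F.θ_le_W_Z hz hz1 hw
    refine ⟨⟨n, hA (F.N_T_le_A hn.1)⟩, hn.1, ?_⟩
    have e : (o * m : M) = ⟨w, hW hwW⟩ * ⟨n, hA (F.N_T_le_A hn.1)⟩ := Subtype.ext he
    calc q m = q (o * m) := by
          rw [map_mul, show q o = 1 from (QuotientGroup.eq_one_iff o).2 ho, one_mul]
      _ = q ⟨n, hA (F.N_T_le_A hn.1)⟩ := by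
          rw [e, map_mul, show q ⟨w, hW hwW⟩ = 1 from (QuotientGroup.eq_one_iff _).2 (hWO w hwW), one_mul]
  have hT' : ∀ x, x ∈ (F'.T : Subgroup (M ⧸ O)) → ∃ t, ∃ ht : t ∈ (F.T : Subgroup G), x = q ⟨t, hTM ht⟩ := by
    rintro x ⟨t, rfl⟩
    exact ⟨t, t.2, rfl⟩
  have hZ' : ∀ x ∈ F'.Z, ∃ z, ∃ hz : z ∈ F.Z, x = q ⟨z, hTM (F.Z_le hz)⟩ := by
    rintro x ⟨p, hp, rfl⟩
    exact ⟨F.hom p, ⟨p, hp, rfl⟩, hhom p⟩
  have cent : ∀ z ∈ F'.Z, z ≠ 1 →
      centralizer ({z} : Set (M ⧸ O)) ≤ normalizer ((F'.T : Subgroup (M ⧸ O)) : Set (M ⧸ O)) := by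
    intro x hx hx1 g hg
    obtain ⟨z, hz, rfl⟩ := hZ' x hx
    obtain ⟨n, hn, rfl⟩ := lift g z hz (fun e => hx1 (by
      rw [show (⟨z, hTM (F.Z_le hz)⟩ : M) = 1 from Subtype.ext e, map_one]))
      (mem_centralizer_singleton_iff.1 hg)
    refine CfsgLib.ProdFusion.mem_of_forall_conj_mem fun y hy => ?_
    obtain ⟨t, ht, rfl⟩ := hT' y hy
    rw [← map_inv, ← map_mul, ← map_mul]
    exact ⟨⟨(n : G) * t * (n : G)⁻¹, (mem_normalizer_iff.1 hn t).1 ht⟩, rfl⟩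
  have hto : ∀ p : H4, ∀ n : G, ∀ (hn : n ∈ M), n * F.hom p * n⁻¹ ∈ F.Z →
      q ⟨n, hn⟩ * F'.hom p * (q ⟨n, hn⟩)⁻¹ ∈ F'.Z := by
    intro p n hn hmem
    obtain ⟨r, hr, hre⟩ := hmem
    refine ⟨r, hr, ?_⟩
    rw [hhom, hhom, ← map_inv, ← map_mul, ← map_mul]
    exact congrArg q (Subtype.ext hre)
  have normA' : ∀ (F₁ : Frame G) (F₁' : Frame (M ⧸ O))
      (_ : ∀ p : H4, ∃ h : F₁.hom p ∈ M, F₁'.hom p = q ⟨F₁.hom p, h⟩) (n : G) (hn : n ∈ M),
      n ∈ normalizer (F₁.A : Set G) → q ⟨n, hn⟩ ∈ normalizer (F₁'.A : Set (M ⧸ O)) := by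
    intro F₁ F₁' hh n hn hnA
    refine CfsgLib.ProdFusion.mem_of_forall_conj_mem ?_
    rintro _ ⟨p, hp, rfl⟩
    obtain ⟨r, hr, hre⟩ := (mem_normalizer_iff.1 hnA _).1 (show F₁.hom p ∈ F₁.A from ⟨p, hp, rfl⟩)
    refine ⟨r, hr, ?_⟩
    obtain ⟨h1, e1⟩ := hh p
    obtain ⟨h2, e2⟩ := hh r
    rw [e1, e2, ← map_inv, ← map_mul, ← map_mul]
    exact congrArg q (Subtype.ext hre)
  refine ⟨F', ⟨cent, ?_, ?_, ?_⟩, CfsgLib.Coprime.pPrimeCore_quotient_eq_bot Nat.prime_two, ?_⟩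
  · intro g hg
    obtain ⟨z, hz, hz1⟩ := F.exists_Z_ne_one
    obtain ⟨n, hn, rfl⟩ := lift g z hz hz1
      (mem_centralizer_iff.1 hg _ ⟨⟨z, F.Z_le hz⟩, rfl⟩).symm
    have hnT : (n : G) ∈ centralizer ((F.T : Subgroup G) : Set G) := mem_centralizer_iff.2 fun t ht => by
      have h1 : (n : G) * t * (n : G)⁻¹ ∈ (F.T : Subgroup G) := (mem_normalizer_iff.1 hn t).1 ht
      have h2 : (⟨(n : G) * t * (n : G)⁻¹ * t⁻¹, M.mul_mem (hTM h1) (M.inv_mem (hTM ht))⟩ : M) ∈ O := by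
        refine (QuotientGroup.eq_one_iff _).1 ?_
        show q (n * ⟨t, hTM ht⟩ * n⁻¹ * (⟨t, hTM ht⟩)⁻¹) = 1
        have hcomm : q n * q ⟨t, hTM ht⟩ = q ⟨t, hTM ht⟩ * q n := (mem_centralizer_iff.1 hg _ ⟨⟨t, ht⟩, rfl⟩).symm
        rw [map_mul, map_mul, map_mul, map_inv, map_inv, hcomm, mul_inv_cancel_right, mul_inv_cancel]
      have h3 := hTO _ ((F.T : Subgroup G).mul_mem h1 ((F.T : Subgroup G).inv_mem ht)) _ h2
      exact (mul_inv_eq_iff_eq_mul.1 (mul_inv_eq_one.1 h3)).symm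
    obtain ⟨c, hc, d, hd, he⟩ := F.cent_A_decomp (centralizer_le F.A_le hnT)
    have hdz : d ∈ θ z := by
      refine (F.nice_Z hz hz1).le (fun c hc => F.sq_of_mem hc) (F.A_le_centralizer (F.Z_le_A hz))
        (fun _ hn => F.cent_A_decomp hn) (F.Z_le_A hz)
        ((OC_le _).trans (centralizer_le (Set.singleton_subset_iff.2 (F.Z_le_A hz))))
        (odd_card_OC _) (fun a ha x hx => ?_) hd
      exact (mem_normalizer_iff.1 (le_normalizer_OC_self _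
        (mem_centralizer_iff.2 fun b hb => F.comm_A hb ha)) x).1 hx
    have hdW : d ∈ F.W := F.θ_le_W_Z hz hz1 hdz
    have e : n = ⟨c, hTM (F.A_le hc)⟩ * ⟨d, hW hdW⟩ := Subtype.ext he
    rw [e, map_mul, show q ⟨d, hW hdW⟩ = 1 from (QuotientGroup.eq_one_iff _).2 (hWO d hdW), mul_one]
    exact ⟨⟨c, F.A_le hc⟩, rfl⟩
  · rintro _ ⟨p, hp, rfl⟩
    obtain ⟨n, hn, hnZ⟩ := F.exists_to_Z (F.alpha_of_embedded hM) (F.hom_mem_A.2 hp)
    exact ⟨q ⟨n, hA hn⟩, normA' F F' (fun p => ⟨_, hhom p⟩) n (hA hn) hn, hto p n (hA hn) hnZ⟩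
  · intro b hb
    rw [← F'.swap_A] at hb
    obtain ⟨p, hp, rfl⟩ := hb
    obtain ⟨n, hn, hnZ⟩ := F.swap.exists_to_Z hβ (F.swap.hom_mem_A.2 hp)
    rw [F.swap_Z] at hnZ
    refine ⟨q ⟨n, hB (F.swap_A ▸ hn)⟩, ?_, hto (swapFun p) n (hB (F.swap_A ▸ hn)) hnZ⟩
    rw [← F'.swap_A]
    exact normA' F.swap F'.swap (fun p => ⟨_, hhom (swapFun p)⟩) n _ hn
  · obtain ⟨u, hu⟩ : ∃ u, u ∉ M := by
      by_contra h
      push Not at h
      exact hM.1 (eq_top_iff.2 fun x _ => h x)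
    set D := M ⊓ M.map (MulAut.conj u).toMonoidHom with hD
    refine ⟨(D.subgroupOf M).map q, ?_, fun i j hi hj => ?_⟩
    · refine (hM.2.2 u hu).of_dvd_nat ?_
      rw [← Nat.card_congr (subgroupOfEquivOfLe (inf_le_left : D ≤ M)).toEquiv]
      exact card_map_dvd _ _
    · have liftI : ∀ i : M ⧸ O, orderOf i = 2 → ∃ s : M, orderOf (s : G) = 2 ∧ q s = i := by
        intro i hi
        obtain ⟨k, hk⟩ := exists_conj_le_sylow (Q := zpowers i)
          (IsPGroup.of_card (n := 1) (by rw [Nat.card_zpowers, hi, pow_one])) F'.T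
        obtain ⟨t, ht, hte⟩ := hT' _ (hk i (mem_zpowers i))
        obtain ⟨k, rfl⟩ := hqs k
        have hto : orderOf t = 2 := by
          have h1 : orderOf (ψ ⟨t, ht⟩) = 2 := by
            show orderOf (q ⟨t, hTM ht⟩) = 2
            rw [← hte]; exact invol_conj hi _
          rwa [orderOf_injective ψ hψi, Subgroup.orderOf_mk] at h1
        refine ⟨k⁻¹ * ⟨t, hTM ht⟩ * k, ?_, ?_⟩
        · push_cast
          simpa using invol_conj hto (k : G)⁻¹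
        · rw [map_mul, map_mul, map_inv, ← hte]; group
      obtain ⟨s, hs, rfl⟩ := liftI i hi
      obtain ⟨t, ht, rfl⟩ := liftI j hj
      obtain ⟨d, hd, hde⟩ := transitive_two_point hM (u := u) hs s.2 t.2 ht
      refine ⟨q ⟨d, hd.1⟩, ⟨⟨d, hd.1⟩, hd, rfl⟩, ?_⟩
      rw [← map_inv, ← map_mul, ← map_mul]
      exact congrArg q (Subtype.ext hde)

end Frame

end CfsgLib.Invol.L34Type
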