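import Cfsg.Agent.Lib.Invol.L34Type.Side
import Cfsg.Agent.Lib.Fusion.Transfer
import Cfsg.Agent.S5107

/-!
# One bad side and no fusion into the centre: the other side is normal, by transfer
-/

set_option autoImplicit false
set_option linter.unusedSectionVars false
set_option linter.style.haveILetI false

namespace CfsgLib.Invol.L34Type

open Subgroup
open CfsgLib.Invol
open CfsgLib.Invol.HeisFour (V fm H4)
open CfsgLib.Coprime (conjBy mem_conjBy conjBy_eq_self_iff)
open scoped commutatorElement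

universe u

variable {G : Type u} [Group G] [Finite G]

namespace Frame

variable (F : Frame G)

theorem inter_centralizer_T :
    (F.T : Subgroup G) ⊓ centralizer ((F.T : Subgroup G) : Set G) = F.Z :=
  le_antisymm (fun _ hx => F.cent_T hx.1 hx.2) fun x hx =>
    ⟨F.Z_le hx, mem_centralizer_iff.2 fun _ ht => F.Z_central hx ht⟩

theorem commutator_T_le : ⁅(F.T : Subgroup G), (F.T : Subgroup G)⁆ ≤ F.Z := by
  refine Subgroup.commutator_le.2 fun x hx y hy => ?_
  obtain ⟨p, rfl⟩ := F.exists_of_mem hx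
  obtain ⟨q, rfl⟩ := F.exists_of_mem hy
  rw [← map_commutatorElement, F.hom_mem_Z, commutatorElement_def, comm_value]
  exact ⟨rfl, rfl⟩

theorem Z_strongly_closed (hα : ¬ F.Alpha) (hβ : ¬ F.swap.Alpha) :
    Cfsg.IsStronglyClosed F.Z (F.T : Subgroup G) := by
  refine ⟨F.Z_le, fun z hz g hg => ?_⟩
  set y := g * z * g⁻¹ with hy
  have hback : g⁻¹ * y * g⁻¹⁻¹ = z := by rw [hy]; group
  rcases F.invol_cases hg (by
    rw [hy, show g * z * g⁻¹ * (g * z * g⁻¹) = g * (z * z) * g⁻¹ by group, F.sq_of_mem (F.Z_le_A hz)]; group)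
    with h | h
  · exact F.mem_Z_of_fused (not_not.1 hα) h (g := g⁻¹) (by rw [hback]; exact hz)
  · have h' := F.swap.mem_Z_of_fused (not_not.1 hβ) (x := y) (by rw [F.swap_A]; exact h) (g := g⁻¹)
      (by rw [hback, F.swap_Z]; exact hz)
    rwa [F.swap_Z] at h'

/-- fusion in `T` is induced by its normaliser when `Z` is not fused outside -/
theorem exists_normalizer_T_conj (hα : ¬ F.Alpha) (hβ : ¬ F.swap.Alpha) {x : G}
    (hx : x ∈ (F.T : Subgroup G)) (g : G) (hg : g * x * g⁻¹ ∈ (F.T : Subgroup G)) :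
    ∃ n ∈ normalizer ((F.T : Subgroup G) : Set G), n * x * n⁻¹ = g * x * g⁻¹ := by
  haveI : Fact (Nat.Prime 2) := ⟨Nat.prime_two⟩
  set P := zpowers x with hP
  set φ : P →* G := (MulAut.conj g).toMonoidHom.comp P.subtype with hφ
  have hcl : ⁅(F.T : Subgroup G), (F.T : Subgroup G)⁆ ≤
      (F.T : Subgroup G) ⊓ centralizer ((F.T : Subgroup G) : Set G) :=
    F.commutator_T_le.trans F.inter_centralizer_T.ge
  obtain ⟨h, -⟩ := Cfsg.Agent.S5107.result 2 F.T hcl
    (by rw [F.inter_centralizer_T]; exact F.Z_strongly_closed hα hβ)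
  obtain ⟨n, hn, hne⟩ := h P φ ⟨zpowers_le.2 hx, fun y => by
    obtain ⟨k, hk⟩ := mem_zpowers_iff.1 y.2
    show MulAut.conj g (y : G) ∈ _
    rw [← hk, map_zpow]
    exact Subgroup.zpow_mem _ hg k, g, fun y => rfl⟩
  exact ⟨n, hn, (hne ⟨x, mem_zpowers x⟩).symm⟩

/-- **one bad side, no fusion**: `B` is normal -/
theorem normal_B_of_transfer (hO : Cfsg.oddCore G = ⊥) (hα : ¬ F.Alpha) (hβ : ¬ F.swap.Alpha)
    (hl : ∀ n ∈ normalizer ((F.T : Subgroup G) : Set G), ∀ p, ∃ q, n * F.hom p * n⁻¹ = F.hom q ∧ q.a = p.a) :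
    F.B.Normal := by
  haveI : Fact (Nat.Prime 2) := ⟨Nat.prime_two⟩
  set S := (F.T : Subgroup G) with hS
  have hfocal : S.focalSubgroup ≤ F.B := by
    refine (CfsgLib.Fusion.focalSubgroup_le_of_control (N := normalizer (S : Set G))
      fun x hx g hg => F.exists_normalizer_T_conj hα hβ hx g hg).trans (Subgroup.commutator_le.2 fun x hx n hn => ?_)
    obtain ⟨p, rfl⟩ := F.exists_of_mem hx
    obtain ⟨q, hq, hqa⟩ := hl n hn p⁻¹
    rw [commutatorElement_def, show F.hom p * n * (F.hom p)⁻¹ * n⁻¹ = F.hom p * (n * (F.hom p)⁻¹ * n⁻¹) by group,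
      ← map_inv, hq, ← map_mul, F.hom_mem_B, CfsgLib.Invol.HeisFour.mul_def]
    show p.a + q.a = 0
    rw [hqa]
    exact CfsgLib.Invol.HeisFour.self_add p.a
  have hcop := CfsgLib.Fusion.coprime_card_focalQuotient F.T
  set K := S.transferFocal.ker with hK
  have hKS : K ⊓ S = S.focalSubgroup := CfsgLib.Fusion.ker_transferFocal_inf hcop
  set H := K ⊔ F.B with hH
  have hcomm : commutator G ≤ K := by
    rw [commutator_def, Subgroup.commutator_le]
    intro a _ b _
    rw [hK, MonoidHom.mem_ker, map_commutatorElement]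
    exact commutatorElement_eq_one_iff_commute.2 (IsMulCommutative.is_comm.comm _ _)
  haveI hHn : H.Normal := ⟨fun x hx g => by
    have h1 : g * x * g⁻¹ * x⁻¹ ∈ H := mem_sup_left (hcomm (Subgroup.commutator_mem_commutator (mem_top g) (mem_top x)))
    simpa using H.mul_mem h1 hx⟩
  have hHS : ∀ x ∈ H, x ∈ S → x ∈ F.B := by
    intro x hx hxS
    rw [hH, ← SetLike.mem_coe, normal_mul, Set.mem_mul] at hx
    obtain ⟨k, hk, b, hb, rfl⟩ := hx
    refine F.B.mul_mem (hfocal ?_) hb
    rw [← hKS]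
    exact ⟨hk, by simpa using S.mul_mem hxS (S.inv_mem (F.B_le hb))⟩
  have hBH : F.B ≤ H := le_sup_right
  -- the Sylow subgroup of `H`
  obtain ⟨Q⟩ : Nonempty (Sylow 2 H) := inferInstance
  obtain ⟨c, hc⟩ := exists_conj_le_sylow (Q.2.map H.subtype) F.T
  have hidx : ¬ 2 ∣ (F.B.subgroupOf H).index := by
    intro h
    refine Q.not_dvd_index ?_
    have hle : Nat.card (Q : Subgroup H) ≤ Nat.card (F.B.subgroupOf H) := by
      rw [Nat.card_congr (subgroupOfEquivOfLe hBH).toEquiv]
      refine Nat.card_le_card_of_injective (fun y => (⟨c * ((y : H) : G) * c⁻¹, hHS _ (hHn.conj_mem _ (y : H).2 c)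
        (hc _ ⟨(y : H), y.2, rfl⟩)⟩ : F.B)) fun a b e => ?_
      exact Subtype.ext (Subtype.ext (mul_left_cancel (mul_right_cancel (congrArg Subtype.val e))))
    obtain ⟨Q', hQ'⟩ := ((F.T.2.to_le F.B_le).of_equiv (subgroupOfEquivOfLe hBH).symm).exists_le_sylow
    have he : F.B.subgroupOf H = (Q' : Subgroup H) := eq_of_le_of_card_ge hQ' (by
      rw [Nat.card_congr (Q'.equiv Q).toEquiv]; exact hle)
    exact absurd (he ▸ h) Q'.not_dvd_index
  let E : Sylow 2 H := ((F.T.2.to_le F.B_le).of_equiv (subgroupOfEquivOfLe hBH).symm).toSylow hidx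
  have hE : Cfsg.IsElementaryAbelian 2 (E : Subgroup H) := by
    refine ⟨⟨⟨fun a b => Subtype.ext (Subtype.ext ?_)⟩⟩, fun a ha => Subtype.ext ?_⟩
    · show ((a : H) : G) * ((b : H) : G) = ((b : H) : G) * ((a : H) : G)
      exact congrArg Subtype.val
        (F.elemB.1.is_comm.comm (⟨((a : H) : G), a.2⟩ : F.B) ⟨((b : H) : G), b.2⟩)
    · exact F.elemB.2 _ ha
  have hE3 : 2 ^ 3 ≤ Nat.card (E : Subgroup H) := by
    show 2 ^ 3 ≤ Nat.card (F.B.subgroupOf H)
    rw [Nat.card_congr (subgroupOfEquivOfLe hBH).toEquiv, F.card_B]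
    norm_num
  have hnorm : ∀ n : H, n ∈ normalizer ((E : Subgroup H) : Set H) → (n : G) ∈ normalizer (F.B : Set G) :=
    fun n hn => CfsgLib.ProdFusion.mem_of_forall_conj_mem fun b hb =>
      (mem_normalizer_iff.1 hn ⟨b, hBH hb⟩).1 hb
  have hN : ∀ n : G, n ∈ normalizer (F.B : Set G) →
      ∃ c ∈ centralizer (F.B : Set G), ∃ m ∈ normalizer (S : Set G), n = c * m := by
    intro n hn
    rw [← F.swap_A] at hn
    obtain ⟨c, hc, m, hm, he⟩ := F.swap.normA_decomp hn ((not_not.1 hβ) hn)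
    rw [F.swap_A] at hc
    exact ⟨c, hc, m, hm, he⟩
  have hfix : ∀ e ∈ (E : Subgroup H), e ≠ 1 → ∀ n ∈ normalizer ((E : Subgroup H) : Set H),
      Odd (orderOf n) → Commute n e → n ∈ centralizer ((E : Subgroup H) : Set H) := by
    intro e he he1 n hn ho hne
    obtain ⟨c, hcB, m, hm, hnm⟩ := hN _ (hnorm n hn)
    suffices key : (n : G) ∈ centralizer (F.B : Set G) by
      exact mem_centralizer_iff.2 fun s hs => Subtype.ext (mem_centralizer_iff.1 key _ hs)
    rw [hnm]
    refine mul_mem hcB (mem_of_parts (fun j hp => ?_) fun j hj => ?_)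
    · have h1 : IsPGroup 2 (S ⊔ zpowers (m ^ j) : Subgroup G) :=
        F.T.2.to_sup_of_normal_left' hp (zpowers_le.2 (pow_mem hm j))
      have hmS : m ^ j ∈ S := (F.T.3 h1 le_sup_left).le (mem_sup_right (mem_zpowers _))
      have hme : Commute (m ^ j) (e : G) := by
        refine Commute.pow_left ?_ j
        rw [show m = c⁻¹ * (n : G) by rw [hnm, inv_mul_cancel_left]]
        exact (show Commute c (e : G) from (mem_centralizer_iff.1 hcB _ he).symm).inv_left.mul_left
          (congrArg Subtype.val hne.eq)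
      by_cases heZ : (e : G) ∈ F.Z
      · -- an element of `T` that is a power of `m` commutes with the odd element modulo `C(B)`
        refine mem_centralizer_iff.2 fun b hb => ?_
        by_contra hcon
        obtain ⟨r, hr⟩ := ho
        have hnodd : ((n : G) ^ j) ^ (2 * r + 1) = 1 := by
          rw [← hr, ← pow_mul, mul_comm j, pow_mul, ← Subgroup.orderOf_coe, pow_orderOf_eq_one, one_pow]
        have hsq : m ^ j * m ^ j ∈ centralizer (F.B : Set G) := mem_centralizer_iff.2 fun b' hb' =>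
          (F.Z_central (F.sq_mem_Z hmS) (F.B_le hb')).symm ▸ rfl
        have hCn : ∀ k : ℕ, (n : G) ^ k * (m ^ k)⁻¹ ∈ centralizer (F.B : Set G) := by
          intro k
          induction k with
          | zero => simp
          | succ k ih =>
            have e1 : (n : G) ^ (k + 1) * (m ^ (k + 1))⁻¹ =
                (n : G) * ((n : G) ^ k * (m ^ k)⁻¹) * (n : G)⁻¹ * c := by
              rw [pow_succ', pow_succ', mul_inv_rev, hnm]; group
            rw [e1]
            exact mul_mem ((mem_normalizer_iff.1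
              (CfsgLib.Coprime.normalizer_le_normalizer_centralizer _ (hnorm n hn)) _).1 ih) hcB
        have hodd : (m ^ j) ^ (2 * r + 1) ∈ centralizer (F.B : Set G) := by
          have := hCn (j * (2 * r + 1))
          rw [pow_mul, hnodd, one_mul, pow_mul] at this
          exact (inv_mem_iff).1 this
        have hfin : m ^ j ∈ centralizer (F.B : Set G) := by
          have e2 : m ^ j = (m ^ j) ^ (2 * r + 1) * (((m ^ j) * (m ^ j)) ^ r)⁻¹ := by
            rw [← pow_two (m ^ j), ← pow_mul (m ^ j), pow_succ', mul_assoc, mul_inv_cancel, mul_one]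
          rw [e2]
          exact mul_mem hodd (inv_mem (pow_mem hsq r))
        exact hcon (mem_centralizer_iff.1 hfin b hb)
      · have hmB : m ^ j ∈ F.B := by
          have h := F.swap.mem_A_of_commute (t := (e : G)) (by rw [F.swap_A]; exact he) (by rw [F.swap_Z]; exact heZ)
            hmS hme.eq
          rwa [F.swap_A] at h
        exact mem_centralizer_iff.2 fun b hb => congrArg Subtype.val (F.elemB.1.is_comm.comm (⟨b, hb⟩ : F.B) ⟨_, hmB⟩)
    · obtain ⟨l, r, hl0, hr0, hlr, hcr, hcent⟩ := F.scalar (pow_mem hm j) hj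
      have hl1 : l = (1, 0) := by
        obtain ⟨q, hq, hqa⟩ := hl _ (pow_mem hm j) ⟨(1, 0), 0, 0⟩
        obtain ⟨d, hd⟩ := hlr ⟨(1, 0), 0, 0⟩
        rw [hd] at hq
        have h1 := congrArg H4.a (F.hom_injective hq)
        rw [hqa] at h1
        exact (fm_one_right l).symm.trans h1
      have hr1 : r = (1, 0) := by
        obtain ⟨p, hp, hpe⟩ := (show (e : G) ∈ F.B from he)
        have hne' : p.b ≠ 0 ∨ p.c ≠ 0 := by
          by_contra hcon
          push Not at hcon
          refine he1 (Subtype.ext ?_)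
          show (e : G) = 1
          rw [← hpe, show p = 1 from CfsgLib.Invol.HeisFour.H4.ext' hp hcon.1 hcon.2, map_one]
        have hme : Commute (m ^ j) (F.hom p) := by
          rw [hpe]
          refine Commute.pow_left ?_ j
          rw [show m = c⁻¹ * (n : G) by rw [hnm, inv_mul_cancel_left]]
          exact (show Commute c (e : G) from (mem_centralizer_iff.1 hcB _ he).symm).inv_left.mul_left
            (congrArg Subtype.val hne.eq)
        rcases eq_or_ne p.b 0 with hb0 | hb0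
        · have hpc := hcr p.c
          have hp' : p = (⟨0, 0, p.c⟩ : H4) := CfsgLib.Invol.HeisFour.H4.ext' hp hb0 rfl
          rw [← hp', hme.eq, mul_inv_cancel_right, hl1, fm_one] at hpc
          exact scalar_one r p.c (congrArg H4.c (F.hom_injective hpc)).symm (hne'.resolve_left (not_not.2 hb0))
        · obtain ⟨d, hd⟩ := hlr p
          rw [hme.eq, mul_inv_cancel_right] at hd
          exact scalar_one r p.b (congrArg H4.b (F.hom_injective hd)).symm hb0
      exact centralizer_le F.B_le (hcent hl1 hr1)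
  obtain ⟨z, hz, hz1⟩ := F.exists_Z_ne_one
  obtain ⟨b, hb, hbZ⟩ := F.swap.exists_A_not_Z
  rw [F.swap_A] at hb
  rw [F.swap_Z] at hbZ
  have hzb : ¬ IsConj (⟨z, hBH (F.Z_le_B hz)⟩ : H) ⟨b, hBH hb⟩ := by
    intro hc
    obtain ⟨k, hk⟩ := isConj_iff.1 hc
    have hk' : (k : G) * z * (k : G)⁻¹ = b := congrArg Subtype.val hk
    exact hbZ (hk' ▸ (F.Z_strongly_closed hα hβ).2 z hz k (by rw [hk']; exact F.B_le hb))
  have hfac := CfsgLib.Invol.EightTypeThree.factor_of_abelian_sylow E hE hE3 hfix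
    (z := (⟨z, hBH (F.Z_le_B hz)⟩ : H)) (F.Z_le_B hz) (fun e => hz1 (congrArg Subtype.val e))
    (b := (⟨b, hBH hb⟩ : H)) hb (fun e => hbZ (by rw [show b = 1 from congrArg Subtype.val e]; exact one_mem _)) hzb
  have hcore : Cfsg.pPrimeCore 2 H = ⊥ := by
    refine (Subgroup.map_eq_bot_iff_of_injective _ H.subtype_injective).1 ?_
    rw [CfsgLib.Coprime.pPrimeCore_map_subtype_eq Nat.prime_two, show Cfsg.pPrimeCore 2 G = ⊥ from hO, bot_inf_eq]
  have hHB : H ≤ normalizer (F.B : Set G) := by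
    intro h hh
    obtain ⟨o, ho, n, hn, he⟩ := hfac ⟨h, hh⟩
    rw [hcore, mem_bot] at ho
    rw [ho, one_mul] at he
    exact (show h = (n : G) from congrArg Subtype.val he) ▸ hnorm n hn
  have hle : ∀ g : G, ∀ b ∈ F.B, g * b * g⁻¹ ∈ F.B := by
    intro g b hb
    have h1 : IsPGroup 2 (F.B ⊔ conjBy g F.B : Subgroup G) :=
      (F.T.2.to_le F.B_le).to_sup_of_normal_left' ((F.T.2.to_le F.B_le).map _) (by
        rintro _ ⟨x, hx, rfl⟩
        exact hHB (hHn.conj_mem x (hBH hx) g))
    have hsupH : F.B ⊔ conjBy g F.B ≤ H := sup_le hBH (by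
      rintro _ ⟨x, hx, rfl⟩; exact hHn.conj_mem x (hBH hx) g)
    have h2 : (F.B ⊔ conjBy g F.B).subgroupOf H = F.B.subgroupOf H :=
      E.3 (h1.of_equiv (subgroupOfEquivOfLe hsupH).symm) (comap_mono le_sup_left)
    have h3 : (⟨g * b * g⁻¹, hHn.conj_mem b (hBH hb) g⟩ : H) ∈ (F.B ⊔ conjBy g F.B).subgroupOf H :=
      mem_sup_right ⟨b, hb, rfl⟩
    rw [h2] at h3
    exact h3
  exact ⟨fun b hb g => hle g b hb⟩

end Frame

end CfsgLib.Invol.L34Type
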