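import Cfsg.Agent.Lib.Invol.L34Type.Plane
import Cfsg.Agent.Lib.Invol.L34Type.Affine
import Cfsg.Agent.Lib.Invol.L34Type.Embedded
import Cfsg.Agent.Lib.Invol.L34Type.Transfer
import Cfsg.Agent.Lib.Invol.L34Type.CaseTwo
import Cfsg.Agent.Lib.Invol.L34Type.CaseFour
import Cfsg.Agent.Lib.Invol.OddCore

/-!
# Groups with a Sylow two-subgroup of type `L₃(4)` modulo the odd core
-/

set_option autoImplicit false
set_option linter.unusedSectionVars false
set_option linter.style.haveILetI false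

namespace CfsgLib.Invol.L34Type

open Subgroup
open CfsgLib.Invol
open CfsgLib.Invol.HeisFour (V fm H4)
open CfsgLib.ProdFusion (OC OC_le le_normalizer_OC le_normalizer_OC_self odd_card_OC)
open CfsgLib.Invol.EightTypeThree (Nice)

universe u

variable {G : Type u} [Group G] [Finite G]

theorem clear_second : ∀ m r : V, m ≠ 0 → r ≠ (1, 0) → r ≠ 0 →
    m = (1, 0) ∨ fm m r = (1, 0) ∨ fm m (fm r r) = (1, 0) := by decide +kernel

namespace Frame

variable (F : Frame G)

/-- the elements of `N(T)` fixing the first coordinate -/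
def firstFixing : Subgroup G where
  carrier := {g | g ∈ normalizer ((F.T : Subgroup G) : Set G) ∧ ∃ m : V, F.Acts g (1, 0) m}
  one_mem' := ⟨one_mem _, (1, 0), Acts.one⟩
  mul_mem' := by
    rintro g g' ⟨hg, m, h⟩ ⟨hg', m', h'⟩
    refine ⟨mul_mem hg hg', fm m m', ?_⟩
    have h2 := h.mul h'
    rwa [fm_one] at h2
  inv_mem' := by
    rintro g ⟨hg, m, h⟩
    obtain ⟨l', m', h', -, -, e3, -⟩ := h.pow (orderOf g - 1)
    refine ⟨inv_mem hg, m', ?_⟩
    rw [e3 rfl] at h'
    rwa [show g⁻¹ = g ^ (orderOf g - 1) from inv_eq_of_mul_eq_one_right (by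
      rw [← pow_succ', Nat.sub_add_cancel (orderOf_pos g), pow_orderOf_eq_one])]

/-- a bad side beside a good one: the first coordinate is fixed by the whole normaliser -/
theorem first_fixed (hA : F.Bad) (hB : ¬ F.swap.Bad) :
    ∀ n ∈ normalizer ((F.T : Subgroup G) : Set G), ∀ p, ∃ q, n * F.hom p * n⁻¹ = F.hom q ∧ q.a = p.a := by
  have key : ∀ g ∈ normalizer ((F.T : Subgroup G) : Set G), ∀ l, F.Acts g l (1, 0) → l = (1, 0) := by
    intro g hg l hgl
    have hmem : g ∈ F.firstFixing := mem_of_parts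
      (fun j hp => ⟨pow_mem hg j, (1, 0), F.acts_T (F.two_mem_T (pow_mem hg j) hp)⟩) fun j ho => by
        obtain ⟨l', m', h', -, -, -, e4⟩ := hgl.pow j
        rw [e4 rfl] at h'
        by_cases hl' : l' = (1, 0)
        · exact ⟨pow_mem hg j, (1, 0), hl' ▸ h'⟩
        exfalso
        have hs := h'.to_swap (pow_mem hg j)
        refine hB ⟨g ^ j, by rw [F.swap_T]; exact pow_mem hg j, ho, fun p => ?_,
          F.swap.hom ⟨0, 0, (1, 0)⟩, F.swap.hom_mem_Z.2 ⟨rfl, rfl⟩, fun hc => ?_⟩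
        · obtain ⟨d, hd⟩ := hs.pt p
          exact ⟨_, hd, by rw [fm_one]⟩
        · have h1 := hs.ctr (1, 0)
          rw [hc.eq, mul_inv_cancel_right, fm_one, fm_one_right] at h1
          exact hl' (congrArg H4.c (F.swap.hom_injective h1)).symm
    obtain ⟨-, m, hm⟩ := hmem
    exact (Acts.unique hgl hm).1
  obtain ⟨h, hh, ho, ha, hz⟩ := hA
  obtain ⟨r, hr0, hr1, hrp, hrc⟩ := F.bad_scalar hh ho ha hz
  have hr : F.Acts h (1, 0) r := ⟨fun p => by
    obtain ⟨d, hd⟩ := hrp p
    exact ⟨d, by rw [fm_one]; exact hd⟩, fun c => by rw [fm_one, hrc]⟩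
  intro n hn p
  obtain ⟨l, m, -, hm, hnl⟩ := F.acts_all hn
  have hl : l = (1, 0) := by
    rcases clear_second m r hm hr1 hr0 with e | e | e
    · exact key n hn l (e ▸ hnl)
    · have h2 := hnl.mul hr
      rw [fm_one_right, e] at h2
      exact key _ (mul_mem hn hh) l h2
    · have h2 := hnl.mul (hr.mul hr)
      rw [fm_one, fm_one_right, e] at h2
      exact key _ (mul_mem hn (mul_mem hh hh)) l h2
  obtain ⟨d, hd⟩ := hnl.pt p
  exact ⟨_, hd, by rw [hl, fm_one]⟩

theorem cent_B_of_normal (hO : Cfsg.oddCore G = ⊥) (hB : F.B.Normal) : centralizer (F.B : Set G) = F.B := by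
  set D := OC (centralizer (F.B : Set G)) with hD
  have hn : normalizer (D : Set G) = ⊤ := by
    refine top_le_iff.1 (le_trans ?_ (le_normalizer_OC _))
    refine le_trans ?_ (CfsgLib.Coprime.normalizer_le_normalizer_centralizer _)
    rw [normalizer_eq_top_iff.2 hB]
  haveI : D.Normal := normalizer_eq_top_iff.1 hn
  have hD1 : D = ⊥ := by
    rw [← le_bot_iff, ← hO]
    exact CfsgLib.Coprime.le_pPrimeCore (CfsgLib.ProdFusion.odd_iff_coprime.1 (odd_card_OC _))
  refine le_antisymm (fun g hg => ?_) fun b hb => mem_centralizer_iff.2 fun a ha =>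
    congrArg Subtype.val (F.elemB.1.is_comm.comm (⟨a, ha⟩ : F.B) ⟨b, hb⟩)
  have h1 := F.swap.cent_A_decomp (n := g) (by rw [F.swap_A]; exact hg)
  rw [F.swap_A] at h1
  obtain ⟨c, hc, d, hd, rfl⟩ := h1
  rw [← hD, hD1, mem_bot] at hd
  rw [hd, mul_one]
  exact hc

/-- a normal side gives an affine group -/
theorem embedding_of_normal_B (hO : Cfsg.oddCore G = ⊥) (hB : F.B.Normal) {K : Type*} [Field K] [Fintype K]
    (hK : Fintype.card K = 4) :
    ∃ f : G →* GL (Fin 3) K ⧸ Subgroup.center (GL (Fin 3) K), Function.Injective f := by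
  refine exists_affine_embedding F.swap (by rw [F.swap_A]; exact hB)
    (by rw [F.swap_A]; exact F.cent_B_of_normal hO hB) (fun g z hz hz1 hgz => ?_) hK
  have hx : ∀ x ∈ F.swap.Z, g * x * g⁻¹ ∈ F.swap.A := fun x hx => by
    rw [F.swap_A]
    exact hB.conj_mem x (F.Z_le_B (F.swap_Z ▸ hx)) g
  refine CfsgLib.Coprime.conjBy_eq_self_iff.1
    (F.swap.conj_Z_eq hx hgz (fun e => hz1 (conj_eq_one_iff.1 e)) ?_)
  rw [show g⁻¹ * (g * z * g⁻¹) * g = z by group]
  exact hz

theorem embedding_of_bad_side (hO : Cfsg.oddCore G = ⊥) (hn : ¬ ∀ a ∈ F.A, a ≠ 1 → Nice F.A a) {K : Type*}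
    [Field K] [Fintype K] (hK : Fintype.card K = 4) :
    ∃ f : G →* GL (Fin 3) K ⧸ Subgroup.center (GL (Fin 3) K), Function.Injective f := by
  push Not at hn
  obtain ⟨t, ht, ht1, htn⟩ := hn
  have htZ : t ∉ F.Z := fun h => htn (F.nice_Z h ht1)
  have hα : ¬ F.Alpha := fun h => htn (F.nice_all (Or.inl h) ht ht1)
  have hA : F.Bad := by
    by_contra h
    exact htn (F.nice_all (Or.inr h) ht ht1)
  by_cases hβ : F.swap.Alpha
  · exact (F.false_of_mixed hO hα hβ hA ht htZ htn).elim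
  by_cases hB : F.swap.Bad
  · exact (F.false_of_two_bad hα hβ hA hB ht htZ htn).elim
  exact F.embedding_of_normal_B hO (F.normal_B_of_transfer hO hα hβ (F.first_fixed hA hB)) hK

include F in
theorem embedding (hO : Cfsg.oddCore G = ⊥) {K : Type*} [Field K] [Fintype K] (hK : Fintype.card K = 4) :
    ∃ f : G →* GL (Fin 3) K ⧸ Subgroup.center (GL (Fin 3) K), Function.Injective f := by
  by_cases hnA : ∀ a ∈ F.A, a ≠ 1 → Nice F.A a
  swap
  · exact F.embedding_of_bad_side hO hnA hK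
  by_cases hnB' : ∀ b ∈ F.swap.A, b ≠ 1 → Nice F.swap.A b
  swap
  · exact F.swap.embedding_of_bad_side hO hnB' hK
  have hW : Odd (Nat.card F.W) := F.odd_W hnA
  have hnB : ∀ b ∈ F.B, b ≠ 1 → Nice F.B b := by rw [← F.swap_A]; exact hnB'
  set M := normalizer (F.W : Set G) with hM
  have hcen : ∀ i ∈ (F.T : Subgroup G), orderOf i = 2 → centralizer ({i} : Set G) ≤ M := by
    intro i hi hio g hg
    rcases F.invol_cases hi (invol_mul_self hio) with h | h
    · obtain ⟨o, ho, n, hn, rfl⟩ := hnA i h (invol_ne_one hio) g hg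
      exact M.mul_mem (le_normalizer (F.θ_le_W h ho)) (F.normA_le_W hn.1)
    · obtain ⟨o, ho, n, hn, rfl⟩ := hnB i h (invol_ne_one hio) g hg
      refine M.mul_mem ?_ (F.normB_le_W hn.1)
      have h1 := F.swap.θ_le_W (a := i) (by rw [F.swap_A]; exact h) ho
      rw [F.swap_W] at h1
      exact le_normalizer h1
  rcases F.top_or_embedded F.normA_le_W F.normB_le_W hcen with h | h
  · have hW0 := F.W_bot hO hW h
    by_cases hα : F.Alpha
    · by_cases hβ : F.swap.Alpha
      · exact (F.planeHyp hW0 hα hβ).exists_embedding hO hK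
      · refine F.swap.embedding_of_normal_B hO ?_ hK
        exact F.swap.normal_B (F.swap_W.trans hW0) hβ hnB' (by rw [F.swap_B]; exact hnA)
    · exact F.embedding_of_normal_B hO (F.normal_B hW0 hα hnA hnB) hK
  · exfalso
    obtain ⟨F', hp, hO', D, hD, htr⟩ := F.plane_of_embedded h F.normA_le_W F.normB_le_W le_normalizer hW le_rfl
      (F.swap.alpha_of_embedded h)
    exact hp.not_odd_transitive hO' D hD htr

end Frame

/-- **the classification modulo the odd core** -/
theorem exists_embedding_mod_core {K : Type*} [Field K] [Fintype K] (hK : Fintype.card K = 4) (S : Sylow 2 G)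
    (P : Sylow 2 (Matrix.ProjectiveSpecialLinearGroup (Fin 3) K))
    (e : ↥(S : Subgroup G) ≃* ↥(P : Subgroup (Matrix.ProjectiveSpecialLinearGroup (Fin 3) K))) :
    ∃ f : G ⧸ Cfsg.oddCore G →* GL (Fin 3) K ⧸ Subgroup.center (GL (Fin 3) K), Function.Injective f := by
  haveI : Fact (Nat.Prime 2) := ⟨Nat.prime_two⟩
  obtain ⟨P', ⟨e'⟩⟩ := CfsgLib.Invol.HeisFour.exists_sylow_psl hK (MulEquiv.refl H4)
  haveI : (Cfsg.oddCore G).Normal := by
    haveI := CfsgLib.Coprime.pPrimeCore_characteristic (G := G) 2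
    infer_instance
  obtain ⟨T', ⟨eT⟩⟩ := exists_sylow_quotient_equiv (Cfsg.oddCore G)
    (CfsgLib.Coprime.pPrimeCore_coprime Nat.prime_two) S
  exact Frame.embedding ⟨T', e'.trans ((Sylow.equiv P' P).trans (e.symm.trans eT))⟩
    (CfsgLib.Coprime.pPrimeCore_quotient_eq_bot Nat.prime_two) hK

end CfsgLib.Invol.L34Type
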