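import Cfsg.Agent.Lib.Invol.HeisFourModel
import Cfsg.Agent.Lib.Invol.Basic
import Cfsg.Prelude.Def_Transfer

/-!
# Frames for a Sylow two-subgroup of type `L₃(4)`

Coordinates `(a, b, c)` from the Heisenberg group over the field of four elements; `A` is `b = 0`,
`B` is `a = 0` and `Z = A ∩ B`.
-/

set_option autoImplicit false
set_option linter.unusedSectionVars false

namespace CfsgLib.Invol.L34Type

open Subgroup
open CfsgLib.Invol.HeisFour (V fm H4 mul_def one_def inv_def)

/-- The exchange of the two elementary subgroups. -/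
def swapFun (p : H4) : H4 := ⟨p.b, p.a, p.c + fm p.a p.b⟩

theorem swapFun_swapFun : ∀ p, swapFun (swapFun p) = p := by decide +kernel

theorem swap_c_mul : ∀ a b a' b' : V,
    fm a b' + fm (a + a') (b + b') = fm a b + fm a' b' + fm b a' := by decide +kernel

theorem swapFun_mul (p q : H4) : swapFun (p * q) = swapFun p * swapFun q := by
  refine CfsgLib.Invol.HeisFour.H4.ext' rfl rfl ?_
  show p.c + q.c + fm p.a q.b + fm (p.a + q.a) (p.b + q.b) =
    (p.c + fm p.a p.b) + (q.c + fm q.a q.b) + fm p.b q.a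
  rw [add_assoc (p.c + q.c), swap_c_mul]
  abel

/-- The exchange, as an automorphism. -/
def swapEquiv : H4 ≃* H4 :=
  { toFun := swapFun
    invFun := swapFun
    left_inv := swapFun_swapFun
    right_inv := swapFun_swapFun
    map_mul' := swapFun_mul }

/-- `b = 0`. -/
def subA : Subgroup H4 where
  carrier := {p | p.b = 0}
  mul_mem' {p q} hp hq := by
    show p.b + q.b = 0
    rw [show p.b = 0 from hp, show q.b = 0 from hq, add_zero]
  one_mem' := rfl
  inv_mem' {p} hp := hp

/-- `a = 0`. -/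
def subB : Subgroup H4 where
  carrier := {p | p.a = 0}
  mul_mem' {p q} hp hq := by
    show p.a + q.a = 0
    rw [show p.a = 0 from hp, show q.a = 0 from hq, add_zero]
  one_mem' := rfl
  inv_mem' {p} hp := hp

/-- `a = b = 0`. -/
def subZ : Subgroup H4 := subA ⊓ subB

theorem mem_subA {p : H4} : p ∈ subA ↔ p.b = 0 := Iff.rfl

theorem mem_subB {p : H4} : p ∈ subB ↔ p.a = 0 := Iff.rfl

theorem mem_subZ {p : H4} : p ∈ subZ ↔ p.b = 0 ∧ p.a = 0 := Iff.rfl

variable (G : Type*) [Group G]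

/-- A Sylow two-subgroup with coordinates. -/
structure Frame where
  /-- the Sylow subgroup -/
  T : Sylow 2 G
  /-- the coordinates -/
  e : H4 ≃* (T : Subgroup G)

variable {G} (F : Frame G)

/-- The coordinates as a homomorphism to the group. -/
def Frame.hom : H4 →* G := (F.T : Subgroup G).subtype.comp F.e.toMonoidHom

/-- The first elementary subgroup. -/
def Frame.A : Subgroup G := subA.map F.hom

/-- The second elementary subgroup. -/
def Frame.B : Subgroup G := subB.map F.hom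

/-- The centre of the Sylow subgroup. -/
def Frame.Z : Subgroup G := subZ.map F.hom

/-- The frame with the two sides exchanged. -/
def Frame.swap : Frame G := ⟨F.T, swapEquiv.trans F.e⟩

theorem Frame.swap_T : F.swap.T = F.T := rfl

theorem Frame.swap_hom (p : H4) : F.swap.hom p = F.hom (swapFun p) := rfl

theorem Frame.hom_injective : Function.Injective F.hom :=
  Subtype.val_injective.comp F.e.injective

theorem Frame.range_hom : F.hom.range = (F.T : Subgroup G) := by
  ext x
  refine ⟨?_, fun hx => ⟨F.e.symm ⟨x, hx⟩, congrArg Subtype.val (F.e.apply_symm_apply ⟨x, hx⟩)⟩⟩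
  rintro ⟨p, rfl⟩
  exact (F.e p).2

theorem Frame.hom_mem (p : H4) : F.hom p ∈ (F.T : Subgroup G) := (F.e p).2

theorem Frame.exists_of_mem {x : G} (hx : x ∈ (F.T : Subgroup G)) : ∃ p, F.hom p = x := by
  rwa [← F.range_hom] at hx

theorem Frame.hom_mem_A {p : H4} : F.hom p ∈ F.A ↔ p.b = 0 :=
  mem_map_iff_mem F.hom_injective

theorem Frame.hom_mem_B {p : H4} : F.hom p ∈ F.B ↔ p.a = 0 :=
  mem_map_iff_mem F.hom_injective

theorem Frame.hom_mem_Z {p : H4} : F.hom p ∈ F.Z ↔ p.b = 0 ∧ p.a = 0 :=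
  mem_map_iff_mem F.hom_injective

theorem Frame.swap_A : F.swap.A = F.B := by
  ext x
  constructor
  · rintro ⟨p, hp, rfl⟩
    exact ⟨swapFun p, hp, rfl⟩
  · rintro ⟨p, hp, rfl⟩
    exact ⟨swapFun p, hp, by rw [F.swap_hom, swapFun_swapFun]⟩

theorem Frame.swap_B : F.swap.B = F.A := by
  ext x
  constructor
  · rintro ⟨p, hp, rfl⟩
    exact ⟨swapFun p, hp, rfl⟩
  · rintro ⟨p, hp, rfl⟩
    exact ⟨swapFun p, hp, by rw [F.swap_hom, swapFun_swapFun]⟩

theorem Frame.swap_Z : F.swap.Z = F.Z := by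
  ext x
  constructor
  · rintro ⟨p, hp, rfl⟩
    exact ⟨swapFun p, ⟨hp.2, hp.1⟩, rfl⟩
  · rintro ⟨p, hp, rfl⟩
    exact ⟨swapFun p, ⟨hp.2, hp.1⟩, by rw [F.swap_hom, swapFun_swapFun]⟩

theorem Frame.A_le : F.A ≤ (F.T : Subgroup G) := by rintro _ ⟨p, -, rfl⟩; exact F.hom_mem p

theorem Frame.B_le : F.B ≤ (F.T : Subgroup G) := F.swap_A ▸ F.swap.A_le

theorem Frame.Z_eq : F.Z = F.A ⊓ F.B := Subgroup.map_inf _ _ _ F.hom_injective

theorem Frame.card_T : Nat.card (F.T : Subgroup G) = 64 :=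
  (Nat.card_congr F.e.toEquiv).symm.trans CfsgLib.Invol.HeisFour.card_H4

theorem Frame.card_A : Nat.card F.A = 16 := by
  rw [Frame.A, card_map_of_injective F.hom_injective]
  have e : subA ≃ V × V :=
    { toFun := fun p => (p.1.a, p.1.c)
      invFun := fun t => ⟨⟨t.1, 0, t.2⟩, rfl⟩
      left_inv := fun p => Subtype.ext (CfsgLib.Invol.HeisFour.H4.ext' rfl p.2.symm rfl)
      right_inv := fun t => rfl }
  rw [Nat.card_congr e]; simp

theorem Frame.card_Z : Nat.card F.Z = 4 := by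
  rw [Frame.Z, card_map_of_injective F.hom_injective]
  have e : subZ ≃ V :=
    { toFun := fun p => p.1.c
      invFun := fun t => ⟨⟨0, 0, t⟩, rfl, rfl⟩
      left_inv := fun p => Subtype.ext (CfsgLib.Invol.HeisFour.H4.ext' p.2.2.symm p.2.1.symm rfl)
      right_inv := fun t => rfl }
  rw [Nat.card_congr e]; simp

theorem mul_self_subA : ∀ p : H4, p.b = 0 → p * p = 1 := by decide +kernel

theorem comm_subA : ∀ p : H4, p.b = 0 → ∀ q : H4, q.b = 0 → p * q = q * p := by decide +kernel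

theorem Frame.elemA : Cfsg.IsElementaryAbelian 2 F.A := by
  refine ⟨⟨⟨fun x y => Subtype.ext ?_⟩⟩, fun x hx => ?_⟩
  · obtain ⟨p, hp, hpx⟩ := x.2
    obtain ⟨q, hq, hqy⟩ := y.2
    show (x : G) * y = y * x
    rw [← hpx, ← hqy, ← map_mul, ← map_mul, comm_subA p hp q hq]
  · obtain ⟨p, hp, rfl⟩ := hx
    rw [pow_two, ← map_mul, mul_self_subA p hp, map_one]

/-- The hypotheses giving the projective plane of order four. -/
structure PlaneHyp (F : Frame G) : Prop where
  cent : ∀ z ∈ F.Z, z ≠ 1 → centralizer ({z} : Set G) ≤ normalizer ((F.T : Subgroup G) : Set G)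
  selfc : centralizer ((F.T : Subgroup G) : Set G) ≤ (F.T : Subgroup G)
  moveA : ∀ a ∈ F.A, ∃ n ∈ normalizer (F.A : Set G), n * a * n⁻¹ ∈ F.Z
  moveB : ∀ b ∈ F.B, ∃ n ∈ normalizer (F.B : Set G), n * b * n⁻¹ ∈ F.Z

theorem PlaneHyp.swap {F : Frame G} (h : PlaneHyp F) : PlaneHyp F.swap where
  cent := by rw [F.swap_Z, F.swap_T]; exact h.cent
  selfc := h.selfc
  moveA := by rw [F.swap_A, F.swap_Z]; exact h.moveB
  moveB := by rw [F.swap_B, F.swap_Z]; exact h.moveA

end CfsgLib.Invol.L34Type
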