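import Cfsg.Agent.Lib.GW.Final
import Cfsg.Agent.Lib.GW.XCount
import Cfsg.Agent.Lib.GW.InvolPSL
import Cfsg.Agent.Lib.Classical.ProjLine
import Cfsg.Agent.Lib.Invol.LargePrimeMix.Count

/-!
# Groups with a four group as Sylow two-subgroup and one class of involutions

Modulo the odd core such a group has order twelve or lies over `PSL(2, q)`, `q ≡ ±3 (mod 8)`; the centraliser
of an involution in `PSL(2, q)` has order `4r` and there are more than `6r²` involutions.
-/

set_option autoImplicit false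
set_option linter.unusedSectionVars false
set_option linter.style.haveILetI false

namespace CfsgLib.Invol.L34Type

open Subgroup CfsgLib.GW

universe u

/-- the automorphisms of a field of five elements -/
theorem ringAut_five {F : Type*} [Field F] [Fintype F] (hF : Fintype.card F = 5) (σ : RingAut F) : σ = 1 := by
  haveI : Fact (Nat.Prime 5) := ⟨by norm_num⟩
  let e : ZMod 5 ≃+* F := ZMod.ringEquivOfPrime F Fact.out hF
  refine RingEquiv.ext fun x => ?_
  have h : σ.toRingHom.comp e.toRingHom = e.toRingHom := Subsingleton.elim _ _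
  obtain ⟨y, rfl⟩ := e.surjective x
  exact DFunLike.congr_fun h y

/-- **groups with a four group as Sylow two-subgroup and one class of involutions** -/
theorem klein_type {L : Type u} [Group L] [Finite L] (P : Sylow 2 L) (hP : IsKleinFour (P : Subgroup L))
    (hO : Cfsg.oddCore L = ⊥) (h1 : ∀ x y : L, orderOf x = 2 → orderOf y = 2 → IsConj x y) :
    ((P : Subgroup L).Normal ∧ Nat.card L = 12) ∨
      ∃ r : ℕ, Odd r ∧ Nat.Coprime r (Nat.card {x : L // orderOf x = 2}) ∧
        6 * r * r < Nat.card {x : L // orderOf x = 2} ∧ (r = 1 → Nat.card L = 60) ∧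
        ∃ M : Subgroup L, M.Normal ∧
          (∀ x : L, orderOf x = 2 → x ∈ M ∧ Nat.card (centralizer ({x} : Set L) ⊓ M : Subgroup L) = 4 * r) ∧
          Nat.card M = 4 * r * Nat.card {x : L // orderOf x = 2} ∧
          centralizer ((P : Subgroup L) : Set L) ⊓ M = (P : Subgroup L) := by
  classical
  haveI : Fact (Nat.Prime 2) := ⟨Nat.prime_two⟩
  haveI := hP
  have hP4 : Nat.card (P : Subgroup L) = 4 := hP.card_four
  have h8 : ¬ 8 ∣ Nat.card L := fun h => by
    obtain ⟨H, hH⟩ := Sylow.exists_subgroup_card_pow_prime 2 (n := 3) h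
    obtain ⟨Q, hQ⟩ := (IsPGroup.of_card hH).exists_le_sylow
    have h2 := Subgroup.card_dvd_of_le hQ
    rw [hH, Nat.card_congr (Sylow.equiv Q P).toEquiv, hP4] at h2
    norm_num at h2
  obtain ⟨eD⟩ : Nonempty ((P : Subgroup L) ≃* DihedralGroup 2) := IsKleinFour.nonempty_mulEquiv
  have hX : DihTwo L := dihTwo_of_sylow P le_rfl eD
  rcases structure_core hX hO (gwBelow _) with h | ⟨V, hVn, hV, -, hcard⟩ | ⟨M, hMn, -, -, hMd, hC, hM⟩
  · exfalso
    have htop : (P : Subgroup L) = ⊤ := (P.is_maximal' (h.to_subgroup ⊤) le_top).symm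
    obtain ⟨a, b, ha, hb, hne⟩ : ∃ a b : (P : Subgroup L), a ≠ 1 ∧ b ≠ 1 ∧ a ≠ b := by
      haveI := Fintype.ofFinite (P : Subgroup L)
      obtain ⟨a, b, c, hab, hac, hbc⟩ := Fintype.two_lt_card_iff.1
        (show 2 < Fintype.card (P : Subgroup L) by rw [← Nat.card_eq_fintype_card, hP4]; norm_num)
      by_cases h0 : a = 1
      · exact ⟨b, c, fun e => hab (h0.trans e.symm), fun e => hac (h0.trans e.symm), hbc⟩
      · by_cases h0' : b = 1
        · exact ⟨a, c, h0, fun e => hbc (h0'.trans e.symm), hac⟩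
        · exact ⟨a, b, h0, h0', hab⟩
    have ho : ∀ v : (P : Subgroup L), v ≠ 1 → orderOf (v : L) = 2 := fun v hv => by
      rw [Subgroup.orderOf_coe]
      exact orderOf_eq_prime (by rw [sq]; exact IsKleinFour.mul_self v) hv
    obtain ⟨g, hg⟩ := isConj_iff.1 (h1 a b (ho a ha) (ho b hb))
    have hgP : g ∈ (P : Subgroup L) := htop ▸ mem_top g
    have hcomm : (⟨g, hgP⟩ : (P : Subgroup L)) * a = a * ⟨g, hgP⟩ :=
      (IsKleinFour.isMulCommutative (G := (P : Subgroup L))).is_comm.comm _ _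
    apply hne
    refine Subtype.ext ?_
    have hc := congrArg Subtype.val hcomm
    simp only [Subgroup.coe_mul] at hc
    rw [← hg, hc, mul_inv_cancel_right]
  · left
    rcases hcard with h12 | h24
    · refine ⟨?_, h12⟩
      haveI := hVn
      obtain ⟨Q, hQ⟩ := (IsPGroup.of_card (n := 2) (by rw [hV.card_four]; norm_num) :
        IsPGroup 2 V).exists_le_sylow
      obtain ⟨g, hg⟩ := MulAction.exists_smul_eq L Q P
      have hVP : V ≤ (P : Subgroup L) := fun v hv => by
        rw [← hg, Sylow.coe_subgroup_smul]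
        exact ⟨g⁻¹ * v * g, hQ (by simpa using hVn.conj_mem v hv g⁻¹), by simp [MulAut.conj_apply, mul_assoc]⟩
      rw [← Subgroup.eq_of_le_of_card_ge hVP (by rw [hP4, hV.card_four])]
      exact hVn
    · exact absurd ⟨3, by rw [h24]⟩ h8
  right
  haveI := hMn
  rcases hM with ⟨F, iF, iT, hodd, h3, ⟨e⟩⟩ | ⟨⟨e⟩⟩
  swap
  · exfalso
    apply h8
    refine Dvd.dvd.trans ?_ (Subgroup.card_subgroup_dvd_card M)
    rw [Nat.card_congr e.toEquiv, nat_card_alternatingGroup, Nat.card_fin]
    decide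
  have h2 : (2 : F) ≠ 0 := CfsgLib.Perm.Dickson.two_ne_zero_of_odd (F := F) (by rwa [Nat.card_eq_fintype_card])
  obtain ⟨q, hq⟩ : ∃ q, q = Fintype.card F := ⟨_, rfl⟩
  rw [← hq] at h3 hodd
  have hq1 : q % 2 = 1 := Nat.odd_iff.1 hodd
  have hMc : 2 * Nat.card M = q * ((q - 1) * (q + 1)) := by
    rw [Nat.card_congr e.toEquiv, hq, ← CfsgLib.Classical.card_psl2]
    congr 1
    rw [← hq]
    exact (Nat.gcd_eq_left (by omega)).symm
  have h8M : ¬ 8 ∣ Nat.card M := fun h => h8 (h.trans (Subgroup.card_subgroup_dvd_card M))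
  obtain ⟨r, hr, hr1, hI⟩ : ∃ r, invCard q = 4 * r ∧ Odd r ∧
      ∃ I, Nat.card M = 4 * r * I ∧ Nat.Coprime r I ∧ 6 * r * r < I ∧ (r = 1 → q = 5) := by
    have hodd4 : ∀ r, 4 * r + 1 = q ∨ 4 * r = q + 1 → Odd r := by
      intro r hr
      by_contra he
      rw [Nat.not_odd_iff_even] at he
      obtain ⟨s, rfl⟩ := he
      refine h8M ?_
      rcases hr with hr | hr
      · obtain ⟨t, ht⟩ : ∃ t, q * (q + 1) = 2 * t := ⟨q * ((q + 1) / 2), by
          rw [show q * ((q + 1)) = q * (2 * ((q + 1) / 2)) by congr 1; omega]; ring⟩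
        refine ⟨s * t, Nat.eq_of_mul_eq_mul_left (by norm_num : 0 < 2) ?_⟩
        rw [hMc, show q - 1 = 8 * s by omega]
        calc q * (8 * s * (q + 1)) = 8 * s * (q * (q + 1)) := by ring
          _ = _ := by rw [ht]; ring
      · obtain ⟨t, ht⟩ : ∃ t, q * (q - 1) = 2 * t := ⟨q * ((q - 1) / 2), by
          rw [show q * ((q - 1)) = q * (2 * ((q - 1) / 2)) by congr 1; omega]; ring⟩
        refine ⟨s * t, Nat.eq_of_mul_eq_mul_left (by norm_num : 0 < 2) ?_⟩
        rw [hMc, show q + 1 = 8 * s by omega]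
        calc q * ((q - 1) * (8 * s)) = 8 * s * (q * (q - 1)) := by ring
          _ = _ := by rw [ht]; ring
    by_cases h4 : q % 4 = 1
    · obtain ⟨r, rfl⟩ : ∃ r, q = 4 * r + 1 := ⟨q / 4, by omega⟩
      refine ⟨r, by rw [invCard, if_pos h4]; omega, hodd4 r (Or.inl rfl), (4 * r + 1) * (2 * r + 1), ?_, ?_, ?_,
        fun h => by omega⟩
      · refine Nat.eq_of_mul_eq_mul_left (by norm_num : 0 < 2) ?_
        rw [hMc, show 4 * r + 1 - 1 = 4 * r by omega]
        ring
      · rw [show (4 * r + 1) * (2 * r + 1) = 1 + r * (8 * r + 6) by ring]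
        simp [Nat.coprime_add_mul_left_right]
      · nlinarith
    · obtain ⟨r, hr, hqr⟩ : ∃ r, 3 ≤ q ∧ q + 1 = 4 * r := ⟨(q + 1) / 4, by omega, by omega⟩
      have hr2 : 2 ≤ r := by omega
      obtain ⟨d, hd⟩ : ∃ d, r = d + 2 := ⟨r - 2, by omega⟩
      obtain ⟨s, hs⟩ : ∃ s, 2 * s + 1 = q := ⟨q / 2, by omega⟩
      refine ⟨r, by rw [invCard, if_neg h4]; omega, hodd4 r (Or.inr hqr.symm), q * s, ?_, ?_, ?_,
        fun h => by omega⟩
      · refine Nat.eq_of_mul_eq_mul_left (by norm_num : 0 < 2) ?_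
        rw [hMc, hqr, show q - 1 = 2 * s by omega]
        ring
      · have e1 : q * s = 1 + r * (8 * d + 10) := by
          have : s = 2 * d + 3 := by omega
          rw [show q = 4 * d + 7 by omega, this, hd]; ring
        rw [e1]
        simp [Nat.coprime_add_mul_left_right]
      · have : s = 2 * d + 3 := by omega
        have hdo : Odd r := hodd4 r (Or.inr hqr.symm)
        have hd1 : 1 ≤ d := by
          rcases Nat.eq_zero_or_pos d with rfl | h
          · rw [hd] at hdo; exact absurd hdo (by decide)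
          · exact h
        rw [show q = 4 * d + 7 by omega, this, hd]
        nlinarith
  obtain ⟨I, hMI, hco, hlt, hq5⟩ := hI
  have h4M : 4 ∣ Nat.card M := ⟨r * I, by rw [hMI]; ring⟩
  have hidx : ¬ 2 ∣ M.index := fun h => h8 (by
    rw [← M.card_mul_index]
    exact Nat.mul_dvd_mul h4M h)
  have hmem : ∀ x : L, ∀ k : ℕ, x ^ 2 ^ k ∈ M → x ∈ M := by
    intro x k hk
    rw [← QuotientGroup.eq_one_iff] at hk ⊢
    rw [QuotientGroup.mk_pow] at hk
    have h := Nat.dvd_gcd (orderOf_dvd_of_pow_eq_one hk)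
      (orderOf_dvd_natCard (QuotientGroup.mk x : L ⧸ M))
    rw [← Subgroup.index_eq_card, Nat.Coprime.gcd_eq_one (Nat.Coprime.pow_left k
      (Nat.prime_two.coprime_iff_not_dvd.2 hidx)), Nat.dvd_one] at h
    exact orderOf_eq_one_iff.1 h
  have hinv : ∀ x : L, orderOf x = 2 → x ∈ M := fun x hx =>
    hmem x 1 (by rw [pow_one, ← hx, pow_orderOf_eq_one]; exact one_mem M)
  have hCM : ∀ x : L, orderOf x = 2 → Nat.card (centralizer ({x} : Set L) ⊓ M : Subgroup L) = 4 * r := by
    intro x hx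
    have hxM := hinv x hx
    rw [← hr, hq, ← card_cent_psl (hq ▸ hodd) (e ⟨x, hxM⟩) (by rw [MulEquiv.orderOf_eq, Subgroup.orderOf_mk, hx])]
    refine Nat.card_congr ⟨fun y => ⟨e ⟨y.1, (Subgroup.mem_inf.1 y.2).2⟩, ?_⟩,
      fun z => ⟨(e.symm z.1 : M), Subgroup.mem_inf.2 ⟨?_, (e.symm z.1).2⟩⟩, fun y => ?_, fun z => ?_⟩
    · have h := mem_centralizer_singleton_iff.1 (Subgroup.mem_inf.1 y.2).1
      rw [mem_centralizer_singleton_iff, ← map_mul, ← map_mul]
      exact congrArg e (Subtype.ext h)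
    · have h := congrArg (fun v => ((e.symm v : M) : L)) (mem_centralizer_singleton_iff.1 z.2)
      simp only [map_mul, MulEquiv.symm_apply_apply, Subgroup.coe_mul] at h
      exact mem_centralizer_singleton_iff.2 h
    · simp
    · simp
  obtain ⟨t, ht⟩ : ∃ t : L, orderOf t = 2 := exists_prime_orderOf_dvd_card' 2
    ((show 2 ∣ 4 by norm_num).trans (h4M.trans (Subgroup.card_subgroup_dvd_card M)))
  have hI : Nat.card {x : L // orderOf x = 2} = I := by
    have h := CfsgLib.LargePrimeMix.card_conjugates (t := t) rfl {x : L | orderOf x = 2} fun x => by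
      refine ⟨fun hx => isConj_iff.1 (h1 t x ht hx), ?_⟩
      rintro ⟨g, rfl⟩
      show orderOf (MulAut.conj g t) = 2
      rw [MulEquiv.orderOf_eq, ht]
    rw [card_cent_invol M e (hq ▸ hodd) ht (hinv t ht), ← hq, hr, ← mul_assoc, ← M.card_mul_index, hMI] at h
    have h' := Nat.eq_of_mul_eq_mul_right (Nat.pos_of_ne_zero Subgroup.FiniteIndex.index_ne_zero) h
    rw [mul_comm _ I] at h'
    exact Nat.eq_of_mul_eq_mul_right (by obtain ⟨j, rfl⟩ := hr1; omega) h'
  refine ⟨r, hr1, hI ▸ hco, hI ▸ hlt, fun hr' => ?_, M, hMn, fun x hx => ⟨hinv x hx, hCM x hx⟩,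
    hI.symm ▸ hMI, ?_⟩
  · have h5 : q = 5 := hq5 hr'
    have hdiag : ∀ x : L, x ∈ diagPart M e := fun x =>
      MonoidHom.mem_ker.2 (ringAut_five (hq ▸ h5) _)
    have htop : M = ⊤ := eq_top_iff.2 fun x _ => by
      obtain ⟨k, m, hm, hkm⟩ := Nat.exists_eq_two_pow_mul_odd (orderOf_pos x).ne'
      refine hmem x k (mem_of_odd M e hC h2 (hdiag _) ?_)
      rwa [orderOf_pow_of_dvd (by positivity) ⟨m, hkm⟩, hkm, Nat.mul_div_cancel_left _ (by positivity)]
    have hc : Nat.card L = Nat.card M := by rw [htop, Subgroup.card_top]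
    rw [hc]
    rw [h5] at hMc
    omega
  · refine le_antisymm (fun x hx => ?_) (fun x hx => ?_)
    · obtain ⟨hxc, hxM⟩ := Subgroup.mem_inf.1 hx
      obtain ⟨a, ha⟩ : ∃ a : (P : Subgroup L), a ≠ 1 := by
        by_contra h
        push Not at h
        haveI : Subsingleton (P : Subgroup L) := ⟨fun a b => (h a).trans (h b).symm⟩
        rw [Nat.card_unique] at hP4
        omega
      obtain ⟨b, hb, hab⟩ : ∃ b : (P : Subgroup L), b ≠ 1 ∧ b ≠ a := by
        by_contra h
        push Not at h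
        have : Nat.card (P : Subgroup L) ≤ Nat.card ({1, a} : Set (P : Subgroup L)) := by
          rw [show ({1, a} : Set (P : Subgroup L)) = Set.univ from Set.eq_univ_of_forall fun c => by
            by_cases hc : c = 1
            · exact Or.inl hc
            · exact Or.inr (h c hc)]
          rw [Nat.card_univ]
        rw [hP4, Nat.card_coe_set_eq, Set.ncard_pair (Ne.symm ha)] at this
        omega
      have ho : ∀ v : (P : Subgroup L), v ≠ 1 → orderOf (v : L) = 2 := fun v hv => by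
        rw [Subgroup.orderOf_coe]
        exact orderOf_eq_prime (by rw [sq]; exact IsKleinFour.mul_self v) hv
      have hcomm : ∀ u v : (P : Subgroup L), Commute (u : L) v := fun u v =>
        congrArg Subtype.val ((IsKleinFour.isMulCommutative (G := (P : Subgroup L))).is_comm.comm u v)
      have hxv : ∀ v : (P : Subgroup L), Commute x (v : L) := fun v =>
        (Subgroup.mem_centralizer_iff.1 hxc v v.2).symm
      rcases diag_cent_four M e hX hC h2 (ho a ha) (ho b hb) (fun h => hab (Subtype.ext h.symm)) (hcomm a b)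
        (le_diagPart M e hxM) (hxv a) (hxv b) with h | h | h | h <;> rw [h]
      · exact one_mem _
      · exact a.2
      · exact b.2
      · exact mul_mem a.2 b.2
    · refine Subgroup.mem_inf.2 ⟨Subgroup.mem_centralizer_iff.2 fun y hy => ?_, ?_⟩
      · exact congrArg Subtype.val
          ((IsKleinFour.isMulCommutative (G := (P : Subgroup L))).is_comm.comm ⟨y, hy⟩ ⟨x, hx⟩)
      · refine hmem x 1 ?_
        rw [pow_one, sq, show x * x = 1 from congrArg Subtype.val (IsKleinFour.mul_self (⟨x, hx⟩ : (P : Subgroup L)))]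
        exact one_mem M

end CfsgLib.Invol.L34Type
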