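import Cfsg.Agent.Lib.Invol.Counting
import Cfsg.Agent.Lib.Invol.TwoClasses
import Cfsg.Agent.Lib.Invol.EightTypeThree.Local
import Cfsg.Agent.Lib.GW.CoprimeFour
import Mathlib.GroupTheory.SpecificGroups.KleinFour

/-!
# Pairs of involutions in a group with a four-group Sylow subgroup
-/

set_option autoImplicit false
set_option linter.unusedSectionVars false
set_option linter.style.haveILetI false

namespace CfsgLib.Invol.L34Type

open Subgroup
open CfsgLib.Invol

universe u

variable (L : Type u) [Group L]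

/-- The involutions. -/
abbrev Inv := {x : L // orderOf x = 2}

/-- The pairs of involutions with product of odd order. -/
abbrev OddPairs := {p : Inv L × Inv L // Odd (orderOf ((p.1 : L) * p.2))}

variable {L}

/-- What is used from the classification with four-group Sylow subgroups. -/
def KleinType (L : Type u) [Group L] [Finite L] (P : Sylow 2 L) : Prop :=
  ((P : Subgroup L).Normal ∧ Nat.card L = 12) ∨
    ∃ r : ℕ, Odd r ∧ Nat.Coprime r (Nat.card (Inv L)) ∧ 6 * r * r < Nat.card (Inv L) ∧
      (r = 1 → Nat.card L = 60) ∧ ∃ M : Subgroup L, M.Normal ∧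
        (∀ x : L, orderOf x = 2 → x ∈ M ∧ Nat.card (centralizer ({x} : Set L) ⊓ M : Subgroup L) = 4 * r) ∧
        Nat.card M = 4 * r * Nat.card (Inv L) ∧
        centralizer ((P : Subgroup L) : Set L) ⊓ M = (P : Subgroup L)

variable [Finite L]

theorem sq_of_klein {P : Subgroup L} (hP : IsKleinFour P) {x : L} (hx : x ∈ P) : x * x = 1 := by
  have h := Monoid.pow_exponent_eq_one (⟨x, hx⟩ : P)
  rw [hP.exponent_two, pow_two] at h
  exact congrArg Subtype.val h

/-- at most `2r` involutions other than `w` commute with `w` in a group of order `4r` around `w` -/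
theorem card_partners_le (P : Sylow 2 L) (hP : IsKleinFour (P : Subgroup L)) {M : Subgroup L} {r : ℕ}
    (hr : Odd r) {w : L} (hw : orderOf w = 2)
    (hM : ∀ x : L, orderOf x = 2 → x ∈ M) (hcard : Nat.card (centralizer ({w} : Set L) ⊓ M : Subgroup L) = 4 * r) :
    Nat.card {x : Inv L // Commute (x : L) w ∧ (x : L) ≠ w} ≤ 2 * r := by
  classical
  haveI : Fact (Nat.Prime 2) := ⟨Nat.prime_two⟩
  set H := centralizer ({w} : Set L) ⊓ M with hH
  have hwH : w ∈ H := ⟨mem_centralizer_singleton_iff.2 rfl, hM w hw⟩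
  obtain ⟨Q⟩ : Nonempty (Sylow 2 H) := inferInstance
  have hQ4 : Nat.card (Q : Subgroup H) = 4 := by
    rw [Q.card_eq_multiplicity, hcard, Nat.factorization_mul (by norm_num) hr.pos.ne']
    have h1 : r.factorization 2 = 0 :=
      Nat.factorization_eq_zero_of_not_dvd fun h => Nat.not_even_iff_odd.2 hr (even_iff_two_dvd.2 h)
    have h2 : (4 : ℕ).factorization 2 = 2 := by
      rw [show (4 : ℕ) = 2 ^ 2 from rfl, Nat.factorization_pow, Nat.prime_two.factorization]
      simp
    rw [Finsupp.add_apply, h1, h2]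
    rfl
  set w' : H := ⟨w, hwH⟩ with hw'
  have hw'c : ∀ g : H, Commute g w' := fun g => Subtype.ext (mem_centralizer_singleton_iff.1 g.2.1)
  have hw'Q : w' ∈ (Q : Subgroup H) := by
    have h1 : IsPGroup 2 ((Q : Subgroup H) ⊔ zpowers w' : Subgroup H) :=
      Q.2.to_sup_of_normal_left' (IsPGroup.of_card (n := 1) (by
        rw [Nat.card_zpowers, hw', Subgroup.orderOf_mk, hw, pow_one]))
        ((zpowers_le.2 (mem_centralizer_iff.2 fun q _ => (hw'c q).eq)).trans
          (CfsgLib.Coprime.centralizer_le_normalizer_self _))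
    exact (Q.3 h1 le_sup_left).le (mem_sup_right (mem_zpowers _))
  have hsq : ∀ q ∈ (Q : Subgroup H), q * q = 1 := by
    intro q hq
    obtain ⟨c, hc⟩ := exists_conj_le_sylow (Q.2.map H.subtype) P
    have h1 := sq_of_klein hP (hc _ ⟨q, hq, rfl⟩)
    refine Subtype.ext ?_
    have h2 : c * ((q : H) : L) * c⁻¹ * (c * (q : H) * c⁻¹) = c * ((q : L) * q) * c⁻¹ := by group
    rw [show H.subtype q = ((q : H) : L) from rfl, h2] at h1
    exact conj_eq_one_iff.1 h1
  -- four elements
  have hQset : ∃ u ∈ (Q : Subgroup H), u ≠ 1 ∧ u ≠ w' ∧ ∀ q ∈ (Q : Subgroup H), q = 1 ∨ q = w' ∨ q = u ∨ q = u * w' := by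
    obtain ⟨u, hu, hu1, huw⟩ : ∃ u ∈ (Q : Subgroup H), u ≠ 1 ∧ u ≠ w' := by
      by_contra h
      push Not at h
      have hsub : (Q : Subgroup H) ≤ zpowers w' := fun x hx => by
        by_cases hx1 : x = 1
        · rw [hx1]; exact one_mem _
        · rw [h x hx hx1]; exact mem_zpowers _
      have := Nat.le_of_dvd Nat.card_pos (card_dvd_of_le hsub)
      rw [hQ4, Nat.card_zpowers, hw', Subgroup.orderOf_mk, hw] at this
      omega
    refine ⟨u, hu, hu1, huw, fun q hq => ?_⟩
    by_contra hcon
    simp only [not_or] at hcon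
    obtain ⟨h1, h2, h3, h4⟩ := hcon
    have hw1 : w' ≠ 1 := fun e => invol_ne_one hw (congrArg Subtype.val e)
    have huw1 : u * w' ≠ 1 := fun e => huw (by
      rw [eq_inv_of_mul_eq_one_left e, inv_eq_of_mul_eq_one_right (hsq w' hw'Q)])
    haveI := Fintype.ofFinite (Q : Subgroup H)
    have hsub := Finset.card_le_univ ({1, ⟨w', hw'Q⟩, ⟨u, hu⟩, ⟨u * w', mul_mem hu hw'Q⟩, ⟨q, hq⟩} :
      Finset (Q : Subgroup H))
    rw [← Nat.card_eq_fintype_card, hQ4] at hsub
    rw [Finset.card_insert_of_notMem, Finset.card_insert_of_notMem, Finset.card_insert_of_notMem,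
      Finset.card_insert_of_notMem, Finset.card_singleton] at hsub
    · omega
    all_goals simp only [Finset.mem_insert, Finset.mem_singleton, not_or]
    · exact fun e => Ne.symm h4 (congrArg Subtype.val e)
    · exact ⟨fun e => hw1 (mul_eq_left.1 (congrArg Subtype.val e).symm), fun e => Ne.symm h3 (congrArg Subtype.val e)⟩
    · exact ⟨fun e => Ne.symm huw (congrArg Subtype.val e), fun e => hu1 (mul_eq_right.1 (congrArg Subtype.val e).symm),
        fun e => Ne.symm h2 (congrArg Subtype.val e)⟩
    · exact ⟨fun e => hw1.symm (congrArg Subtype.val e), fun e => hu1.symm (congrArg Subtype.val e),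
        fun e => huw1.symm (congrArg Subtype.val e), fun e => Ne.symm h1 (congrArg Subtype.val e)⟩
  obtain ⟨u, hu, hu1, huw, hQall⟩ := hQset
  have hcomm : ∀ a ∈ (Q : Subgroup H), ∀ b ∈ (Q : Subgroup H), a * b = b * a := fun a ha b hb => by
    have hi : ∀ c ∈ (Q : Subgroup H), c⁻¹ = c := fun c hc => inv_eq_of_mul_eq_one_right (hsq c hc)
    rw [← hi _ (mul_mem ha hb), mul_inv_rev, hi _ ha, hi _ hb]
  have hnc : normalizer ((Q : Subgroup H) : Set H) ≤ centralizer ((Q : Subgroup H) : Set H) := by
    intro n hn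
    refine CfsgLib.Invol.EightTypeThree.centralizes_of_odd_part Q hcomm hn fun k hk => ?_
    have hnk : n ^ k ∈ normalizer ((Q : Subgroup H) : Set H) := pow_mem hn k
    set x := n ^ k with hx
    have hxw : x * w' * x⁻¹ = w' := by rw [(hw'c x).eq, mul_inv_cancel_right]
    have hxu : Commute x u := by
      rcases hQall _ ((mem_normalizer_iff.1 hnk u).1 hu) with e | e | e | e
      · exact absurd (conj_eq_one_iff.1 e) hu1
      · exact absurd (mul_left_cancel (mul_right_cancel (e.trans hxw.symm))) huw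
      · exact mul_inv_eq_iff_eq_mul.1 e
      · obtain ⟨i, hi⟩ := hk
        have h2 : Commute (x * x) u := mul_inv_eq_iff_eq_mul.1 (by
          calc x * x * u * (x * x)⁻¹ = x * (x * u * x⁻¹) * x⁻¹ := by group
            _ = x * (u * w') * x⁻¹ := by rw [e]
            _ = x * u * x⁻¹ * (x * w' * x⁻¹) := by group
            _ = u := by rw [e, hxw, mul_assoc, hsq w' hw'Q, mul_one])
        have e' : x = (x * x) ^ (i + 1) := by
          rw [← pow_two, ← pow_mul, show 2 * (i + 1) = (2 * i + 1) + 1 by ring, pow_succ, ← hi,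
            pow_orderOf_eq_one, one_mul]
        rw [e']
        exact h2.pow_left _
    refine mem_centralizer_iff.2 fun q hq => ?_
    rcases hQall q hq with rfl | rfl | rfl | rfl
    · rw [one_mul, mul_one]
    · exact (hw'c x).symm.eq
    · exact hxu.symm.eq
    · exact (hxu.mul_right (hw'c x)).symm.eq
  have hdec := CfsgLib.Invol.EightTypeThree.decomp_of_selfcentral Q hnc
  set O := Cfsg.pPrimeCore 2 H with hO
  have hdis : ∀ c ∈ (Q : Subgroup H), c ∈ O → c = 1 := fun c hc hcO => by
    refine eq_one_of_odd_of_pow_two (k := 1) ?_ (by rw [pow_one, pow_two]; exact hsq c hc)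
    rw [← Subgroup.orderOf_mk c hcO]
    exact (Nat.coprime_two_right.1 (CfsgLib.Coprime.pPrimeCore_coprime Nat.prime_two)).of_dvd_nat
      (orderOf_dvd_natCard _)
  have hOr : Nat.card O ≤ r := by
    have h1 : Nat.card (Q : Subgroup H) * Nat.card O ≤ Nat.card H := by
      rw [← Nat.card_prod]
      refine Nat.card_le_card_of_injective (fun p => (p.1 : H) * p.2) ?_
      rintro ⟨a, b⟩ ⟨a', b'⟩ e
      have e' : (a : H) * b = a' * b' := e
      have h2 : (a' : H)⁻¹ * a = b' * (b : H)⁻¹ := by
        rw [inv_mul_eq_iff_eq_mul, ← mul_assoc, ← e', mul_inv_cancel_right]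
      have h3 := hdis _ (mul_mem (inv_mem a'.2) a.2) (h2 ▸ mul_mem b'.2 (inv_mem b.2))
      have ha : (a : H) = a' := (inv_mul_eq_one.1 h3).symm
      exact Prod.ext (Subtype.ext ha) (Subtype.ext (mul_left_cancel (ha ▸ e')))
    rw [hQ4, hcard] at h1
    omega
  -- partners avoid the two cosets of `w`
  have hmem : ∀ x : {x : Inv L // Commute (x : L) w ∧ (x : L) ≠ w}, ((x : Inv L) : L) ∈ H := fun x =>
    ⟨mem_centralizer_singleton_iff.2 x.2.1.eq, hM _ x.1.2⟩
  choose cf hcfQ df hdf hcd using fun x : {x : Inv L // Commute (x : L) w ∧ (x : L) ≠ w} => hdec ⟨_, hmem x⟩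
  have hcases : ∀ x, cf x = u ∨ cf x = u * w' := by
    intro x
    rcases hQall _ (hcfQ x) with e | e | e | e
    · exfalso
      have h1 := hcd x
      rw [e, one_mul] at h1
      have h2 : Odd (orderOf (df x)) := by
        rw [← Subgroup.orderOf_mk (df x) (hdf x)]
        exact (Nat.coprime_two_right.1 (CfsgLib.Coprime.pPrimeCore_coprime Nat.prime_two)).of_dvd_nat
          (orderOf_dvd_natCard _)
      rw [← h1, Subgroup.orderOf_mk, x.1.2] at h2
      exact absurd h2 (by decide)
    · exfalso
      have h1 := hcd x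
      rw [e] at h1
      refine x.2.2 ?_
      have hd1 : df x = 1 := by
        refine eq_one_of_odd_of_pow_two (k := 1) ?_ ?_
        · rw [← Subgroup.orderOf_mk (df x) (hdf x)]
          exact (Nat.coprime_two_right.1 (CfsgLib.Coprime.pPrimeCore_coprime Nat.prime_two)).of_dvd_nat
            (orderOf_dvd_natCard _)
        · rw [pow_one, pow_two]
          have h2 : (⟨_, hmem x⟩ : H) * ⟨_, hmem x⟩ = 1 := Subtype.ext (invol_mul_self x.1.2)
          rw [h1, show w' * df x * (w' * df x) = w' * (df x * w') * df x by group, (hw'c _).eq,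
            ← mul_assoc, hsq w' hw'Q, one_mul] at h2
          exact h2
      rw [hd1, mul_one] at h1
      exact congrArg Subtype.val h1
    · exact Or.inl e
    · exact Or.inr e
  calc Nat.card {x : Inv L // Commute (x : L) w ∧ (x : L) ≠ w}
      ≤ Nat.card (Bool × O) := Nat.card_le_card_of_injective
          (fun x => (decide (cf x = u), (⟨df x, hdf x⟩ : O))) fun a b e => by
            obtain ⟨e1, e2⟩ := Prod.ext_iff.1 e
            have e2' : df a = df b := congrArg Subtype.val e2
            have e1' : cf a = cf b := by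
              rcases hcases a with ha | ha <;> rcases hcases b with hb | hb
              · rw [ha, hb]
              · simp only [ha, decide_true] at e1
                exact ha.trans (of_decide_eq_true e1.symm).symm
              · simp only [hb, decide_true] at e1
                exact (of_decide_eq_true e1).trans hb.symm
              · rw [ha, hb]
            refine Subtype.ext (Subtype.ext ?_)
            have h1 := hcd a
            rw [e1', e2', ← hcd b] at h1
            exact congrArg (fun y : H => (y : L)) h1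
    _ ≤ 2 * r := by rw [Nat.card_prod, Nat.card_eq_fintype_card (α := Bool), Fintype.card_bool]; omega

/-- **few pairs of involutions have product of even order** -/
theorem three_oddPairs (P : Sylow 2 L) (hP : IsKleinFour (P : Subgroup L)) (h : KleinType L P) :
    Nat.card (Inv L) * Nat.card (Inv L) ≤ 3 * Nat.card (OddPairs L) ∧
      (¬ (P : Subgroup L).Normal →
        Nat.card (Inv L) * Nat.card (Inv L) < 3 * Nat.card (OddPairs L)) := by
  classical
  haveI : Fact (Nat.Prime 2) := ⟨Nat.prime_two⟩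
  haveI := Fintype.ofFinite L
  have hdiag : Nat.card (Inv L) ≤ Nat.card (OddPairs L) :=
    Nat.card_le_card_of_injective (fun x => (⟨(x, x), by
      show Odd (orderOf ((x : L) * x))
      rw [invol_mul_self x.2, orderOf_one]; exact odd_one⟩ : OddPairs L))
      fun a b e => congrArg (fun p : OddPairs L => p.1.1) e
  rcases h with ⟨hn, -⟩ | ⟨r, hr, -, hI, -, M, -, hM, -, -⟩
  · have h3 : Nat.card (Inv L) ≤ 3 := by
      haveI := hn
      have hin : ∀ x : Inv L, (x : L) ∈ (P : Subgroup L) := fun x => by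
        obtain ⟨c, hc⟩ := exists_conj_le_sylow (Q := zpowers (x : L))
          (IsPGroup.of_card (n := 1) (by rw [Nat.card_zpowers, x.2, pow_one])) P
        simpa [mul_assoc] using hn.conj_mem _ (hc _ (mem_zpowers _)) c⁻¹
      haveI := Fintype.ofFinite (P : Subgroup L)
      have hcard : Nat.card {y : (P : Subgroup L) // y ≠ 1} = 3 := by
        have hc := hP.card_four
        rw [Nat.card_eq_fintype_card] at hc
        rw [Nat.card_eq_fintype_card, Fintype.card_subtype_compl, Fintype.card_subtype_eq, hc]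
      rw [← hcard]
      exact Nat.card_le_card_of_injective
        (fun x => (⟨⟨(x : L), hin x⟩, fun e => invol_ne_one x.2 (congrArg Subtype.val e)⟩ :
          {y : (P : Subgroup L) // y ≠ 1}))
        fun a b e => Subtype.ext (congrArg (fun y : {y : (P : Subgroup L) // y ≠ 1} => ((y : (P : Subgroup L)) : L)) e)
    exact ⟨(Nat.mul_le_mul_right _ h3).trans (Nat.mul_le_mul_left _ hdiag), fun h => absurd hn h⟩
  · set I := Nat.card (Inv L) with hIdef
    have hev : Nat.card {p : Inv L × Inv L // ¬ Odd (orderOf ((p.1 : L) * p.2))} ≤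
        I * (2 * r) * (2 * r) := by
      let R : Inv L → Type u := fun w => {x : Inv L // Commute (x : L) w ∧ (x : L) ≠ (w : L)}
      have hkey : ∀ p : {p : Inv L × Inv L // ¬ Odd (orderOf ((p.1 : L) * p.2))},
          ∃ q : Σ w : Inv L, R w × R w, q.2.1.1 = p.1.1 ∧ q.2.2.1 = p.1.2 := by
        rintro ⟨⟨i, j⟩, hp⟩
        have hev : Even (orderOf ((i : L) * j)) := Nat.not_odd_iff_even.1 hp
        set w := ((i : L) * j) ^ (orderOf ((i : L) * j) / 2) with hw
        have hwo : orderOf w = 2 := orderOf_pow_half hev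
        have hwm : w ∈ zpowers ((i : L) * j) := pow_mem (mem_zpowers _) _
        refine ⟨⟨⟨w, hwo⟩, ⟨i, (commute_pow_half (invol_conj_mul i.2 j.2) hev).symm, fun e => ?_⟩,
          ⟨j, (commute_pow_half (invol_conj_mul' i.2 j.2) hev).symm, fun e => ?_⟩⟩, rfl, rfl⟩
        · exact invol_notMem_zpowers_mul i.2 j.2 ((show (i : L) = w from e).symm ▸ hwm)
        · refine invol_notMem_zpowers_mul j.2 i.2 ?_
          have h' : (j : L) ∈ zpowers ((i : L) * j) := (show (j : L) = w from e).symm ▸ hwm
          rwa [← Subgroup.zpowers_inv, mul_inv_rev, invol_inv i.2, invol_inv j.2] at h'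
      choose q hq1 hq2 using hkey
      refine (Nat.card_le_card_of_injective q fun a b e => ?_).trans ?_
      · refine Subtype.ext (Prod.ext ?_ ?_)
        · rw [← hq1 a, ← hq1 b, e]
        · rw [← hq2 a, ← hq2 b, e]
      · rw [Nat.card_sigma]
        refine (Finset.sum_le_sum fun w _ => ?_).trans (le_of_eq
          (show ∑ _w : Inv L, (2 * r) * (2 * r) = _ by
            rw [Finset.sum_const, Finset.card_univ, ← Nat.card_eq_fintype_card, smul_eq_mul]; ring))
        rw [Nat.card_prod]
        have h2 := card_partners_le P hP hr w.2 (fun x hx => (hM x hx).1) (hM _ w.2).2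
        exact Nat.mul_le_mul h2 h2
    have htot : Nat.card (OddPairs L) +
        Nat.card {p : Inv L × Inv L // ¬ Odd (orderOf ((p.1 : L) * p.2))} = I * I := by
      rw [← Nat.card_sum, hIdef, ← Nat.card_prod]
      exact Nat.card_congr (Equiv.sumCompl _)
    have key : I * I < 3 * Nat.card (OddPairs L) := by nlinarith
    exact ⟨key.le, fun _ => key⟩

/-- **the odd part of involution centralisers is trivial when it glues to an invariant subgroup** -/
theorem card_eq_sixty_of_glued (P : Sylow 2 L) (hP : IsKleinFour (P : Subgroup L)) (h : KleinType L P)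
    (hn : ¬ (P : Subgroup L).Normal) (X : Subgroup L) (hX : Odd (Nat.card X))
    (hPX : ∀ v ∈ (P : Subgroup L), ∀ x ∈ X, v * x * v⁻¹ ∈ X)
    (hC : ∀ v ∈ (P : Subgroup L), v ≠ 1 → ∀ g : L, Commute g v →
      ∃ x ∈ X, ∃ c ∈ (P : Subgroup L), g = x * c) :
    Nat.card L = 60 ∧ Nat.card (Inv L) = 15 ∧
      ∀ v ∈ (P : Subgroup L), v ≠ 1 → centralizer ({v} : Set L) ≤ (P : Subgroup L) := by
  classical
  haveI : Fact (Nat.Prime 2) := ⟨Nat.prime_two⟩
  obtain ⟨hn', -⟩ | ⟨r, hr, hcop, hI6, h60, M, hMn, hM, hMc, hPM⟩ := h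
  · exact absurd hn' hn
  suffices hr1 : r = 1 by
    subst hr1
    have h60' := h60 rfl
    simp only [mul_one] at hM hMc hI6
    have hdM : Nat.card M ∣ 60 := h60' ▸ Subgroup.card_subgroup_dvd_card M
    rw [hMc] at hdM
    have hI15 : Nat.card (Inv L) = 15 := by
      have hle : Nat.card (Inv L) ≤ 15 := by have := Nat.le_of_dvd (by norm_num) hdM; omega
      generalize Nat.card (Inv L) = I at hdM hI6 hle ⊢
      interval_cases I <;> first | rfl | norm_num at hdM
    have hMtop : M = ⊤ := Subgroup.eq_top_of_card_eq M (by rw [hMc, hI15, h60'])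
    refine ⟨h60', hI15, fun v hv hv1 => ?_⟩
    have h4 := (hM v (invol_iff.2 ⟨sq_of_klein hP hv, hv1⟩)).2
    rw [hMtop, inf_top_eq] at h4
    refine le_of_eq (eq_of_le_of_card_ge ?_ (by rw [h4, hP.card_four])).symm
    intro u hu
    refine mem_centralizer_singleton_iff.2 ?_
    have hi : ∀ c ∈ (P : Subgroup L), c⁻¹ = c := fun c hc => inv_eq_of_mul_eq_one_right (sq_of_klein hP hc)
    rw [← hi _ (mul_mem hu hv), mul_inv_rev, hi _ hu, hi _ hv]
  haveI := hMn
  set Y := X ⊓ M with hY
  have hPc : ∀ a ∈ (P : Subgroup L), ∀ b ∈ (P : Subgroup L), a * b = b * a := fun a ha b hb => by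
    have hi : ∀ c ∈ (P : Subgroup L), c⁻¹ = c := fun c hc => inv_eq_of_mul_eq_one_right (sq_of_klein hP hc)
    rw [← hi _ (mul_mem ha hb), mul_inv_rev, hi _ ha, hi _ hb]
  have hPM' : ∀ v ∈ (P : Subgroup L), v ∈ M := fun v hv => (hPM.ge hv).2
  have hXP : ∀ c ∈ (P : Subgroup L), c ∈ X → c = 1 := fun c hc hcX =>
    CfsgLib.ProdFusion.eq_one_of_sq hX hcX (sq_of_klein hP hc)
  have hYc : ∀ v ∈ (P : Subgroup L), v ≠ 1 → Nat.card (CfsgLib.GW.fixIn Y v) = r := by
    intro v hv hv1
    have hvo : orderOf v = 2 := invol_iff.2 ⟨sq_of_klein hP hv, hv1⟩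
    have h4 : Nat.card (CfsgLib.GW.fixIn Y v) * Nat.card (P : Subgroup L) =
        Nat.card (centralizer ({v} : Set L) ⊓ M : Subgroup L) := by
      rw [← Nat.card_prod]
      refine Nat.card_congr (Equiv.ofBijective (fun p =>
        (⟨(p.1 : L) * p.2, mem_centralizer_singleton_iff.2 ?_, M.mul_mem p.1.2.1.2 (hPM' _ p.2.2)⟩ :
          (centralizer ({v} : Set L) ⊓ M : Subgroup L))) ⟨?_, ?_⟩)
      · exact (Commute.mul_left (mem_centralizer_singleton_iff.1 p.1.2.2) (hPc _ p.2.2 _ hv)).eq
      · rintro ⟨a, b⟩ ⟨a', b'⟩ e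
        have e' : (a : L) * b = a' * b' := congrArg Subtype.val e
        have h2 : (a' : L)⁻¹ * a = b' * (b : L)⁻¹ := by
          rw [inv_mul_eq_iff_eq_mul, ← mul_assoc, ← e', mul_inv_cancel_right]
        have h3 := hXP _ (mul_mem b'.2 (inv_mem b.2)) (h2 ▸ mul_mem (inv_mem a'.2.1.1) a.2.1.1)
        have hb : (b' : L) = b := mul_inv_eq_one.1 h3
        exact Prod.ext (Subtype.ext (mul_right_cancel (hb ▸ e'))) (Subtype.ext hb.symm)
      · rintro ⟨g, hg1, hg2⟩
        obtain ⟨x, hx, c, hc, rfl⟩ := hC v hv hv1 g (mem_centralizer_singleton_iff.1 hg1)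
        have hxM : x ∈ M := by simpa using M.mul_mem hg2 (M.inv_mem (hPM' c hc))
        refine ⟨(⟨x, ⟨hx, hxM⟩, mem_centralizer_singleton_iff.2 ?_⟩, ⟨c, hc⟩), rfl⟩
        have h5 : Commute (x * c) v := mem_centralizer_singleton_iff.1 hg1
        have h6 : Commute (x * c * c⁻¹) v := h5.mul_left (show Commute c v from hPc c hc v hv).inv_left
        rw [mul_inv_cancel_right] at h6
        exact h6.eq
    rw [hP.card_four, (hM v hvo).2] at h4
    omega
  obtain ⟨a, ha, ha1⟩ : ∃ a ∈ (P : Subgroup L), a ≠ 1 := by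
    obtain ⟨⟨a, ha⟩, ha1⟩ := ne_bot_iff_exists_ne_one.1 (show (P : Subgroup L) ≠ ⊥ from fun e => by
      have := hP.card_four
      rw [e, card_bot] at this
      omega)
    exact ⟨a, ha, fun e => ha1 (Subtype.ext e)⟩
  obtain ⟨b, hb, hb1, hab⟩ : ∃ b ∈ (P : Subgroup L), b ≠ 1 ∧ b ≠ a := by
    by_contra h
    push Not at h
    have hsub : (P : Subgroup L) ≤ zpowers a := fun x hx => by
      by_cases hx1 : x = 1
      · rw [hx1]; exact one_mem _
      · rw [h x hx hx1]; exact mem_zpowers _
    have := Nat.le_of_dvd Nat.card_pos (card_dvd_of_le hsub)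
    rw [hP.card_four, Nat.card_zpowers, invol_iff.2 ⟨sq_of_klein hP ha, ha1⟩] at this
    omega
  have hYinv : ∀ v ∈ (P : Subgroup L), ∀ x ∈ Y, v * x * v⁻¹ ∈ Y := fun v hv x hx =>
    ⟨hPX v hv x hx.1, hMn.conj_mem x hx.2 v⟩
  have hYodd : Odd (Nat.card Y) := hX.of_dvd_nat (card_dvd_of_le inf_le_left)
  have hf := CfsgLib.GW.card_four_formula hYodd (sq_of_klein hP ha) (sq_of_klein hP hb) (hPc a ha b hb)
    (hYinv a ha) (hYinv b hb)
  have hfix1 : CfsgLib.GW.fixIn Y a ⊓ CfsgLib.GW.fixIn Y b = ⊥ := by
    refine (eq_bot_iff_forall _).2 fun x hx => ?_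
    have hxa : Commute x a := mem_centralizer_singleton_iff.1 hx.1.2
    have hxb : Commute x b := mem_centralizer_singleton_iff.1 hx.2.2
    have hxP : x ∈ centralizer ((P : Subgroup L) : Set L) := by
      refine mem_centralizer_iff.2 fun v hv => mem_centralizer_singleton_iff.1 ?_
      have hle : (P : Subgroup L) ≤ centralizer ({x} : Set L) := by
        have h3 : 3 ≤ Nat.card ((P : Subgroup L) ⊓ centralizer ({x} : Set L) : Subgroup L) := by
          haveI := Fintype.ofFinite ((P : Subgroup L) ⊓ centralizer ({x} : Set L) : Subgroup L)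
          rw [Nat.card_eq_fintype_card]
          refine le_trans (le_of_eq ?_) (Finset.card_le_univ
            ({1, ⟨a, ha, mem_centralizer_singleton_iff.2 hxa.symm.eq⟩,
              ⟨b, hb, mem_centralizer_singleton_iff.2 hxb.symm.eq⟩} :
              Finset ((P : Subgroup L) ⊓ centralizer ({x} : Set L) : Subgroup L)))
          rw [Finset.card_insert_of_notMem, Finset.card_pair]
          · exact fun e => hab (congrArg Subtype.val e).symm
          · simp only [Finset.mem_insert, Finset.mem_singleton, Subtype.ext_iff, OneMemClass.coe_one, not_or]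
            exact ⟨ha1.symm, hb1.symm⟩
        have hd : Nat.card ((P : Subgroup L) ⊓ centralizer ({x} : Set L) : Subgroup L) ∣ 4 :=
          hP.card_four ▸ card_dvd_of_le inf_le_left
        have h4 : Nat.card ((P : Subgroup L) ⊓ centralizer ({x} : Set L) : Subgroup L) = 4 := by
          have := Nat.le_of_dvd (by norm_num) hd
          rcases (show Nat.card ((P : Subgroup L) ⊓ centralizer ({x} : Set L) : Subgroup L) = 3 ∨
              Nat.card ((P : Subgroup L) ⊓ centralizer ({x} : Set L) : Subgroup L) = 4 by omega) with h | h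
          · rw [h] at hd; norm_num at hd
          · exact h
        exact inf_eq_left.1 (eq_of_le_of_card_ge inf_le_left (by rw [h4, hP.card_four]))
      exact hle hv
    exact hXP x (hPM ▸ (⟨hxP, hx.1.1.2⟩ : x ∈ centralizer ((P : Subgroup L) : Set L) ⊓ M)) hx.1.1.1
  rw [hfix1, Subgroup.card_bot, one_pow, mul_one, hYc a ha ha1, hYc b hb hb1,
    hYc (a * b) (mul_mem ha hb) (fun e => hab (by
      rw [eq_inv_of_mul_eq_one_right e, inv_eq_of_mul_eq_one_right (sq_of_klein hP ha)]))] at hf
  have hd : r * (r * r) ∣ r * (4 * Nat.card (Inv L)) := by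
    rw [show r * (r * r) = Nat.card Y by rw [hf]; ring,
      show r * (4 * Nat.card (Inv L)) = Nat.card M by rw [hMc]; ring]
    exact card_dvd_of_le inf_le_right
  have hd2 : r ∣ 4 * Nat.card (Inv L) :=
    (dvd_mul_right r r).trans ((Nat.mul_dvd_mul_iff_left hr.pos).1 hd)
  have hc4 : Nat.Coprime r 4 := by
    rw [show (4 : ℕ) = 2 ^ 2 from rfl]; exact (Nat.coprime_two_right.2 hr).pow_right 2
  exact Nat.eq_one_of_dvd_coprimes hcop dvd_rfl (hc4.dvd_of_dvd_mul_left hd2)

/-- with self-centralising four groups the even pairs are the commuting ones -/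
theorem card_oddPairs_of_TI (P : Sylow 2 L) (hP : IsKleinFour (P : Subgroup L))
    (h15 : Nat.card (Inv L) = 15)
    (hTI : ∀ v ∈ (P : Subgroup L), v ≠ 1 → centralizer ({v} : Set L) ≤ (P : Subgroup L)) :
    Nat.card (OddPairs L) = 195 := by
  classical
  haveI : Fact (Nat.Prime 2) := ⟨Nat.prime_two⟩
  haveI := Fintype.ofFinite L
  have hcomm : ∀ a ∈ (P : Subgroup L), ∀ b ∈ (P : Subgroup L), a * b = b * a := fun a ha b hb => by
    have hi : ∀ c ∈ (P : Subgroup L), c⁻¹ = c := fun c hc => inv_eq_of_mul_eq_one_right (sq_of_klein hP hc)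
    rw [← hi _ (mul_mem ha hb), mul_inv_rev, hi _ ha, hi _ hb]
  have key : ∀ i : Inv L, ∃ g : L, g⁻¹ * i * g ∈ (P : Subgroup L) ∧
      ∀ j : L, Commute j i → g⁻¹ * j * g ∈ (P : Subgroup L) := by
    intro i
    obtain ⟨g, hg⟩ := exists_conj_le_sylow (Q := zpowers (i : L))
      (IsPGroup.of_card (n := 1) (by rw [Nat.card_zpowers, i.2, pow_one])) P
    have hv : g * i * g⁻¹ ∈ (P : Subgroup L) := hg _ (mem_zpowers _)
    refine ⟨g⁻¹, by simpa using hv, fun j hj => hTI _ hv (invol_ne_one (invol_conj i.2 g))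
      (mem_centralizer_singleton_iff.2 ?_)⟩
    rw [inv_inv, show g * j * g⁻¹ * (g * i * g⁻¹) = g * (j * i) * g⁻¹ by group, hj.eq]
    group
  choose g hg hgc using key
  have hc2 : ∀ i : Inv L, Nat.card {j : Inv L // Commute (j : L) i ∧ j ≠ i} = 2 := by
    intro i
    obtain ⟨v, hv⟩ : ∃ v : L, v = (g i)⁻¹ * i * g i := ⟨_, rfl⟩
    have hvP : v ∈ (P : Subgroup L) := hv ▸ hg i
    have hv' : g i * v * (g i)⁻¹ = (i : L) := by rw [hv]; group
    have hv1 : v ≠ 1 := fun e => invol_ne_one i.2 (by
      have := congrArg (fun y => g i * y * (g i)⁻¹) e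
      simpa [hv, mul_assoc] using this)
    have e : {j : Inv L // Commute (j : L) i ∧ j ≠ i} ≃
        {u : (P : Subgroup L) // u ∉ ({1, ⟨v, hvP⟩} : Finset (P : Subgroup L))} :=
      { toFun := fun j => ⟨⟨(g i)⁻¹ * (j : L) * g i, hgc i _ j.2.1⟩, by
          simp only [Finset.mem_insert, Finset.mem_singleton, Subtype.ext_iff, OneMemClass.coe_one, not_or]
          refine ⟨fun e => invol_ne_one j.1.2 ?_, fun e => j.2.2 (Subtype.ext ?_)⟩
          · have := congrArg (fun y => g i * y * (g i)⁻¹) e
            simpa [mul_assoc] using this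
          · have := congrArg (fun y => g i * y * (g i)⁻¹) e
            simpa [hv, mul_assoc] using this⟩
        invFun := fun u => ⟨⟨g i * (u : L) * (g i)⁻¹, invol_conj (invol_iff.2 ⟨sq_of_klein hP u.1.2, fun e => u.2 (by
            simp [Subtype.ext_iff, e])⟩) _⟩, by
            show g i * (u : L) * (g i)⁻¹ * (i : L) = (i : L) * (g i * (u : L) * (g i)⁻¹)
            calc g i * (u : L) * (g i)⁻¹ * (i : L) = g i * ((u : L) * v) * (g i)⁻¹ := by rw [← hv']; group
              _ = g i * (v * (u : L)) * (g i)⁻¹ := by rw [hcomm _ u.1.2 _ hvP]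
              _ = (i : L) * (g i * (u : L) * (g i)⁻¹) := by rw [← hv']; group, fun e => u.2 (by
            have h1 := congrArg Subtype.val e
            simp only at h1
            have h2 : (u : L) = v := mul_left_cancel (mul_right_cancel (h1.trans hv'.symm))
            simp [Subtype.ext_iff, h2])⟩
        left_inv := fun j => Subtype.ext (Subtype.ext (by simp [mul_assoc]))
        right_inv := fun u => Subtype.ext (Subtype.ext (by simp [mul_assoc])) }
    haveI := Fintype.ofFinite (P : Subgroup L)
    rw [Nat.card_congr e, Nat.card_eq_fintype_card, Fintype.card_subtype_compl, ← Nat.card_eq_fintype_card,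
      hP.card_four, Fintype.card_coe, Finset.card_pair fun e => hv1 (congrArg Subtype.val e).symm]
  have hev : Nat.card {p : Inv L × Inv L // ¬ Odd (orderOf ((p.1 : L) * p.2))} = 30 := by
    have e : {p : Inv L × Inv L // ¬ Odd (orderOf ((p.1 : L) * p.2))} ≃
        Σ i : Inv L, {j : Inv L // Commute (j : L) i ∧ j ≠ i} :=
      { toFun := fun p => ⟨p.1.1, p.1.2, by
          obtain ⟨⟨i, j⟩, hp⟩ := p
          have hev := Nat.not_odd_iff_even.1 hp
          set w := ((i : L) * j) ^ (orderOf ((i : L) * j) / 2) with hw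
          have hwi := commute_pow_half (invol_conj_mul i.2 j.2) hev
          have hwj := commute_pow_half (invol_conj_mul' i.2 j.2) hev
          have h1 := hgc ⟨w, orderOf_pow_half hev⟩ i hwi.symm
          have h2 := hgc ⟨w, orderOf_pow_half hev⟩ j hwj.symm
          refine ⟨?_, fun e => ?_⟩
          · have h3 := hcomm _ h2 _ h1
            generalize g (⟨w, orderOf_pow_half hev⟩ : Inv L) = c at h3
            calc (j : L) * i = c * ((c⁻¹ * j * c) * (c⁻¹ * i * c)) * c⁻¹ := by group
              _ = c * ((c⁻¹ * i * c) * (c⁻¹ * j * c)) * c⁻¹ := by rw [h3]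
              _ = (i : L) * j := by group
          · have e' : (j : L) = i := congrArg Subtype.val e
            simp only at hp
            rw [e', invol_mul_self i.2, orderOf_one] at hp
            exact hp odd_one⟩
        invFun := fun s => ⟨(s.1, s.2.1), fun ho => by
          obtain ⟨i, j, hji, hne⟩ := s
          refine hne (Subtype.ext ?_)
          have h2 : ((i : L) * j) * ((i : L) * j) = 1 := by
            rw [show (i : L) * j * (i * j) = (i : L) * (j * i) * j by group, hji.eq,
              show (i : L) * ((i : L) * j) * j = (i * i : L) * (j * j) by group, invol_mul_self i.2,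
              invol_mul_self j.2, one_mul]
          have h3 := eq_one_of_odd_of_pow_two (k := 1) ho (by rw [pow_one, pow_two]; exact h2)
          rw [eq_inv_of_mul_eq_one_right h3, invol_inv i.2]⟩
        left_inv := fun p => rfl
        right_inv := fun s => rfl }
    rw [Nat.card_congr e, Nat.card_sigma, Finset.sum_congr rfl (fun i _ => hc2 i), Finset.sum_const,
      Finset.card_univ, ← Nat.card_eq_fintype_card, h15, smul_eq_mul]
  have htot : Nat.card (OddPairs L) +
      Nat.card {p : Inv L × Inv L // ¬ Odd (orderOf ((p.1 : L) * p.2))} = 15 * 15 := by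
    rw [← Nat.card_sum, ← h15, ← Nat.card_prod]
    exact Nat.card_congr (Equiv.sumCompl _)
  omega

end CfsgLib.Invol.L34Type
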