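import Cfsg.Agent.Lib.Invol.L34Type.BadLocal
import Cfsg.Agent.Lib.Invol.L34Type.Klein

/-!
# A bad side: counting pairs over an outer element
-/

set_option autoImplicit false
set_option linter.unusedSectionVars false
set_option linter.style.haveILetI false

namespace CfsgLib.Invol.L34Type

open Subgroup
open CfsgLib.Invol
open CfsgLib.Invol.HeisFour (V fm H4)
open CfsgLib.ProdFusion (OC OC_le le_OC odd_card_OC le_normalizer_OC_self)
open CfsgLib.Invol.EightTypeThree (Nice decomp_in)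

universe u

variable {G : Type u} [Group G] [Finite G]

/-- the members of the class of `z` commuting with `t` -/
abbrev Xset (z t : G) := {x : G // IsConj z x ∧ Commute x t}

/-- the pairs from the classes of `z` and `t` over `t` -/
abbrev Pset (z t : G) := {p : G × G // IsConj z p.1 ∧ IsConj t p.2 ∧ t ∈ zpowers (p.1 * p.2)}

/-- an involution of `⟨xy⟩` commutes with `x` and `y` -/
theorem commute_of_mem_zpowers {x y w : G} (hx : orderOf x = 2) (hy : orderOf y = 2) (hw : orderOf w = 2)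
    (h : w ∈ zpowers (x * y)) : Commute x w ∧ Commute y w := by
  obtain ⟨k, rfl⟩ := mem_zpowers_iff.1 h
  refine ⟨mul_inv_eq_iff_eq_mul.1 ?_, mul_inv_eq_iff_eq_mul.1 ?_⟩
  · rw [← conj_zpow, invol_conj_mul hx hy, inv_zpow, invol_inv hw]
  · rw [← conj_zpow, invol_conj_mul' hx hy, inv_zpow, invol_inv hw]

theorem invol_of_isConj {z x : G} (hz : orderOf z = 2) (h : IsConj z x) : orderOf x = 2 := by
  obtain ⟨g, rfl⟩ := isConj_iff.1 h
  exact invol_conj hz g

namespace Frame

variable (F : Frame G)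

/-- the core of the centraliser of `A` lies in the core of the centraliser of a central involution -/
theorem core_cent_A_le {z : G} (hz : z ∈ F.Z) (hz1 : z ≠ 1) : OC (centralizer (F.A : Set G)) ≤ θ z := by
  refine (F.nice_Z hz hz1).le (fun c hc => F.sq_of_mem hc) (F.A_le_centralizer (F.Z_le_A hz))
    (fun _ hn => F.cent_A_decomp hn) (F.Z_le_A hz)
    ((OC_le _).trans (centralizer_le (Set.singleton_subset_iff.2 (F.Z_le_A hz)))) (odd_card_OC _)
    fun a ha x hx => ?_
  exact (mem_normalizer_iff.1 (le_normalizer_OC_self _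
    (mem_centralizer_iff.2 fun b hb => F.comm_A hb ha)) x).1 hx

/-- an involution commuting with `t` is fused into `A` inside `C(t)` -/
theorem exists_conj_A (hα : ¬ F.Alpha) {t x : G} (ht : t ∈ F.A) (htZ : t ∉ F.Z) (hx : orderOf x = 2)
    (hxt : Commute x t) : ∃ c : G, Commute c t ∧ c * x * c⁻¹ ∈ F.A := by
  haveI : Fact (Nat.Prime 2) := ⟨Nat.prime_two⟩
  set C := centralizer ({t} : Set G) with hC
  obtain ⟨c, hc⟩ := exists_conj_le_sylow (Q := zpowers (⟨x, mem_centralizer_singleton_iff.2 hxt.eq⟩ : C))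
    (IsPGroup.of_card (n := 1) (by rw [Nat.card_zpowers, Subgroup.orderOf_mk, hx, pow_one]))
    ((Fixer.isPGroup_A (F := F) ht).toSylow (Fixer.idx hα ht htZ))
  exact ⟨c, mem_centralizer_singleton_iff.1 c.2, hc _ (mem_zpowers _)⟩

theorem exists_conj_Z (hα : ¬ F.Alpha) {t x z : G} (ht : t ∈ F.A) (htZ : t ∉ F.Z) (hz : z ∈ F.Z)
    (hz1 : z ≠ 1) (hx : IsConj z x) (hxt : Commute x t) :
    ∃ c : G, Commute c t ∧ ∃ e ∈ F.Z, e ≠ 1 ∧ x = c * e * c⁻¹ := by
  have hxo := invol_of_isConj (invol_iff.2 ⟨F.sq_of_mem (F.Z_le_A hz), hz1⟩) hx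
  obtain ⟨c, hc, hcA⟩ := F.exists_conj_A hα ht htZ hxo hxt
  obtain ⟨g, rfl⟩ := isConj_iff.1 hx
  have hZ : c * (g * z * g⁻¹) * c⁻¹ ∈ F.Z := F.mem_Z_of_fused (not_not.1 hα) hcA (g := (c * g)⁻¹) (by
    rw [show (c * g)⁻¹ * (c * (g * z * g⁻¹) * c⁻¹) * (c * g)⁻¹⁻¹ = z by group]; exact hz)
  exact ⟨c⁻¹, hc.inv_left, _, hZ, invol_ne_one (invol_conj hxo c), by group⟩

variable {F}

namespace Fixer

variable {t h : G} (H : F.Fixer t h) (hα : ¬ F.Alpha) (ht : t ∈ F.A) (htZ : t ∉ F.Z)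

include H hα ht htZ

omit H hα htZ in
theorem commute_mk {c : centralizer ({t} : Set G)} : Commute (c : G) t :=
  mem_centralizer_singleton_iff.1 c.2

theorem kleinType :
    KleinType (centralizer ({t} : Set G) ⧸ F.isoPart t h) (H.locSylow hα ht htZ) :=
  klein_type _ (H.isKleinFour_range hα ht htZ) (H.loc_core hα ht htZ) (H.one_class hα ht htZ)

theorem card_locQuot :
    Nat.card (centralizer ({t} : Set G)) =
      Nat.card (centralizer ({t} : Set G) ⧸ F.isoPart t h) * Nat.card (F.isoPart t h) :=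
  Subgroup.card_eq_card_quotient_mul_card_subgroup _

/-- an element of odd order in the isolated part is in the core -/
theorem core_of_odd {c : centralizer ({t} : Set G)} (hc : F.locMap t h c = 1) (ho : Odd (orderOf c)) :
    c ∈ Cfsg.pPrimeCore 2 (centralizer ({t} : Set G)) := by
  obtain ⟨o, hoc, a, ha, rfl⟩ := H.mem_iso hα ht htZ hc
  have he : QuotientGroup.mk' (Cfsg.pPrimeCore 2 (centralizer ({t} : Set G))) (o * a) = QuotientGroup.mk' _ a := by
    rw [map_mul, show QuotientGroup.mk' _ o = 1 from (QuotientGroup.eq_one_iff o).2 hoc, one_mul]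
  refine (QuotientGroup.eq_one_iff _).1 ?_
  show QuotientGroup.mk' _ (o * a) = 1
  refine eq_one_of_odd_of_pow_two (k := 1) (ho.of_dvd_nat (orderOf_map_dvd _ _)) ?_
  rw [pow_one, he, ← map_pow, show a ^ 2 = 1 from Subtype.ext (F.elemA.2 _ ha.1), map_one]

/-- the derived part of `C(t)` meets `A` in `Z` -/
theorem focal_le :
    ((F.A.subgroupOf (centralizer ({t} : Set G)))).focalSubgroup ≤
      F.Z.subgroupOf (centralizer ({t} : Set G)) := by
  haveI : Fact (Nat.Prime 2) := ⟨Nat.prime_two⟩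
  refine (CfsgLib.Fusion.focalSubgroup_le_of_control
    (N := normalizer ((F.A.subgroupOf (centralizer ({t} : Set G))) : Set (centralizer ({t} : Set G))))
    fun x hx g hg => ?_).trans (Subgroup.commutator_le.2 fun x hx n hn => ?_)
  · exact CfsgLib.Fusion.abelian_sylow_control ((isPGroup_A (F := F) ht).toSylow (idx hα ht htZ))
      ⟨⟨fun a b => Subtype.ext (Subtype.ext (F.comm_A a.2 b.2))⟩⟩ hx g hg
  · have hnA : (n : G) ∈ normalizer (F.A : Set G) := CfsgLib.ProdFusion.mem_of_forall_conj_mem fun a ha =>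
      (mem_normalizer_iff.1 hn ⟨a, F.A_le_centralizer ht ha⟩).1 ha
    have h1 := (H.norm_fix hα ht htZ hnA (commute_mk ht)).2 _ (F.A.inv_mem (show (x : G) ∈ F.A from hx))
    rw [mem_subgroupOf, commutatorElement_def]
    push_cast
    rwa [show (x : G) * n * (x : G)⁻¹ * (n : G)⁻¹ = (x : G)⁻¹⁻¹ * ((n : G) * (x : G)⁻¹ * (n : G)⁻¹) by group]

/-- a product of two conjugates of central involutions in the isolated part has odd order -/
theorem prod_core {z : G} (hz : z ∈ F.Z) (hz1 : z ≠ 1) {x x' : centralizer ({t} : Set G)} (hx : IsConj z (x : G))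
    (hx' : IsConj z (x' : G)) {k : ℕ} (hk : F.locMap t h ((x * x') ^ k) = 1) :
    (x * x') ^ k ∈ Cfsg.pPrimeCore 2 (centralizer ({t} : Set G)) := by
  haveI : Fact (Nat.Prime 2) := ⟨Nat.prime_two⟩
  set S := F.A.subgroupOf (centralizer ({t} : Set G)) with hS
  set K := S.transferFocal.ker with hK
  have hcop := CfsgLib.Fusion.coprime_card_focalQuotient
    ((isPGroup_A (F := F) ht).toSylow (idx hα ht htZ))
  have hKS : K ⊓ S = S.focalSubgroup := CfsgLib.Fusion.ker_transferFocal_inf hcop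
  have hcomm : ∀ a b : centralizer ({t} : Set G), a * b * a⁻¹ * b⁻¹ ∈ K := fun a b => by
    rw [hK, MonoidHom.mem_ker, ← commutatorElement_def, map_commutatorElement]
    exact commutatorElement_eq_one_iff_commute.2 (IsMulCommutative.is_comm.comm _ _)
  have hZK : ∀ e (he : e ∈ F.Z), (⟨e, F.A_le_centralizer ht (F.Z_le_A he)⟩ : centralizer ({t} : Set G)) ∈ K := by
    intro e he
    obtain ⟨r, hr0, hr1, -, hc⟩ := H.scal
    obtain ⟨p, hp, hpe⟩ := he
    obtain ⟨y, hy⟩ := scalar_solve r p.c hr1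
    have e1 : e = h * F.hom ⟨0, 0, y⟩ * h⁻¹ * (F.hom ⟨0, 0, y⟩)⁻¹ := by
      rw [hc, ← hpe, ← map_inv, ← map_mul]
      congr 1
      rw [CfsgLib.Invol.HeisFour.inv_def, CfsgLib.Invol.HeisFour.mul_def]
      refine CfsgLib.Invol.HeisFour.H4.ext' ?_ ?_ ?_
      · rw [show p.a = 0 from hp.2]; exact (add_zero (0 : V)).symm
      · rw [show p.b = 0 from hp.1]; exact (add_zero (0 : V)).symm
      · rw [← hy]
        simp [CfsgLib.Invol.HeisFour.fm_zero_left, CfsgLib.Invol.HeisFour.fm_zero_right, add_comm]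
    have h2 := hcomm ⟨h, mem_centralizer_singleton_iff.2 H.comm.eq⟩
      ⟨F.hom ⟨0, 0, y⟩, F.A_le_centralizer ht (F.Z_le_A (F.hom_mem_Z.2 ⟨rfl, rfl⟩))⟩
    rwa [show (⟨h, mem_centralizer_singleton_iff.2 H.comm.eq⟩ : centralizer ({t} : Set G)) *
      ⟨F.hom ⟨0, 0, y⟩, F.A_le_centralizer ht (F.Z_le_A (F.hom_mem_Z.2 ⟨rfl, rfl⟩))⟩ *
      (⟨h, mem_centralizer_singleton_iff.2 H.comm.eq⟩ : centralizer ({t} : Set G))⁻¹ *
      (⟨F.hom ⟨0, 0, y⟩, F.A_le_centralizer ht (F.Z_le_A (F.hom_mem_Z.2 ⟨rfl, rfl⟩))⟩ :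
        centralizer ({t} : Set G))⁻¹ = ⟨e, F.A_le_centralizer ht (F.Z_le_A ⟨p, hp, hpe⟩)⟩ from
      Subtype.ext e1.symm] at h2
  have hclass : ∀ y : centralizer ({t} : Set G), IsConj z (y : G) → y ∈ K := by
    intro y hy
    obtain ⟨c, hc, e, he, -, hye⟩ := F.exists_conj_Z hα ht htZ hz hz1 hy (commute_mk ht)
    rw [show y = (⟨c, mem_centralizer_singleton_iff.2 hc.eq⟩ : centralizer ({t} : Set G)) *
      ⟨e, F.A_le_centralizer ht (F.Z_le_A he)⟩ * (⟨c, mem_centralizer_singleton_iff.2 hc.eq⟩)⁻¹ from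
      Subtype.ext hye]
    exact (MonoidHom.normal_ker _).conj_mem _ (hZK e he) _
  obtain ⟨o, ho, a, ha, he⟩ := H.mem_iso hα ht htZ hk
  have hoK : o ∈ K := by
    rw [hK, MonoidHom.mem_ker]
    obtain ⟨j, hj⟩ := ((isPGroup_A (F := F) ht).to_quotient S.focalSubgroupOf) (S.transferFocal o)
    exact eq_one_of_odd_of_pow_two (k := j)
      ((CfsgLib.ProdFusion.odd_orderOf_of_mem (odd_pPrimeCore _) ho).of_dvd_nat (orderOf_map_dvd _ _)) hj
  have haK : a ∈ K := by
    rw [show a = o⁻¹ * (x * x') ^ k by rw [he, inv_mul_cancel_left]]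
    exact K.mul_mem (K.inv_mem hoK) (K.pow_mem (K.mul_mem (hclass x hx) (hclass x' hx')) k)
  have haZ : (a : G) ∈ F.Z :=
    mem_subgroupOf.1 (H.focal_le hα ht htZ (hKS ▸ (⟨haK, mem_subgroupOf.2 ha.1⟩ : a ∈ K ⊓ S)))
  rw [he, show a = 1 from Subtype.ext (H.A0_Z ha haZ), mul_one]
  exact ho

theorem odd_lift {z : G} (hz : z ∈ F.Z) (hz1 : z ≠ 1) {x x' : centralizer ({t} : Set G)} (hx : IsConj z (x : G))
    (hx' : IsConj z (x' : G)) (ho : Odd (orderOf (F.locMap t h x * F.locMap t h x'))) :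
    Odd (orderOf ((x : G) * x')) := by
  set k := orderOf (F.locMap t h x * F.locMap t h x') with hk
  have hcore := H.prod_core hα ht htZ hz hz1 hx hx' (k := k) (by
    rw [map_pow, map_mul, hk, pow_orderOf_eq_one])
  have h2 := CfsgLib.ProdFusion.odd_orderOf_of_mem (odd_pPrimeCore _) hcore
  rw [show (x : G) * x' = ((x * x' : centralizer ({t} : Set G)) : G) from rfl, Subgroup.orderOf_coe]
  refine (ho.mul h2).of_dvd_nat (orderOf_dvd_of_pow_eq_one ?_)
  rw [pow_mul, pow_orderOf_eq_one]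

/-- the image of a class member -/
theorem orderOf_img {z : G} (hz : z ∈ F.Z) (hz1 : z ≠ 1) (x : Xset z t) :
    orderOf (F.locMap t h ⟨(x : G), mem_centralizer_singleton_iff.2 x.2.2.eq⟩) = 2 := by
  obtain ⟨c, hc, e, he, he1, hxe⟩ := F.exists_conj_Z hα ht htZ hz hz1 x.2.1 x.2.2
  rw [show (⟨(x : G), mem_centralizer_singleton_iff.2 x.2.2.eq⟩ : centralizer ({t} : Set G)) =
    (⟨c, mem_centralizer_singleton_iff.2 hc.eq⟩ : centralizer ({t} : Set G)) *
      ⟨e, F.A_le_centralizer ht (F.Z_le_A he)⟩ * (⟨c, mem_centralizer_singleton_iff.2 hc.eq⟩)⁻¹ from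
      Subtype.ext hxe, map_mul, map_mul, map_inv]
  exact invol_conj (H.orderOf_Z hα ht htZ he he1) _

omit htZ in
theorem isConj_shift {e : G} (he : e ∈ F.Z) (htZ : t ∉ F.Z) : IsConj t (t * e) := by
  obtain ⟨y, -, hy⟩ := F.exists_shift ht htZ he
  exact isConj_iff.2 ⟨y, hy⟩

/-- **the inequality at an outer element of a bad side** -/
theorem bad_ineq {z : G} (hz : z ∈ F.Z) (hz1 : z ≠ 1) :
    Nat.card (Xset z t) * Nat.card (Xset z t) ≤ 3 * Nat.card (Pset z t) ∧
      (¬ Nice F.A t → Nat.card (Xset z t) * Nat.card (Xset z t) < 3 * Nat.card (Pset z t)) ∧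
      0 < Nat.card (Xset z t) := by
  classical
  haveI := Fintype.ofFinite G
  have hne : Nonempty (Xset z t) := ⟨⟨z, IsConj.refl z, F.comm_A (F.Z_le_A hz) ht⟩⟩
  set Q := centralizer ({t} : Set G) ⧸ F.isoPart t h with hQ
  haveI := Fintype.ofFinite Q
  let img : Xset z t → Inv Q := fun x => ⟨_, H.orderOf_img hα ht htZ hz hz1 x⟩
  let fib : Inv Q → Type u := fun i => {x : Xset z t // img x = i}
  have conj : ∀ i : Inv Q, ∀ x : Xset z t, ∃ e : fib (img x) ≃ fib i, True := by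
    intro i x
    obtain ⟨g, hg⟩ := isConj_iff.1 (H.one_class hα ht htZ _ _ (img x).2 i.2)
    obtain ⟨c, rfl⟩ := F.locMap_surjective t h g
    have hct : Commute (c : G) t := commute_mk ht
    let act : Xset z t ≃ Xset z t :=
      { toFun := fun y => ⟨(c : G) * y * (c : G)⁻¹, y.2.1.trans (isConj_iff.2 ⟨c, rfl⟩),
          (hct.mul_left y.2.2).mul_left hct.inv_left⟩
        invFun := fun y => ⟨(c : G)⁻¹ * y * c, y.2.1.trans (isConj_iff.2 ⟨(c : G)⁻¹, by group⟩),
          (hct.inv_left.mul_left y.2.2).mul_left hct⟩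
        left_inv := fun y => Subtype.ext (by simp [mul_assoc])
        right_inv := fun y => Subtype.ext (by simp [mul_assoc]) }
    have hact : ∀ y, ((img (act y) : Inv Q) : Q) = F.locMap t h c * (img y : Q) * (F.locMap t h c)⁻¹ := fun y => by
      show F.locMap t h _ = _
      rw [← map_inv, ← map_mul, ← map_mul]
      rfl
    refine ⟨act.subtypeEquiv fun y => ?_, trivial⟩
    constructor
    · intro e
      refine Subtype.ext ?_
      rw [hact, e, hg]
    · intro e
      refine Subtype.ext ?_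
      have h1 := congrArg Subtype.val e
      rw [hact, ← hg] at h1
      exact mul_left_cancel (mul_right_cancel h1)
  choose tr _ using conj
  obtain ⟨x₀⟩ := hne
  set f := Nat.card (fib (img x₀)) with hf
  have hf0 : 0 < f := by
    haveI : Nonempty (fib (img x₀)) := ⟨⟨x₀, rfl⟩⟩
    exact Nat.card_pos
  have hX : Nat.card (Xset z t) = Nat.card (Inv Q) * f := by
    rw [hf, ← Nat.card_prod]
    exact Nat.card_congr ((Equiv.sigmaFiberEquiv img).symm.trans
      ((Equiv.sigmaCongrRight fun i => (tr i x₀).symm).trans (Equiv.sigmaEquivProd _ _)))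
  have hP : Nat.card (OddPairs Q) * (f * f) ≤ Nat.card (Pset z t) := by
    rw [hf, ← Nat.card_prod, ← Nat.card_prod]
    have hmem : ∀ (p : OddPairs Q) (u v : fib (img x₀)),
        IsConj z ((tr p.1.1 x₀ u).1 : G) ∧ IsConj t (t * ((tr p.1.2 x₀ v).1 : G)) ∧
          t ∈ zpowers (((tr p.1.1 x₀ u).1 : G) * (t * ((tr p.1.2 x₀ v).1 : G))) := by
      intro p u v
      set x := (tr p.1.1 x₀ u).1 with hx
      set y := (tr p.1.2 x₀ v).1 with hy
      refine ⟨x.2.1, ?_, ?_⟩
      · obtain ⟨c, hc, e, he, -, hye⟩ := F.exists_conj_Z hα ht htZ hz hz1 y.2.1 y.2.2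
        refine (H.isConj_shift hα ht he htZ).trans (isConj_iff.2 ⟨c, ?_⟩)
        rw [hye, show c * (t * e) * c⁻¹ = (c * t * c⁻¹) * (c * e * c⁻¹) by group, hc.eq, mul_inv_cancel_right]
      · have hodd : Odd (orderOf ((x : G) * y)) := H.odd_lift hα ht htZ hz hz1
          (x := ⟨(x : G), mem_centralizer_singleton_iff.2 x.2.2.eq⟩)
          (x' := ⟨(y : G), mem_centralizer_singleton_iff.2 y.2.2.eq⟩) x.2.1 y.2.1 (by
            have h1 : (img x : Q) = (p.1.1 : Q) := congrArg Subtype.val (tr p.1.1 x₀ u).2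
            have h2 : (img y : Q) = (p.1.2 : Q) := congrArg Subtype.val (tr p.1.2 x₀ v).2
            show Odd (orderOf ((img x : Q) * (img y : Q)))
            rw [h1, h2]
            exact p.2)
        have hct : Commute t ((x : G) * y) := x.2.2.symm.mul_right y.2.2.symm
        obtain ⟨k, hk⟩ := hodd
        refine mem_zpowers_iff.2 ⟨((orderOf ((x : G) * y) : ℕ) : ℤ), ?_⟩
        rw [zpow_natCast, ← mul_assoc, x.2.2.eq, mul_assoc, hct.mul_pow, pow_orderOf_eq_one, mul_one, hk,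
          pow_succ, pow_mul, pow_two, F.sq_of_mem ht, one_pow, one_mul]
    refine Nat.card_le_card_of_injective
      (fun q => (⟨(((tr q.1.1.1 x₀ q.2.1).1 : G), t * ((tr q.1.1.2 x₀ q.2.2).1 : G)), hmem q.1 q.2.1 q.2.2⟩ :
        Pset z t)) ?_
    rintro ⟨p, u, v⟩ ⟨p', u', v'⟩ e
    have e' := congrArg Subtype.val e
    have e1 : (tr p.1.1 x₀ u).1 = (tr p'.1.1 x₀ u').1 := Subtype.ext (congrArg Prod.fst e' :)
    have e2 : (tr p.1.2 x₀ v).1 = (tr p'.1.2 x₀ v').1 := Subtype.ext (mul_left_cancel (congrArg Prod.snd e' :))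
    have hp : p = p' := Subtype.ext (Prod.ext
      ((tr p.1.1 x₀ u).2.symm.trans ((congrArg img e1).trans (tr p'.1.1 x₀ u').2))
      ((tr p.1.2 x₀ v).2.symm.trans ((congrArg img e2).trans (tr p'.1.2 x₀ v').2)))
    subst hp
    exact Prod.ext rfl (Prod.ext ((tr p.1.1 x₀).injective (Subtype.ext e1))
      ((tr p.1.2 x₀).injective (Subtype.ext e2)))
  obtain ⟨h3, h3'⟩ := three_oddPairs (H.locSylow hα ht htZ) (H.isKleinFour_range hα ht htZ)
    (H.kleinType hα ht htZ)
  have hff : 0 < f * f := Nat.mul_pos hf0 hf0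
  refine ⟨?_, fun hn => ?_, ?_⟩
  · calc Nat.card (Xset z t) * Nat.card (Xset z t) = Nat.card (Inv Q) * Nat.card (Inv Q) * (f * f) := by
          rw [hX]; ring
      _ ≤ 3 * Nat.card (OddPairs Q) * (f * f) := Nat.mul_le_mul_right _ h3
      _ ≤ 3 * Nat.card (Pset z t) := by rw [mul_assoc]; exact Nat.mul_le_mul_left _ hP
  · calc Nat.card (Xset z t) * Nat.card (Xset z t) = Nat.card (Inv Q) * Nat.card (Inv Q) * (f * f) := by
          rw [hX]; ring
      _ < 3 * Nat.card (OddPairs Q) * (f * f) :=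
          Nat.mul_lt_mul_of_pos_right (h3' fun hn' => hn (H.nice_of_normal hα ht htZ hn')) hff
      _ ≤ 3 * Nat.card (Pset z t) := by rw [mul_assoc]; exact Nat.mul_le_mul_left _ hP
  · haveI : Nonempty (Xset z t) := ⟨x₀⟩
    exact Nat.card_pos

/-- the centraliser of two elements -/
theorem cent_two {e g : G} (he : e ∈ F.Z) (he1 : e ≠ 1) (hgt : Commute g t) (hge : Commute g e) :
    ∃ o ∈ θ e, Commute o t ∧ ∃ a ∈ F.A, g = o * a := by
  obtain ⟨o, ho, n, hn, rfl⟩ := F.cz_factor he he1 (mem_centralizer_singleton_iff.2 hge.eq)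
  have hnt : n * t * n⁻¹ ∈ F.A := (mem_normalizer_iff.1 (F.N_T_le_A hn.1) t).1 ht
  set u := n * t * n⁻¹ with hu
  have hou : o * u * o⁻¹ = t := by
    rw [hu, show o * (n * t * n⁻¹) * o⁻¹ = o * n * t * (o * n)⁻¹ by group, hgt.eq, mul_inv_cancel_right]
  have hut : u = t := by
    have h1 : o * u * o⁻¹ * u⁻¹ ∈ θ e := by
      have h2 : u * o⁻¹ * u⁻¹ ∈ θ e :=
        F.A_inv_θ (F.Z_le_A he) u hnt o⁻¹ ((θ e).inv_mem ho)
      rw [show o * u * o⁻¹ * u⁻¹ = o * (u * o⁻¹ * u⁻¹) by group]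
      exact (θ e).mul_mem ho h2
    rw [hou] at h1
    have h3 : t * u⁻¹ = 1 :=
      CfsgLib.ProdFusion.eq_one_of_sq (odd_card_OC _) h1 (F.sq_of_mem (F.A.mul_mem ht (F.A.inv_mem hnt)))
    exact (mul_inv_eq_one.1 h3).symm
  rw [hut] at hou
  have hot : Commute o t := mul_inv_eq_iff_eq_mul.1 hou
  have hnt' : Commute n t := mul_inv_eq_iff_eq_mul.1 (hu.symm.trans hut)
  have hnc := H.cent_of_fix hα ht htZ hn.1 hnt' he he1 (mem_centralizer_singleton_iff.1 hn.2)
  obtain ⟨c, hc, d, hd, rfl⟩ := F.cent_A_decomp hnc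
  have hdθ := F.core_cent_A_le he he1 hd
  refine ⟨o * (c * d * c⁻¹), (θ e).mul_mem ho (F.A_inv_θ (F.Z_le_A he) c hc d hdθ), ?_, c, hc, by group⟩
  exact hot.mul_left ((((show Commute c t from F.comm_A hc ht)).mul_left
    ((mem_centralizer_iff.1 (OC_le _ hd) t ht).symm)).mul_left (show Commute c t from F.comm_A hc ht).inv_left)

/-- centralisers in the quotient -/
theorem cent_image {e : G} (he : e ∈ F.Z) (he1 : e ≠ 1) (g : centralizer ({t} : Set G))
    (hg : Commute (F.locMap t h g) (F.locMap t h ⟨e, F.A_le_centralizer ht (F.Z_le_A he)⟩)) :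
    ∃ o : centralizer ({t} : Set G), (o : G) ∈ θ e ∧ ∃ a : centralizer ({t} : Set G), (a : G) ∈ F.A ∧
      F.locMap t h g = F.locMap t h o * F.locMap t h a := by
  set e' : centralizer ({t} : Set G) := ⟨e, F.A_le_centralizer ht (F.Z_le_A he)⟩ with he'
  have hk : F.locMap t h (e'⁻¹ * (g * e' * g⁻¹)) = 1 := by
    rw [map_mul, map_mul, map_mul, map_inv, map_inv, hg.eq, mul_inv_cancel_right, inv_mul_cancel]
  obtain ⟨o, ho, a, ha, hoa⟩ := H.mem_iso hα ht htZ hk
  have heo : orderOf e' = 2 := by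
    rw [he', Subgroup.orderOf_mk]; exact invol_iff.2 ⟨F.sq_of_mem (F.Z_le_A he), he1⟩
  have hea : (e : G) * (a : G) ∈ F.A := F.A.mul_mem (F.Z_le_A he) ha.1
  have hea1 : e * (a : G) ≠ 1 := fun h0 => he1 (H.A0_Z
    ((eq_inv_of_mul_eq_one_left h0) ▸ (F.A ⊓ centralizer ({h} : Set G)).inv_mem ha) he)
  have hcong : QuotientGroup.mk' (Cfsg.pPrimeCore 2 (centralizer ({t} : Set G))) (g * e' * g⁻¹) =
      QuotientGroup.mk' _ (e' * a) := by
    rw [show g * e' * g⁻¹ = e' * (o * a) by rw [← hoa, mul_inv_cancel_left], map_mul, map_mul, map_mul,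
      show QuotientGroup.mk' _ o = 1 from (QuotientGroup.eq_one_iff o).2 ho, one_mul]
  obtain ⟨k, hk, hke⟩ := CfsgLib.ProdFusion.exists_conj_of_congr (odd_pPrimeCore _)
    (invol_conj heo g) (v := e' * a)
    (by rw [← Subgroup.orderOf_coe]; exact invol_iff.2 ⟨F.sq_of_mem hea, hea1⟩) hcong
  have hke' : ((k * g : centralizer ({t} : Set G)) : G) * e * ((k * g : centralizer ({t} : Set G)) : G)⁻¹ =
      e * (a : G) := by
    have h1 := congrArg (fun y : centralizer ({t} : Set G) => (y : G)) hke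
    simp only [Subgroup.coe_mul, Subgroup.coe_inv] at h1 ⊢
    rw [← h1]
    simp only [he', mul_inv_rev, mul_assoc]
  have haZ : (a : G) ∈ F.Z := by
    have h1 : e * (a : G) ∈ F.Z := F.mem_Z_of_fused (not_not.1 hα) hea
      (g := ((k * g : centralizer ({t} : Set G)) : G)⁻¹) (by rw [← hke']; simpa [mul_assoc] using he)
    simpa using F.Z.mul_mem (F.Z.inv_mem he) h1
  rw [H.A0_Z ha haZ, mul_one] at hke'
  obtain ⟨o', ho', hot, a', ha', hga⟩ := H.cent_two hα ht htZ he he1 (commute_mk ht (c := k * g))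
    (mul_inv_eq_iff_eq_mul.1 hke')
  refine ⟨⟨o', mem_centralizer_singleton_iff.2 hot.eq⟩, ho', ⟨a', F.A_le_centralizer ht ha'⟩, ha', ?_⟩
  rw [← map_mul, show (⟨o', mem_centralizer_singleton_iff.2 hot.eq⟩ : centralizer ({t} : Set G)) *
    ⟨a', F.A_le_centralizer ht ha'⟩ = k * g from Subtype.ext hga.symm, map_mul,
    H.locMap_core hα ht htZ hk, one_mul]

/-- the facts when the signalizer subgroup has odd order and the centraliser is not factorised -/
theorem glued (hn : ¬ Nice F.A t) (hW : Odd (Nat.card F.W)) :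
    Nat.card (centralizer ({t} : Set G) ⧸ F.isoPart t h) = 60 ∧
      Nat.card (Inv (centralizer ({t} : Set G) ⧸ F.isoPart t h)) = 15 ∧
      ∀ v ∈ (H.locSylow hα ht htZ : Subgroup (centralizer ({t} : Set G) ⧸ F.isoPart t h)), v ≠ 1 →
        centralizer ({v} : Set (centralizer ({t} : Set G) ⧸ F.isoPart t h)) ≤
          (H.locSylow hα ht htZ : Subgroup (centralizer ({t} : Set G) ⧸ F.isoPart t h)) := by
  set X := (F.W.subgroupOf (centralizer ({t} : Set G))).map (F.locMap t h) with hX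
  have hXodd : Odd (Nat.card X) := by
    refine hW.of_dvd_nat ((card_map_dvd _ _).trans ?_)
    rw [← Subgroup.card_map_of_injective (centralizer ({t} : Set G)).subtype_injective,
      Subgroup.subgroupOf_map_subtype]
    exact card_dvd_of_le inf_le_left
  refine card_eq_sixty_of_glued (H.locSylow hα ht htZ) (H.isKleinFour_range hα ht htZ) (H.kleinType hα ht htZ)
    (fun hn' => hn (H.nice_of_normal hα ht htZ hn')) X hXodd ?_ ?_
  · rintro _ ⟨z, rfl⟩ _ ⟨w, hw, rfl⟩
    refine ⟨Subgroup.inclusion (F.Z_le_A.trans (F.A_le_centralizer ht)) z * w *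
      (Subgroup.inclusion (F.Z_le_A.trans (F.A_le_centralizer ht)) z)⁻¹, ?_, ?_⟩
    · exact (mem_normalizer_iff.1 (F.normA_le_W (le_normalizer (F.Z_le_A z.2))) (w : G)).1 hw
    · rw [map_mul, map_mul, map_inv]; rfl
  · rintro _ ⟨z, rfl⟩ hv1 g hgv
    have hz1 : (z : G) ≠ 1 := fun e => hv1 (by rw [show z = 1 from Subtype.ext e, map_one])
    obtain ⟨k, rfl⟩ := F.locMap_surjective t h g
    obtain ⟨o, ho, a, ha, he⟩ := H.cent_image hα ht htZ z.2 hz1 k hgv
    refine ⟨F.locMap t h o, ⟨o, F.θ_le_W_Z z.2 hz1 ho, rfl⟩, F.locMap t h a, ?_, he⟩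
    rw [H.coe_locSylow hα ht htZ, H.imgZ_range hα ht htZ]
    exact ⟨a, ha, rfl⟩

theorem balance_bad (hn : ¬ Nice F.A t) (hW : Odd (Nat.card F.W)) {e : G} (he : e ∈ F.Z) (he1 : e ≠ 1) :
    θ e ⊓ centralizer ({t} : Set G) ≤ θ t := by
  intro o ho
  set o' : centralizer ({t} : Set G) := ⟨o, ho.2⟩ with ho'
  have hodd : Odd (orderOf o') := by
    rw [ho', Subgroup.orderOf_mk]
    exact CfsgLib.ProdFusion.odd_orderOf_of_mem (odd_card_OC _) ho.1
  have hP : F.locMap t h o' ∈
      (H.locSylow hα ht htZ : Subgroup (centralizer ({t} : Set G) ⧸ F.isoPart t h)) := by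
    refine (H.glued hα ht htZ hn hW).2.2 _
      ⟨⟨e, he⟩, rfl⟩ (H.locMap_Z hα ht htZ (c := ⟨e, F.A_le_centralizer ht (F.Z_le_A he)⟩) he he1) ?_
    refine mem_centralizer_singleton_iff.2 (((Commute.map ?_ (F.locMap t h))).eq)
    exact Subtype.ext (mem_centralizer_singleton_iff.1 (OC_le _ ho.1))
  have h1 : F.locMap t h o' = 1 := eq_one_of_odd_of_pow_two (k := 1) (hodd.of_dvd_nat (orderOf_map_dvd _ _))
    (by rw [pow_one, pow_two]; exact sq_of_klein (H.isKleinFour_range hα ht htZ) hP)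
  exact ⟨o', H.core_of_odd hα ht htZ h1 hodd, rfl⟩

theorem card_isoPart_of_bot (hθ : θ t = ⊥) : Nat.card (F.isoPart t h) = 4 := by
  have hc : Cfsg.pPrimeCore 2 (centralizer ({t} : Set G)) = ⊥ :=
    (Subgroup.map_eq_bot_iff_of_injective _ (centralizer ({t} : Set G)).subtype_injective).1 hθ
  rw [H.isoPart_eq hα ht htZ, hc, bot_sup_eq, ← H.card_A0]
  exact Nat.card_congr (subgroupOfEquivOfLe (inf_le_left.trans (F.A_le_centralizer ht))).toEquiv

/-- the sizes when the core vanishes -/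
theorem counts (hn : ¬ Nice F.A t) (hW : Odd (Nat.card F.W)) (hθ : θ t = ⊥) {z : G} (hz : z ∈ F.Z)
    (hz1 : z ≠ 1) : Nat.card (centralizer ({t} : Set G)) = 240 ∧ Nat.card (Pset z t) = 195 := by
  classical
  haveI := Fintype.ofFinite G
  set Q := centralizer ({t} : Set G) ⧸ F.isoPart t h with hQ
  haveI := Fintype.ofFinite Q
  obtain ⟨h60, h15, hTI⟩ := H.glued hα ht htZ hn hW
  refine ⟨by rw [H.card_locQuot hα ht htZ, h60, H.card_isoPart_of_bot hα ht htZ hθ], ?_⟩
  have hc : Cfsg.pPrimeCore 2 (centralizer ({t} : Set G)) = ⊥ :=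
    (Subgroup.map_eq_bot_iff_of_injective _ (centralizer ({t} : Set G)).subtype_injective).1 hθ
  have hcentral : ∀ a ∈ F.A ⊓ centralizer ({h} : Set G), ∀ g : G, Commute g t → Commute a g := by
    intro a ha g hg
    have h1 := H.zcentral hα ht htZ ha ⟨g, mem_centralizer_singleton_iff.2 hg.eq⟩
    rw [hc, mem_bot] at h1
    have h2 := congrArg (fun y : centralizer ({t} : Set G) => (y : G)) h1
    simp only [Subgroup.coe_mul, Subgroup.coe_inv, Subgroup.coe_one] at h2
    exact mul_inv_eq_iff_eq_mul.1 (mul_inv_eq_one.1 h2)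
  have hker : ∀ c : centralizer ({t} : Set G), F.locMap t h c = 1 → (c : G) ∈ F.A ⊓ centralizer ({h} : Set G) := by
    intro c hc1
    obtain ⟨o, ho, a, ha, rfl⟩ := H.mem_iso hα ht htZ hc1
    rw [hc, mem_bot] at ho
    rw [ho, one_mul]
    exact ha
  let img : Xset z t → Inv Q := fun x => ⟨_, H.orderOf_img hα ht htZ hz hz1 x⟩
  have himg : Function.Injective img := by
    intro x x' e
    have h1 := hker ((⟨(x : G), mem_centralizer_singleton_iff.2 x.2.2.eq⟩ : centralizer ({t} : Set G))⁻¹ *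
      ⟨(x' : G), mem_centralizer_singleton_iff.2 x'.2.2.eq⟩) (by
        rw [map_mul, map_inv, inv_mul_eq_one]; exact congrArg Subtype.val e)
    obtain ⟨c, hct, e₀, he₀, he₀1, hxe⟩ := F.exists_conj_Z hα ht htZ hz hz1 x.2.1 x.2.2
    set a := (x : G)⁻¹ * x' with ha
    have hac : c⁻¹ * a * c = a := by
      rw [mul_assoc, (hcentral a h1 c hct).eq, inv_mul_cancel_left]
    have hea : c⁻¹ * (x' : G) * c = e₀ * a := by
      rw [show c⁻¹ * (x' : G) * c = (c⁻¹ * x * c) * (c⁻¹ * a * c) by rw [ha]; group, hac, hxe]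
      group
    obtain ⟨g, hg⟩ := isConj_iff.1 x'.2.1
    have h2 : e₀ * a ∈ F.Z := F.mem_Z_of_fused (not_not.1 hα) (F.A.mul_mem (F.Z_le_A he₀) h1.1) (g := (c⁻¹ * g)⁻¹)
      (by rw [← hea, ← hg]; simpa [mul_assoc] using hz)
    have h3 : a = 1 := H.A0_Z h1 (by simpa using F.Z.mul_mem (F.Z.inv_mem he₀) h2)
    exact Subtype.ext (inv_mul_eq_one.1 h3)
  have himgs : Function.Surjective img := by
    intro i
    obtain ⟨w, hw, hw1, k, hk⟩ := H.invol_lift hα ht htZ i.2
    obtain ⟨j, hj⟩ := H.move hz hz1 hw hw1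
    refine ⟨⟨(k : G) * w * (k : G)⁻¹, (isConj_iff.2 ⟨h ^ j, hj⟩).trans (isConj_iff.2 ⟨k, rfl⟩),
      (((commute_mk ht (c := k))).mul_left (F.comm_A (F.Z_le_A hw) ht)).mul_left (commute_mk ht (c := k)).inv_left⟩, ?_⟩
    exact Subtype.ext hk
  let eX : Xset z t ≃ Inv Q := Equiv.ofBijective img ⟨himg, himgs⟩
  have hzo : orderOf z = 2 := invol_iff.2 ⟨F.sq_of_mem (F.Z_le_A hz), hz1⟩
  have hto : orderOf t = 2 := invol_iff.2 ⟨F.sq_of_mem ht, fun e => htZ (e ▸ F.Z.one_mem)⟩
  -- the pairs over `t` are the pairs with product of odd order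
  let good := {q : Xset z t × Xset z t // Odd (orderOf ((q.1 : G) * q.2))}
  have hgood : Nat.card (Pset z t) = Nat.card good := by
    refine (Nat.card_congr (Equiv.ofBijective (fun q : good =>
      (⟨((q.1.1 : G), t * (q.1.2 : G)), q.1.1.2.1, ?_, ?_⟩ : Pset z t)) ⟨?_, ?_⟩)).symm
    · obtain ⟨c, hc', e, he, -, hye⟩ := F.exists_conj_Z hα ht htZ hz hz1 q.1.2.2.1 q.1.2.2.2
      refine (H.isConj_shift hα ht he htZ).trans (isConj_iff.2 ⟨c, ?_⟩)
      rw [hye, show c * (t * e) * c⁻¹ = (c * t * c⁻¹) * (c * e * c⁻¹) by group, hc'.eq, mul_inv_cancel_right]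
    · obtain ⟨k, hk⟩ := q.2
      have hct : Commute t ((q.1.1 : G) * q.1.2) := q.1.1.2.2.symm.mul_right q.1.2.2.2.symm
      refine mem_zpowers_iff.2 ⟨((orderOf ((q.1.1 : G) * q.1.2) : ℕ) : ℤ), ?_⟩
      rw [zpow_natCast, ← mul_assoc, q.1.1.2.2.eq, mul_assoc, hct.mul_pow, pow_orderOf_eq_one, mul_one, hk,
        pow_succ, pow_mul, pow_two, F.sq_of_mem ht, one_pow, one_mul]
    · rintro ⟨⟨a, b⟩, ha⟩ ⟨⟨a', b'⟩, ha'⟩ e
      have e' := congrArg Subtype.val e
      exact Subtype.ext (Prod.ext (Subtype.ext (congrArg Prod.fst e' :))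
        (Subtype.ext (mul_left_cancel (congrArg Prod.snd e' :))))
    · rintro ⟨⟨x, y⟩, hx, hy, hmem⟩
      have hxo := invol_of_isConj hzo hx
      have hyo := invol_of_isConj hto hy
      obtain ⟨hxt, hyt⟩ := commute_of_mem_zpowers hxo hyo hto hmem
      set x' : Xset z t := ⟨x, hx, hxt⟩ with hx'
      obtain ⟨c, hct, hcA⟩ := F.exists_conj_A hα ht htZ hyo hyt
      obtain ⟨a₀, ha₀, ζ, hζ, hdec⟩ := H.decomp hcA
      have hnotZ : c * y * c⁻¹ ∉ F.Z := fun hmZ => by
        obtain ⟨g, hg⟩ := isConj_iff.1 hy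
        exact htZ (F.mem_Z_of_fused (not_not.1 hα) ht (g := c * g) (by
          rw [show c * g * t * (c * g)⁻¹ = c * (g * t * g⁻¹) * c⁻¹ by group, hg]; exact hmZ))
      have ha₀1 : a₀ ≠ 1 := fun e => hnotZ (by rw [hdec, e, one_mul]; exact hζ)
      have hcen := hcentral a₀ ha₀ c hct
      set j := c⁻¹ * ζ * c with hj
      have hyj : y = a₀ * j := by
        calc y = c⁻¹ * (c * y * c⁻¹) * c := by group
          _ = c⁻¹ * (a₀ * ζ) * c := by rw [hdec]
          _ = (c⁻¹ * a₀) * ζ * c := by group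
          _ = (a₀ * c⁻¹) * ζ * c := by rw [hcen.inv_right.eq]
          _ = a₀ * j := by rw [hj]; group
      have hxa : Commute a₀ x := hcentral a₀ ha₀ x hxt
      have hjt : Commute j t := (hct.inv_left.mul_left (F.comm_A (F.Z_le_A hζ) ht)).mul_left hct
      by_cases hζ1 : ζ = 1
      · exfalso
        have hy' : y = a₀ := by rw [hyj, hj, hζ1, mul_one, inv_mul_cancel, mul_one]
        have hinv : orderOf (x * y) = 2 := by
          refine invol_iff.2 ⟨?_, fun e => ?_⟩
          · rw [hy', show x * a₀ * (x * a₀) = x * (a₀ * x) * a₀ by group, hxa.eq,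
              show x * (x * a₀) * a₀ = (x * x) * (a₀ * a₀) by group, invol_mul_self hxo, F.sq_of_mem ha₀.1, one_mul]
          · have h1 : x = y := by rw [eq_inv_of_mul_eq_one_left e, invol_inv hyo]
            obtain ⟨g, hg⟩ := isConj_iff.1 (hy.trans (h1 ▸ hx.symm))
            exact htZ (F.mem_Z_of_fused (not_not.1 hα) ht (g := g) (by rw [hg]; exact hz))
        have he' : t = x * y := invol_zpowers_unique hto hinv hmem (mem_zpowers _)
        have hxA : x ∈ F.A := by
          have h1 : x = t * y⁻¹ := by rw [he', mul_inv_cancel_right]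
          rw [h1, hy']; exact F.A.mul_mem ht (F.A.inv_mem ha₀.1)
        obtain ⟨g, hg⟩ := isConj_iff.1 hx
        simp only at hg
        have hxZ : x ∈ F.Z := F.mem_Z_of_fused (not_not.1 hα) hxA (g := g⁻¹) (by rw [← hg]; simpa [mul_assoc] using hz)
        refine invol_ne_one hxo (H.A0_Z ?_ hxZ)
        rw [show x = t * y⁻¹ by rw [he', mul_inv_cancel_right], hy']
        exact (F.A ⊓ centralizer ({h} : Set G)).mul_mem (H.self_A0 ht) ((F.A ⊓ centralizer ({h} : Set G)).inv_mem ha₀)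
      have hjz : IsConj z j := by
        obtain ⟨i, hi⟩ := H.move hz hz1 hζ hζ1
        exact (isConj_iff.2 ⟨h ^ i, hi⟩).trans (isConj_iff.2 ⟨c⁻¹, by rw [hj]; group⟩)
      set j' : Xset z t := ⟨j, hjz, hjt⟩ with hj'
      have hxy : x * y = a₀ * (x * j) := by rw [hyj, ← mul_assoc, ← hxa.eq, mul_assoc]
      have hcj : Commute a₀ (x * j) := hxa.mul_right (hcentral a₀ ha₀ j hjt)
      by_cases hodd : Odd (orderOf (x * j))
      · have hta : t = a₀ := by
          refine invol_zpowers_unique hto (invol_iff.2 ⟨F.sq_of_mem ha₀.1, ha₀1⟩) hmem ?_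
          obtain ⟨k, hk⟩ := hodd
          refine mem_zpowers_iff.2 ⟨((orderOf (x * j) : ℕ) : ℤ), ?_⟩
          rw [zpow_natCast, hxy, hcj.mul_pow, pow_orderOf_eq_one, mul_one, hk, pow_succ, pow_mul, pow_two,
            F.sq_of_mem ha₀.1, one_pow, one_mul]
        exact ⟨⟨(x', j'), hodd⟩, Subtype.ext (Prod.ext rfl (by show t * j = y; rw [hyj, hta]))⟩
      exfalso
      -- a product of even order in the quotient has order two
      set cx : centralizer ({t} : Set G) := ⟨x, mem_centralizer_singleton_iff.2 hxt.eq⟩ with hcx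
      set cj : centralizer ({t} : Set G) := ⟨j, mem_centralizer_singleton_iff.2 hjt.eq⟩ with hcj'
      have hneq : F.locMap t h cx ≠ F.locMap t h cj := fun e => hodd (by
        have h1 : x' = j' := himg (Subtype.ext e)
        rw [show x = j from congrArg Subtype.val h1, invol_mul_self (invol_of_isConj hzo hjz), orderOf_one]
        exact odd_one)
      have hev : ¬ Odd (orderOf (F.locMap t h cx * F.locMap t h cj)) := fun h0 =>
        hodd (H.odd_lift hα ht htZ hz hz1 (x := cx) (x' := cj) hx hjz h0)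
      have ho1 : orderOf (F.locMap t h cx) = 2 := (img x').2
      have ho2 : orderOf (F.locMap t h cj) = 2 := (img j').2
      rw [Nat.not_odd_iff_even] at hev
      set w := (F.locMap t h cx * F.locMap t h cj) ^ (orderOf (F.locMap t h cx * F.locMap t h cj) / 2) with hw
      have hwo : orderOf w = 2 := orderOf_pow_half hev
      have hw1 := commute_pow_half (invol_conj_mul ho1 ho2) hev
      have hw2 := commute_pow_half (invol_conj_mul' ho1 ho2) hev
      obtain ⟨u, hu, hu1, k, hku⟩ := H.invol_lift hα ht htZ hwo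
      set v := F.locMap t h ⟨u, F.A_le_centralizer ht (F.Z_le_A hu)⟩ with hv
      have hwv : w = F.locMap t h k * v * (F.locMap t h k)⁻¹ := by
        rw [hv, ← hku, map_mul, map_mul, map_inv]
      have hcom : ∀ y, Commute w y → (F.locMap t h k)⁻¹ * y * F.locMap t h k ∈
          (H.locSylow hα ht htZ : Subgroup Q) := fun y hy' => by
        refine hTI v ⟨⟨u, hu⟩, rfl⟩ (H.locMap_Z hα ht htZ (c := ⟨u, F.A_le_centralizer ht (F.Z_le_A hu)⟩) hu hu1)
          (mem_centralizer_singleton_iff.2 ?_)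
        calc (F.locMap t h k)⁻¹ * y * F.locMap t h k * v = (F.locMap t h k)⁻¹ * (y * w) * F.locMap t h k := by
              rw [hwv]; group
          _ = (F.locMap t h k)⁻¹ * (w * y) * F.locMap t h k := by rw [hy'.eq]
          _ = v * ((F.locMap t h k)⁻¹ * y * F.locMap t h k) := by rw [hwv]; group
      have hsq : (F.locMap t h cx * F.locMap t h cj) * (F.locMap t h cx * F.locMap t h cj) = 1 := by
        have h1 := sq_of_klein (H.isKleinFour_range hα ht htZ) (mul_mem (hcom _ hw1) (hcom _ hw2))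
        rw [show (F.locMap t h k)⁻¹ * F.locMap t h cx * F.locMap t h k * ((F.locMap t h k)⁻¹ * F.locMap t h cj *
          F.locMap t h k) = (F.locMap t h k)⁻¹ * (F.locMap t h cx * F.locMap t h cj) * F.locMap t h k by group,
          show ∀ a b : Q, a⁻¹ * b * a * (a⁻¹ * b * a) = a⁻¹ * (b * b) * a from fun a b => by group] at h1
        refine (conj_eq_one_iff (a := (F.locMap t h k)⁻¹)).1 ?_
        rw [inv_inv]
        exact h1
      have hcore := H.prod_core hα ht htZ hz hz1 (x := cx) (x' := cj) hx hjz (k := 2) (by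
        rw [pow_two, map_mul, map_mul]; exact hsq)
      rw [hc, mem_bot] at hcore
      have hxj2 : (x * j) * (x * j) = 1 := by
        have h1 := congrArg (fun y : centralizer ({t} : Set G) => (y : G)) hcore
        simpa [pow_two, hcx, hcj'] using h1
      have hxy2 : orderOf (x * y) = 2 := invol_iff.2 ⟨by
        rw [hxy, show a₀ * (x * j) * (a₀ * (x * j)) = a₀ * ((x * j) * a₀) * (x * j) by group, ← hcj.eq,
          show a₀ * (a₀ * (x * j)) * (x * j) = (a₀ * a₀) * ((x * j) * (x * j)) by group, hxj2,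
          F.sq_of_mem ha₀.1, one_mul], fun e => by
        rw [e] at hmem
        exact invol_ne_one hto (by simpa using hmem)⟩
      have he' : t = a₀ * (x * j) := hxy ▸ invol_zpowers_unique hto hxy2 hmem (mem_zpowers _)
      have h4 : F.locMap t h cx * F.locMap t h cj = 1 := by
        have h5 : cx * cj = ⟨a₀⁻¹ * t, F.A_le_centralizer ht (F.A.mul_mem (F.A.inv_mem ha₀.1) ht)⟩ :=
          Subtype.ext (by show x * j = a₀⁻¹ * t; rw [he', inv_mul_cancel_left])
        rw [← map_mul, h5]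
        exact H.locMap_A0 hα ht htZ (a := ⟨a₀⁻¹ * t, _⟩)
          ((F.A ⊓ centralizer ({h} : Set G)).mul_mem ((F.A ⊓ centralizer ({h} : Set G)).inv_mem ha₀) (H.self_A0 ht))
      exact hneq (by rw [eq_inv_of_mul_eq_one_left h4, invol_inv ho2])
  rw [hgood]
  have hgood2 : Nat.card good = Nat.card (OddPairs Q) := by
    refine Nat.card_congr ((Equiv.prodCongr eX eX).subtypeEquiv fun q => ?_)
    constructor
    · intro ho
      show Odd (orderOf (F.locMap t h _ * F.locMap t h _))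
      rw [← map_mul]
      exact ho.of_dvd_nat ((orderOf_map_dvd _ _).trans (by rw [← Subgroup.orderOf_coe]; exact dvd_rfl))
    · intro ho
      exact H.odd_lift hα ht htZ hz hz1
        (x := ⟨(q.1 : G), mem_centralizer_singleton_iff.2 q.1.2.2.eq⟩)
        (x' := ⟨(q.2 : G), mem_centralizer_singleton_iff.2 q.2.2.2.eq⟩) q.1.2.1 q.2.2.1 ho
  rw [hgood2]
  exact card_oddPairs_of_TI (H.locSylow hα ht htZ) (H.isKleinFour_range hα ht htZ) h15 hTI

end Fixer

end Frame

end CfsgLib.Invol.L34Type
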