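import Cfsg.Agent.Lib.Invol.L34Type.BadSide
import Cfsg.Agent.Lib.Invol.L34Type.Pairs

/-!
# A bad side: the centraliser of an outer element modulo its isolated part
-/

set_option autoImplicit false
set_option linter.unusedSectionVars false
set_option linter.style.haveILetI false

namespace CfsgLib.Invol.L34Type

open Subgroup
open CfsgLib.Invol
open CfsgLib.Invol.HeisFour (V fm H4)
open CfsgLib.ProdFusion (OC OC_le le_OC odd_card_OC le_normalizer_OC_self)
open CfsgLib.Invol.EightTypeThree (Nice decomp_in)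

universe u

variable {G : Type u} [Group G] [Finite G]

instance normal_oddCore' (H : Subgroup G) : (Cfsg.pPrimeCore 2 H).Normal := by
  haveI := CfsgLib.Coprime.pPrimeCore_characteristic (G := H) 2
  infer_instance

theorem odd_pPrimeCore (H : Subgroup G) : Odd (Nat.card (Cfsg.pPrimeCore 2 H)) := by
  have h := odd_card_OC H
  rwa [OC, card_map_of_injective H.subtype_injective] at h

namespace Frame

variable (F : Frame G)

/-- the isolated part of `C(t)`: its core and the elements of `A` fixed by `h` -/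
def isoPart (t h : G) : Subgroup (centralizer ({t} : Set G)) :=
  normalClosure ((Cfsg.pPrimeCore 2 (centralizer ({t} : Set G)) ⊔
    (F.A ⊓ centralizer ({h} : Set G)).subgroupOf (centralizer ({t} : Set G)) :
      Subgroup (centralizer ({t} : Set G))) : Set (centralizer ({t} : Set G)))

instance isoPart_normal (t h : G) : (F.isoPart t h).Normal := normalClosure_normal

/-- the quotient map -/
def locMap (t h : G) : centralizer ({t} : Set G) →* centralizer ({t} : Set G) ⧸ F.isoPart t h :=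
  QuotientGroup.mk' _

theorem locMap_surjective (t h : G) : Function.Surjective (F.locMap t h) := QuotientGroup.mk'_surjective _

variable {F}

namespace Fixer

variable {t h : G} (H : F.Fixer t h) (hα : ¬ F.Alpha) (ht : t ∈ F.A) (htZ : t ∉ F.Z)

include ht in
theorem A_le : F.A ≤ centralizer ({t} : Set G) := F.A_le_centralizer ht

include hα ht htZ in
/-- the Sylow subgroup of `C(t)` -/
theorem idx : ¬ 2 ∣ (F.A.subgroupOf (centralizer ({t} : Set G))).index :=
  F.sylow_of_unfused ht (F.unfused_of_not_alpha hα ht htZ)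

include ht in
theorem isPGroup_A : IsPGroup 2 (F.A.subgroupOf (centralizer ({t} : Set G))) :=
  (F.T.2.to_le F.A_le).of_equiv (subgroupOfEquivOfLe (F.A_le_centralizer ht)).symm

include hα ht htZ in
/-- fusion of elements of `A` inside `C(t)` -/
theorem control {g x : G} (hg : Commute g t) (hx : x ∈ F.A) (hy : g * x * g⁻¹ ∈ F.A) :
    ∃ n ∈ normalizer (F.A : Set G), Commute n t ∧ n * x * n⁻¹ = g * x * g⁻¹ := by
  haveI : Fact (Nat.Prime 2) := ⟨Nat.prime_two⟩
  set C := centralizer ({t} : Set G) with hC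
  let E : Sylow 2 C := (isPGroup_A (F := F) ht).toSylow (idx hα ht htZ)
  have hE : IsMulCommutative (E : Subgroup C) := ⟨⟨fun a b => Subtype.ext (Subtype.ext (F.comm_A a.2 b.2))⟩⟩
  obtain ⟨n, hn, he⟩ := CfsgLib.Fusion.abelian_sylow_control E hE (x := (⟨x, F.A_le_centralizer ht hx⟩ : C)) hx
    ⟨g, mem_centralizer_singleton_iff.2 hg.eq⟩ hy
  exact ⟨n, CfsgLib.ProdFusion.mem_of_forall_conj_mem fun a ha =>
    (mem_normalizer_iff.1 hn ⟨a, F.A_le_centralizer ht ha⟩).1 ha, mem_centralizer_singleton_iff.1 n.2,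
    congrArg Subtype.val he⟩

include H hα ht htZ

theorem isolated {g a : G} (hg : Commute g t) (ha : a ∈ F.A ⊓ centralizer ({h} : Set G))
    (hga : g * a * g⁻¹ ∈ F.A) : g * a * g⁻¹ = a := by
  obtain ⟨n, hn, hnt, he⟩ := control hα ht htZ hg ha.1 hga
  rw [← he]
  exact (H.norm_fix hα ht htZ hn hnt).1 a ha

/-- the fixed part is central modulo the core -/
theorem zcentral {a : G} (ha : a ∈ F.A ⊓ centralizer ({h} : Set G)) (g : centralizer ({t} : Set G)) :
    (⟨a, F.A_le_centralizer ht ha.1⟩ : centralizer ({t} : Set G)) * g * (⟨a, F.A_le_centralizer ht ha.1⟩)⁻¹ * g⁻¹ ∈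
      Cfsg.pPrimeCore 2 (centralizer ({t} : Set G)) := by
  haveI : Fact (Nat.Prime 2) := ⟨Nat.prime_two⟩
  by_cases ha1 : a = 1
  · rw [show (⟨a, F.A_le_centralizer ht ha.1⟩ : centralizer ({t} : Set G)) = 1 from Subtype.ext ha1]
    simp
  refine zstar_of_weakly_closed (z := (⟨a, F.A_le_centralizer ht ha.1⟩ : centralizer ({t} : Set G))) ((isPGroup_A (F := F) ht).toSylow (idx hα ht htZ))
    (by rw [Subgroup.orderOf_mk]; exact invol_iff.2 ⟨F.sq_of_mem ha.1, ha1⟩) (fun k hk => Subtype.ext ?_) g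
  exact H.isolated hα ht htZ (mem_centralizer_singleton_iff.1 k.2) ha hk

theorem isoPart_eq :
    F.isoPart t h = Cfsg.pPrimeCore 2 (centralizer ({t} : Set G)) ⊔
      (F.A ⊓ centralizer ({h} : Set G)).subgroupOf (centralizer ({t} : Set G)) := by
  set C := centralizer ({t} : Set G) with hC
  haveI : (Cfsg.pPrimeCore 2 C ⊔ (F.A ⊓ centralizer ({h} : Set G)).subgroupOf C).Normal := by
    refine ⟨fun x hx g => ?_⟩
    rw [← SetLike.mem_coe, normal_mul, Set.mem_mul] at hx
    obtain ⟨o, ho, a, ha, rfl⟩ := hx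
    rw [show g * (o * a) * g⁻¹ = g * o * g⁻¹ * ((g * a * g⁻¹ * a⁻¹) * a) by group]
    refine mul_mem (mem_sup_left ((normal_oddCore' C).conj_mem o ho g)) (mul_mem (mem_sup_left ?_) (mem_sup_right ha))
    have h1 := inv_mem (H.zcentral hα ht htZ (a := (a : G)) ha g)
    simpa [mul_assoc] using h1
  exact normalClosure_eq_self _

theorem mem_iso {c : centralizer ({t} : Set G)} (hc : F.locMap t h c = 1) :
    ∃ o : centralizer ({t} : Set G), o ∈ Cfsg.pPrimeCore 2 (centralizer ({t} : Set G)) ∧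
      ∃ a : centralizer ({t} : Set G), (a : G) ∈ F.A ⊓ centralizer ({h} : Set G) ∧ c = o * a := by
  have h1 : c ∈ F.isoPart t h := (QuotientGroup.eq_one_iff c).1 hc
  rw [H.isoPart_eq hα ht htZ, ← SetLike.mem_coe, normal_mul, Set.mem_mul] at h1
  obtain ⟨o, ho, a, ha, e⟩ := h1
  exact ⟨o, ho, a, ha, e.symm⟩

theorem locMap_core {o : centralizer ({t} : Set G)}
    (ho : o ∈ Cfsg.pPrimeCore 2 (centralizer ({t} : Set G))) : F.locMap t h o = 1 :=
  (QuotientGroup.eq_one_iff o).2 (subset_normalClosure (mem_sup_left ho))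

theorem locMap_A0 {a : centralizer ({t} : Set G)} (ha : (a : G) ∈ F.A ⊓ centralizer ({h} : Set G)) :
    F.locMap t h a = 1 :=
  (QuotientGroup.eq_one_iff a).2 (subset_normalClosure (mem_sup_right (mem_subgroupOf.2 ha)))

theorem ker_A {c : centralizer ({t} : Set G)} (hc : F.locMap t h c = 1) (hcA : (c : G) ∈ F.A) :
    (c : G) ∈ F.A ⊓ centralizer ({h} : Set G) := by
  obtain ⟨o, ho, a, ha, rfl⟩ := H.mem_iso hα ht htZ hc
  have hoA : (o : G) ∈ F.A := by simpa using F.A.mul_mem hcA (F.A.inv_mem ha.1)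
  have ho1 : o = 1 := CfsgLib.ProdFusion.eq_one_of_sq (odd_pPrimeCore _) ho (Subtype.ext (F.sq_of_mem hoA))
  rw [ho1, one_mul]
  exact ha

/-- central involutions stay nontrivial -/
theorem locMap_Z {c : centralizer ({t} : Set G)} (hcZ : (c : G) ∈ F.Z) (hc1 : (c : G) ≠ 1) :
    F.locMap t h c ≠ 1 := fun e => hc1 (H.A0_Z (H.ker_A hα ht htZ e (F.Z_le_A hcZ)) hcZ)

omit H hα htZ in
/-- the image of `Z` -/
def imgZ (t h : G) (ht : t ∈ F.A) : F.Z →* centralizer ({t} : Set G) ⧸ F.isoPart t h :=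
  (F.locMap t h).comp (Subgroup.inclusion (F.Z_le_A.trans (F.A_le_centralizer ht)))

theorem imgZ_injective : Function.Injective (imgZ t h ht) :=
  (injective_iff_map_eq_one _).2 fun z hz => by_contra fun hz1 =>
    H.locMap_Z hα ht htZ (c := Subgroup.inclusion (F.Z_le_A.trans (F.A_le_centralizer ht)) z) z.2
      (fun e => hz1 (Subtype.ext e)) hz

theorem imgZ_range :
    (imgZ t h ht).range = (F.A.subgroupOf (centralizer ({t} : Set G))).map (F.locMap t h) := by
  ext x
  constructor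
  · rintro ⟨z, rfl⟩
    exact ⟨_, F.Z_le_A z.2, rfl⟩
  · rintro ⟨a, ha, rfl⟩
    obtain ⟨a₀, ha₀, ζ, hζ, e⟩ := H.decomp ha
    refine ⟨⟨ζ, hζ⟩, ?_⟩
    rw [show a = (⟨a₀, F.A_le_centralizer ht ha₀.1⟩ : centralizer ({t} : Set G)) *
      ⟨ζ, F.A_le_centralizer ht (F.Z_le_A hζ)⟩ from Subtype.ext e, map_mul,
      H.locMap_A0 hα ht htZ (a := ⟨a₀, F.A_le_centralizer ht ha₀.1⟩) ha₀, one_mul]
    rfl

theorem isKleinFour_range : IsKleinFour (imgZ t h ht).range := by
  have hc : Nat.card (imgZ t h ht).range = 4 := by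
    rw [← Nat.card_congr (MonoidHom.ofInjective (H.imgZ_injective hα ht htZ)).toEquiv, F.card_Z]
  haveI : Nontrivial (imgZ t h ht).range := Finite.one_lt_card_iff_nontrivial.1 (by omega)
  refine ⟨hc, (Monoid.exponent_eq_prime_iff Nat.prime_two).2 fun g hg => orderOf_eq_prime ?_ hg⟩
  obtain ⟨z, hz⟩ := g.2
  refine Subtype.ext ?_
  show (g : centralizer ({t} : Set G) ⧸ F.isoPart t h) ^ 2 = 1
  rw [← hz, ← map_pow, show z ^ 2 = 1 from Subtype.ext (F.elemA.2 _ (F.Z_le_A z.2)), map_one]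

theorem idx_range : ¬ 2 ∣ (imgZ t h ht).range.index := by
  rw [H.imgZ_range hα ht htZ]
  exact fun h' => idx hα ht htZ (h'.trans (index_map_dvd _ (F.locMap_surjective t h)))

theorem isPGroup_range : IsPGroup 2 (imgZ t h ht).range := by
  rw [H.imgZ_range hα ht htZ]
  exact (isPGroup_A (F := F) ht).map _

/-- the Sylow subgroup of the quotient -/
noncomputable def locSylow : Sylow 2 (centralizer ({t} : Set G) ⧸ F.isoPart t h) :=
  haveI : Fact (Nat.Prime 2) := ⟨Nat.prime_two⟩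
  (H.isPGroup_range hα ht htZ).toSylow (H.idx_range hα ht htZ)

theorem coe_locSylow : (H.locSylow hα ht htZ : Subgroup (centralizer ({t} : Set G) ⧸ F.isoPart t h)) =
    (imgZ t h ht).range := rfl

/-- every involution of the quotient comes from a central involution -/
theorem invol_lift {x : centralizer ({t} : Set G) ⧸ F.isoPart t h} (hx : orderOf x = 2) :
    ∃ z, ∃ hz : z ∈ F.Z, z ≠ 1 ∧ ∃ k : centralizer ({t} : Set G),
      F.locMap t h (k * ⟨z, F.A_le_centralizer ht (F.Z_le_A hz)⟩ * k⁻¹) = x := by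
  haveI : Fact (Nat.Prime 2) := ⟨Nat.prime_two⟩
  obtain ⟨g, hg⟩ := exists_conj_le_sylow (Q := zpowers x)
    (IsPGroup.of_card (n := 1) (by rw [Nat.card_zpowers, hx, pow_one])) (H.locSylow hα ht htZ)
  obtain ⟨z, hz⟩ := hg x (mem_zpowers x)
  obtain ⟨k, rfl⟩ := F.locMap_surjective t h g
  refine ⟨z, z.2, fun e => ?_, k⁻¹, ?_⟩
  · rw [show z = 1 from Subtype.ext e, map_one] at hz
    exact invol_ne_one hx (conj_eq_one_iff.1 hz.symm)
  · rw [map_mul, map_mul, inv_inv, map_inv,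
      show F.locMap t h ⟨z, F.A_le_centralizer ht (F.Z_le_A z.2)⟩ = imgZ t h ht z from rfl, hz]
    group

theorem orderOf_Z {z : G} (hz : z ∈ F.Z) (hz1 : z ≠ 1) :
    orderOf (F.locMap t h ⟨z, F.A_le_centralizer ht (F.Z_le_A hz)⟩) = 2 :=
  invol_iff.2 ⟨by
    rw [← map_mul, show (⟨z, F.A_le_centralizer ht (F.Z_le_A hz)⟩ : centralizer ({t} : Set G)) *
      ⟨z, F.A_le_centralizer ht (F.Z_le_A hz)⟩ = 1 from Subtype.ext (F.sq_of_mem (F.Z_le_A hz)), map_one],
    H.locMap_Z hα ht htZ hz hz1⟩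

theorem one_class (x y : centralizer ({t} : Set G) ⧸ F.isoPart t h) (hx : orderOf x = 2) (hy : orderOf y = 2) :
    IsConj x y := by
  obtain ⟨z, hz, hz1, k, rfl⟩ := H.invol_lift hα ht htZ hx
  obtain ⟨w, hw, hw1, l, rfl⟩ := H.invol_lift hα ht htZ hy
  obtain ⟨j, hj⟩ := H.move hz hz1 hw hw1
  set hj' : centralizer ({t} : Set G) := ⟨h ^ j, mem_centralizer_singleton_iff.2 (H.pow_comm j).eq⟩
  refine isConj_iff.2 ⟨F.locMap t h (l * hj' * k⁻¹), ?_⟩
  rw [← map_inv, ← map_mul, ← map_mul]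
  refine congrArg _ (Subtype.ext ?_)
  show (l : G) * h ^ j * (k : G)⁻¹ * ((k : G) * z * (k : G)⁻¹) * ((l : G) * h ^ j * (k : G)⁻¹)⁻¹ =
    (l : G) * w * (l : G)⁻¹
  rw [← hj]
  group

theorem loc_core : Cfsg.oddCore (centralizer ({t} : Set G) ⧸ F.isoPart t h) = ⊥ := by
  haveI : Fact (Nat.Prime 2) := ⟨Nat.prime_two⟩
  set C := centralizer ({t} : Set G) with hC
  set A0 := F.A ⊓ centralizer ({h} : Set G) with hA0
  set O := Cfsg.oddCore (C ⧸ F.isoPart t h) with hO
  have hOodd : Odd (Nat.card O) :=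
    Nat.coprime_two_right.1 (CfsgLib.Coprime.pPrimeCore_coprime Nat.prime_two)
  haveI : O.Normal := by
    haveI := CfsgLib.Coprime.pPrimeCore_characteristic (G := C ⧸ F.isoPart t h) 2
    infer_instance
  set D' := O.comap (F.locMap t h) with hD'
  set D := D'.map C.subtype with hD
  have hA0D : A0 ≤ D := fun a ha => ⟨⟨a, F.A_le_centralizer ht ha.1⟩, by
    rw [SetLike.mem_coe, hD', mem_comap, H.locMap_A0 hα ht htZ (a := ⟨a, F.A_le_centralizer ht ha.1⟩) ha]
    exact one_mem _, rfl⟩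
  have hDC : D ≤ C := map_subtype_le _
  have hidx : ¬ 2 ∣ (A0.subgroupOf D).index := by
    intro h2
    obtain ⟨k, hk, hke⟩ : ∃ k : ℕ, Odd k ∧ Nat.card D = 4 * k := by
      have hker : Nat.card (F.isoPart t h) = Nat.card (Cfsg.pPrimeCore 2 C) * 4 := by
        rw [← H.card_A0, ← Nat.card_prod]
        refine (Nat.card_congr (Equiv.ofBijective (fun p : Cfsg.pPrimeCore 2 C × A0 =>
          (⟨(p.1 : C) * ⟨(p.2 : G), F.A_le_centralizer ht p.2.2.1⟩,
          mul_mem ((QuotientGroup.eq_one_iff (p.1 : C)).1 (H.locMap_core hα ht htZ p.1.2))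
            ((QuotientGroup.eq_one_iff (⟨(p.2 : G), F.A_le_centralizer ht p.2.2.1⟩ : C)).1 (H.locMap_A0 hα ht htZ
              (a := ⟨(p.2 : G), F.A_le_centralizer ht p.2.2.1⟩) p.2.2))⟩ : F.isoPart t h)) ⟨?_, ?_⟩)).symm
        · rintro ⟨o, a⟩ ⟨o', a'⟩ e
          have e' : (o : C) * ⟨a, F.A_le_centralizer ht a.2.1⟩ = o' * ⟨a', F.A_le_centralizer ht a'.2.1⟩ :=
            congrArg Subtype.val e
          have h2 : (o' : C)⁻¹ * o =
              (⟨a', F.A_le_centralizer ht a'.2.1⟩ : C) * (⟨a, F.A_le_centralizer ht a.2.1⟩ : C)⁻¹ := by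
            rw [inv_mul_eq_iff_eq_mul, ← mul_assoc, ← e', mul_inv_cancel_right]
          have h3 : (o' : C)⁻¹ * o = 1 := CfsgLib.ProdFusion.eq_one_of_sq (odd_pPrimeCore C)
            (mul_mem (inv_mem o'.2) o.2) (by
              rw [h2]; exact Subtype.ext (F.sq_of_mem (F.A.mul_mem a'.2.1 (F.A.inv_mem a.2.1))))
          have ho : (o : C) = o' := (inv_mul_eq_one.1 h3).symm
          refine Prod.ext (Subtype.ext ho) (Subtype.ext ?_)
          rw [ho] at e'
          have h4 := mul_left_cancel e'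
          exact congrArg (fun x : C => (x : G)) h4
        · rintro ⟨c, hc⟩
          obtain ⟨o, ho, a, ha, rfl⟩ := H.mem_iso hα ht htZ ((QuotientGroup.eq_one_iff c).2 hc)
          exact ⟨(⟨o, ho⟩, ⟨a, ha⟩), rfl⟩
      refine ⟨Nat.card O * Nat.card (Cfsg.pPrimeCore 2 C), hOodd.mul (odd_pPrimeCore C), ?_⟩
      rw [hD, card_map_of_injective C.subtype_injective, hD']
      have h3 : Nat.card D' = Nat.card O * Nat.card (F.isoPart t h) := by
        rw [hD']
        have e1 := ((F.isoPart t h).subgroupOf D').card_mul_index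
        have e2 : F.isoPart t h ≤ D' := fun x hx => by
          rw [hD', mem_comap, show F.locMap t h x = 1 from (QuotientGroup.eq_one_iff x).2 hx]
          exact one_mem _
        rw [Nat.card_congr (subgroupOfEquivOfLe e2).toEquiv] at e1
        have e3 : ((F.isoPart t h).subgroupOf D').index = Nat.card O := by
          have hk' : F.isoPart t h = (F.locMap t h).ker := (QuotientGroup.ker_mk' _).symm
          refine (congrArg (fun K : Subgroup C => K.relIndex D') hk').trans ?_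
          show (F.locMap t h).ker.relIndex D' = _
          rw [relIndex_ker, hD', map_comap_eq_self_of_surjective (F.locMap_surjective t h)]
        rw [← e1, e3, mul_comm]
      rw [← hD', h3, hker]
      ring
    have h4 := (A0.subgroupOf D).card_mul_index
    rw [Nat.card_congr (subgroupOfEquivOfLe hA0D).toEquiv, H.card_A0, hke] at h4
    have : (A0.subgroupOf D).index = k := by omega
    rw [this] at h2
    exact Nat.not_even_iff_odd.2 hk (even_iff_two_dvd.2 h2)
  have hcent : ∀ n ∈ D, n ∈ normalizer (A0 : Set G) → n ∈ centralizer (A0 : Set G) := by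
    intro n hn hnA
    refine mem_centralizer_iff.2 fun a ha => (mul_inv_eq_iff_eq_mul.1 ?_).symm
    exact H.isolated hα ht htZ (mem_centralizer_singleton_iff.1 (hDC hn)) ha ((mem_normalizer_iff.1 hnA a).1 ha).1
  have hDn : C ≤ normalizer (D : Set G) := by
    intro c hc
    refine CfsgLib.ProdFusion.mem_of_forall_conj_mem ?_
    rintro _ ⟨d, hd, rfl⟩
    exact ⟨⟨c, hc⟩ * d * ⟨c, hc⟩⁻¹, (inferInstance : (O.comap (F.locMap t h)).Normal).conj_mem d hd _, rfl⟩
  refine (eq_bot_iff_forall _).2 fun x hx => ?_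
  obtain ⟨g, rfl⟩ := F.locMap_surjective t h x
  obtain ⟨a, ha, d, hd, hg⟩ := decomp_in hA0D ((F.T.2.to_le F.A_le).to_le inf_le_left) hidx hcent
    (g := (g : G)) ⟨g, hx, rfl⟩
  have hdθ : d ∈ OC C := CfsgLib.ProdFusion.OC_le_OC hDC (hDn) hd
  obtain ⟨o, ho, hoe⟩ := hdθ
  rw [show g = (⟨a, F.A_le_centralizer ht ha.1⟩ : C) * o from Subtype.ext (by rw [hg, ← hoe]; rfl), map_mul,
    H.locMap_A0 hα ht htZ (a := ⟨a, F.A_le_centralizer ht ha.1⟩) ha, H.locMap_core hα ht htZ ho, one_mul]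

/-- the quotient with a normal Sylow subgroup gives a factorised centraliser -/
theorem nice_of_normal
    (hn : (H.locSylow hα ht htZ : Subgroup (centralizer ({t} : Set G) ⧸ F.isoPart t h)).Normal) :
    Nice F.A t := by
  haveI : Fact (Nat.Prime 2) := ⟨Nat.prime_two⟩
  set C := centralizer ({t} : Set G) with hC
  rw [H.coe_locSylow hα ht htZ, H.imgZ_range hα ht htZ] at hn
  set R' := ((F.A.subgroupOf C).map (F.locMap t h)).comap (F.locMap t h) with hR'
  set R := R'.map C.subtype with hR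
  intro g hg
  have hRC : R ≤ C := map_subtype_le _
  have hAR : F.A ≤ R := fun a ha =>
    ⟨⟨a, F.A_le_centralizer ht ha⟩, le_comap_map _ _ (mem_subgroupOf.2 ha), rfl⟩
  have hconj : CfsgLib.Coprime.conjBy g F.A ≤ R := by
    rintro _ ⟨a, ha, rfl⟩
    refine ⟨⟨g, hg⟩ * ⟨a, F.A_le_centralizer ht ha⟩ * ⟨g, hg⟩⁻¹, ?_, rfl⟩
    exact (hn.comap (F.locMap t h)).conj_mem _ (le_comap_map _ _ (mem_subgroupOf.2 ha)) _
  have hidx : ¬ 2 ∣ (F.A.subgroupOf R).index := by
    intro h2
    refine idx hα ht htZ (h2.trans ?_)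
    show F.A.relIndex R ∣ F.A.relIndex C
    rw [← relIndex_mul_relIndex F.A R C hAR hRC]
    exact dvd_mul_right _ _
  obtain ⟨r, hr⟩ := exists_conj_le_sylow
    ((((F.T.2.to_le F.A_le).map _).of_equiv (subgroupOfEquivOfLe hconj).symm))
    (((F.T.2.to_le F.A_le).of_equiv (subgroupOfEquivOfLe hAR).symm).toSylow hidx)
  have hrg : (r : G) * g ∈ normalizer (F.A : Set G) := CfsgLib.ProdFusion.mem_of_forall_conj_mem fun a ha => by
    rw [show (r : G) * g * a * ((r : G) * g)⁻¹ = r * (g * a * g⁻¹) * (r : G)⁻¹ by group]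
    exact hr ⟨g * a * g⁻¹, hconj ⟨a, ha, rfl⟩⟩ ⟨a, ha, rfl⟩
  obtain ⟨⟨r', hr'C⟩, hr', hre⟩ := r.2
  obtain ⟨a, ha, e⟩ := (mem_comap.1 hr')
  have e' : F.locMap t h (⟨r', hr'C⟩ * a⁻¹) = 1 := by rw [map_mul, map_inv, e, mul_inv_cancel]
  obtain ⟨o, ho, a₀, ha₀, he⟩ := H.mem_iso hα ht htZ e'
  have hdec : (r : G) = (o : G) * ((a₀ : G) * (a : G)) := by
    rw [← hre]
    have e2 := congrArg Subtype.val he
    push_cast at e2
    show r' = _
    rw [← mul_assoc, ← e2, inv_mul_cancel_right]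
  refine ⟨((a₀ : G) * a)⁻¹ * (o : G)⁻¹ * ((a₀ : G) * a), ?_, ((a₀ : G) * a)⁻¹ * ((a₀ : G) * a) *
    ((a₀ : G) * a)⁻¹ * ((o : G) * ((a₀ : G) * a) * g), ?_, by group⟩
  · have hA' : ((a₀ : G) * a)⁻¹ ∈ C := C.inv_mem (C.mul_mem a₀.2 a.2)
    simpa using (mem_normalizer_iff.1 (le_normalizer_OC_self C hA') _).1 ((OC C).inv_mem ⟨o, ho, rfl⟩)
  · rw [inv_mul_cancel, one_mul, ← hdec]
    refine ⟨(normalizer (F.A : Set G)).mul_mem ((normalizer (F.A : Set G)).inv_mem
      (le_normalizer (F.A.mul_mem ha₀.1 ha))) hrg, ?_⟩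
    exact C.mul_mem (C.inv_mem (C.mul_mem a₀.2 a.2)) (C.mul_mem (hRC r.2) hg)

end Fixer

end Frame

end CfsgLib.Invol.L34Type
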