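import Cfsg.Agent.Lib.Invol.L34Type.Control

/-!
# A bad side: the structure of the normaliser of `A` inside the centraliser of an outer element
-/

set_option autoImplicit false
set_option linter.unusedSectionVars false
set_option linter.style.haveILetI false

namespace CfsgLib.Invol.L34Type

open Subgroup
open CfsgLib.Invol
open CfsgLib.Invol.HeisFour (V fm H4)
open CfsgLib.Invol.EightTypeThree (Nice decomp_in)

universe u

variable {G : Type u} [Group G] [Finite G]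

theorem scalar_reach : ∀ s c d : V, s ≠ (1, 0) → s ≠ 0 → c ≠ 0 → d ≠ 0 →
    d = c ∨ d = fm s c ∨ d = fm s (fm s c) := by decide +kernel

theorem solve_fix : ∀ c d x r : V, x + fm r x = c + d → d + fm r x = c + x := by decide +kernel

theorem scalar_solve : ∀ s c : V, s ≠ (1, 0) → ∃ x : V, x + fm s x = c := by decide +kernel

namespace Frame

variable (F : Frame G)

/-- an odd element normalising `T`, fixing `t`, and moving every central involution -/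
structure Fixer (t h : G) : Prop where
  mem : h ∈ normalizer ((F.T : Subgroup G) : Set G)
  odd : Odd (orderOf h)
  comm : Commute h t
  fpf : ∀ z ∈ F.Z, Commute h z → z = 1
  scal : ∃ r : V, r ≠ 0 ∧ r ≠ (1, 0) ∧ (∀ p, ∃ d, h * F.hom p * h⁻¹ = F.hom ⟨p.a, fm r p.b, d⟩) ∧
    ∀ c, h * F.hom ⟨0, 0, c⟩ * h⁻¹ = F.hom ⟨0, 0, fm r c⟩

theorem hom_mul_c : ∀ (a c x : V), (⟨a, 0, c⟩ : H4) * ⟨0, 0, x⟩ = ⟨a, 0, c + x⟩ := by decide +kernel

/-- conjugating by an element of `T` fixes `Z` and the first coordinate -/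
theorem bad_scalar {h : G} (hh : h ∈ normalizer ((F.T : Subgroup G) : Set G)) (ho : Odd (orderOf h))
    (ha : ∀ p, ∃ q, h * F.hom p * h⁻¹ = F.hom q ∧ q.a = p.a) (hz : ∃ z ∈ F.Z, ¬ Commute h z) :
    ∃ r : V, r ≠ 0 ∧ r ≠ (1, 0) ∧ (∀ p, ∃ d, h * F.hom p * h⁻¹ = F.hom ⟨p.a, fm r p.b, d⟩) ∧
      ∀ c, h * F.hom ⟨0, 0, c⟩ * h⁻¹ = F.hom ⟨0, 0, fm r c⟩ := by
  obtain ⟨l, m, hl, hm, hlm, hc, -⟩ := F.scalar hh ho
  have hl1 : l = (1, 0) := by
    obtain ⟨q, hq, hqa⟩ := ha ⟨(1, 0), 0, 0⟩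
    obtain ⟨d, hd⟩ := hlm ⟨(1, 0), 0, 0⟩
    rw [hd] at hq
    have h1 := congrArg H4.a (F.hom_injective hq)
    rw [hqa] at h1
    exact (fm_one_right l).symm.trans h1
  subst hl1
  refine ⟨m, hm, fun hm1 => ?_, fun p => ?_, fun c => ?_⟩
  · obtain ⟨z, ⟨p, hp, rfl⟩, hzc⟩ := hz
    refine hzc (mul_inv_eq_iff_eq_mul.1 ?_)
    have h1 := hc p.c
    rw [hm1, fm_one, fm_one] at h1
    rwa [show p = (⟨0, 0, p.c⟩ : H4) from CfsgLib.Invol.HeisFour.H4.ext' hp.2 hp.1 rfl]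
  · obtain ⟨d, hd⟩ := hlm p
    exact ⟨d, by rw [hd, fm_one]⟩
  · rw [hc, fm_one]

theorem exists_fixer (hbad : F.Bad) {t : G} (ht : t ∈ F.A) (htZ : t ∉ F.Z) : ∃ h, F.Fixer t h := by
  obtain ⟨h, hh, ho, ha, hz⟩ := hbad
  obtain ⟨r, hr0, hr1, hr, hc⟩ := F.bad_scalar hh ho ha hz
  obtain ⟨p, hp, rfl⟩ := ht
  have hp' : p = (⟨p.a, 0, p.c⟩ : H4) := CfsgLib.Invol.HeisFour.H4.ext' rfl hp rfl
  obtain ⟨d, hd⟩ := hr p
  rw [show p.b = 0 from hp, CfsgLib.Invol.HeisFour.fm_zero_right] at hd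
  obtain ⟨x, hx⟩ := scalar_solve r (p.c + d) hr1
  set ζ := F.hom ⟨0, 0, x⟩ with hζ
  have hζZ : ζ ∈ F.Z := F.hom_mem_Z.2 ⟨rfl, rfl⟩
  obtain ⟨y, hy, hye⟩ := F.exists_shift (F.hom_mem_A.2 hp) htZ hζZ
  have hfix : h * (F.hom p * ζ) * h⁻¹ = F.hom p * ζ := by
    rw [show h * (F.hom p * ζ) * h⁻¹ = (h * F.hom p * h⁻¹) * (h * ζ * h⁻¹) by group, hd, hζ, hc, ← map_mul,
      hom_mul_c]
    conv_rhs => rw [hp', ← map_mul, hom_mul_c]
    congr 2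
    exact solve_fix _ _ _ _ hx
  have hyN := le_normalizer (H := (F.T : Subgroup G)) hy
  have hpow : orderOf (y⁻¹ * h * y) = orderOf h := by
    rw [show y⁻¹ * h * y = MulAut.conj y⁻¹ h by simp [mul_assoc]]
    exact MulEquiv.orderOf_eq (MulAut.conj y⁻¹) h
  have hnew : ∀ q, ∃ s, y⁻¹ * h * y * F.hom q * (y⁻¹ * h * y)⁻¹ = F.hom s ∧ s.a = q.a := by
    intro q
    obtain ⟨w, rfl⟩ := F.exists_of_mem hy
    obtain ⟨d, hd⟩ := hr (w * q * w⁻¹)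
    refine ⟨w⁻¹ * ⟨(w * q * w⁻¹).a, fm r (w * q * w⁻¹).b, d⟩ * w, ?_, ?_⟩
    · rw [map_mul, map_mul, map_inv, ← hd, map_mul, map_mul, map_inv]; group
    · simp only [CfsgLib.Invol.HeisFour.inv_def, CfsgLib.Invol.HeisFour.mul_def]
      generalize w.a = u
      generalize q.a = v
      revert u v
      decide
  have hcomm : Commute (y⁻¹ * h * y) (F.hom p) := mul_inv_eq_iff_eq_mul.1 (by
    rw [show y⁻¹ * h * y * F.hom p * (y⁻¹ * h * y)⁻¹ =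
      y⁻¹ * (h * (y * F.hom p * y⁻¹) * h⁻¹) * y by group, hye, hfix, ← hye]; group)
  have hfpf : ∀ z ∈ F.Z, Commute (y⁻¹ * h * y) z → z = 1 := by
    intro z hz hcz
    have hyz : y * z * y⁻¹ = z := by rw [F.Z_central hz hy, mul_inv_cancel_right]
    have h1 : h * z * h⁻¹ = z := by
      have h2 : y⁻¹ * h * y * z * (y⁻¹ * h * y)⁻¹ = z := by rw [hcz.eq, mul_inv_cancel_right]
      calc h * z * h⁻¹ = h * (y * z * y⁻¹) * h⁻¹ := by rw [hyz]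
        _ = y * (y⁻¹ * h * y * z * (y⁻¹ * h * y)⁻¹) * y⁻¹ := by group
        _ = z := by rw [h2, hyz]
    obtain ⟨q, hq, rfl⟩ := hz
    have h2 := hc q.c
    rw [show (⟨0, 0, q.c⟩ : H4) = q from CfsgLib.Invol.HeisFour.H4.ext' hq.2.symm hq.1.symm rfl, h1] at h2
    have h3 : q = (⟨0, 0, fm r q.c⟩ : H4) := F.hom_injective h2
    have hq0 : q.c = 0 := by
      by_contra hne
      exact hr1 (scalar_one r q.c (congrArg H4.c h3).symm hne)
    rw [show q = 1 from CfsgLib.Invol.HeisFour.H4.ext' hq.2 hq.1 hq0, map_one]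
  have hmem : y⁻¹ * h * y ∈ normalizer ((F.T : Subgroup G) : Set G) := mul_mem (mul_mem (inv_mem hyN) hh) hyN
  obtain ⟨z, hz, hz1⟩ := F.exists_Z_ne_one
  exact ⟨y⁻¹ * h * y, hmem, hpow ▸ ho, hcomm, hfpf,
    F.bad_scalar hmem (hpow ▸ ho) hnew ⟨z, hz, fun e => hz1 (hfpf z hz e)⟩⟩

variable {F}

namespace Fixer

variable {t h : G} (H : F.Fixer t h)

include H

theorem pow_comm (j : ℕ) : Commute (h ^ j) t := H.comm.pow_left j

theorem mem_A : h ∈ normalizer (F.A : Set G) := F.N_T_le_A H.mem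

theorem mem_Z : h ∈ normalizer (F.Z : Set G) := F.N_T_le_Z H.mem

/-- the powers move any central involution to any other -/
theorem move {z w : G} (hz : z ∈ F.Z) (hz1 : z ≠ 1) (hw : w ∈ F.Z) (hw1 : w ≠ 1) :
    ∃ j : ℕ, h ^ j * z * (h ^ j)⁻¹ = w := by
  obtain ⟨r, hr0, hr1, -, hc⟩ := H.scal
  obtain ⟨p, hp, rfl⟩ := hz
  obtain ⟨q, hq, rfl⟩ := hw
  have hp' : p = (⟨0, 0, p.c⟩ : H4) := CfsgLib.Invol.HeisFour.H4.ext' hp.2 hp.1 rfl
  have hq' : q = (⟨0, 0, q.c⟩ : H4) := CfsgLib.Invol.HeisFour.H4.ext' hq.2 hq.1 rfl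
  have hpc : p.c ≠ 0 := fun e => hz1 (by
    rw [show p = 1 from CfsgLib.Invol.HeisFour.H4.ext' hp.2 hp.1 e, map_one])
  have hqc : q.c ≠ 0 := fun e => hw1 (by
    rw [show q = 1 from CfsgLib.Invol.HeisFour.H4.ext' hq.2 hq.1 e, map_one])
  rcases scalar_reach r p.c q.c hr1 hr0 hpc hqc with e | e | e
  · exact ⟨0, by rw [hp', hq', e]; simp⟩
  · exact ⟨1, by rw [pow_one, hp', hc, hq', e]⟩
  · refine ⟨2, ?_⟩
    rw [pow_two, show h * h * F.hom p * (h * h)⁻¹ = h * (h * F.hom p * h⁻¹) * h⁻¹ by group, hp', hc, hc, hq', e]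

/-- every element of `A` is a fixed element times a central one -/
theorem decomp {a : G} (ha : a ∈ F.A) : ∃ a₀ ∈ F.A ⊓ centralizer ({h} : Set G), ∃ ζ ∈ F.Z, a = a₀ * ζ := by
  obtain ⟨r, hr0, hr1, hr, hc⟩ := H.scal
  obtain ⟨p, hp, rfl⟩ := ha
  obtain ⟨d, hd⟩ := hr p
  rw [show p.b = 0 from hp, CfsgLib.Invol.HeisFour.fm_zero_right] at hd
  obtain ⟨x, hx⟩ := scalar_solve r (p.c + d) hr1
  have hp' : p = (⟨p.a, 0, p.c⟩ : H4) := CfsgLib.Invol.HeisFour.H4.ext' rfl hp rfl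
  set ζ := F.hom ⟨0, 0, x⟩ with hζ
  have hζZ : ζ ∈ F.Z := F.hom_mem_Z.2 ⟨rfl, rfl⟩
  have hfix : h * (F.hom p * ζ) * h⁻¹ = F.hom p * ζ := by
    rw [show h * (F.hom p * ζ) * h⁻¹ = (h * F.hom p * h⁻¹) * (h * ζ * h⁻¹) by group, hd, hζ, hc, ← map_mul,
      hom_mul_c]
    conv_rhs => rw [hp', ← map_mul, hom_mul_c]
    congr 2
    exact solve_fix _ _ _ _ hx
  refine ⟨F.hom p * ζ, ⟨F.A.mul_mem (F.hom_mem_A.2 hp) (F.Z_le_A hζZ),
    mem_centralizer_singleton_iff.2 (mul_inv_eq_iff_eq_mul.1 hfix).symm⟩, ζ, hζZ, ?_⟩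
  rw [mul_assoc, F.sq_of_mem (F.Z_le_A hζZ), mul_one]

theorem A0_Z {a : G} (ha : a ∈ F.A ⊓ centralizer ({h} : Set G)) (haZ : a ∈ F.Z) : a = 1 :=
  H.fpf a haZ (mem_centralizer_singleton_iff.1 ha.2).symm

theorem self_A0 (ht : t ∈ F.A) : t ∈ F.A ⊓ centralizer ({h} : Set G) :=
  ⟨ht, mem_centralizer_singleton_iff.2 H.comm.symm.eq⟩

theorem card_A0 : Nat.card (F.A ⊓ centralizer ({h} : Set G) : Subgroup G) = 4 := by
  set A0 := F.A ⊓ centralizer ({h} : Set G) with hA0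
  have e : Nat.card (A0 × F.Z) = Nat.card F.A := by
    refine Nat.card_congr (Equiv.ofBijective
      (fun p => (⟨(p.1 : G) * p.2, F.A.mul_mem p.1.2.1 (F.Z_le_A p.2.2)⟩ : F.A)) ⟨?_, fun a => ?_⟩)
    · rintro ⟨a, z⟩ ⟨a', z'⟩ e
      have e' : (a : G) * z = a' * z' := congrArg Subtype.val e
      have h2 : (a' : G)⁻¹ * a = z' * (z : G)⁻¹ := by
        rw [inv_mul_eq_iff_eq_mul, ← mul_assoc, ← e', mul_inv_cancel_right]
      have h3 := H.A0_Z (A0.mul_mem (A0.inv_mem a'.2) a.2) (h2 ▸ F.Z.mul_mem z'.2 (F.Z.inv_mem z.2))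
      have ha : (a : G) = a' := (inv_mul_eq_one.1 h3).symm
      exact Prod.ext (Subtype.ext ha) (Subtype.ext (mul_left_cancel (ha ▸ e')))
    · obtain ⟨a₀, ha₀, ζ, hζ, e⟩ := H.decomp a.2
      exact ⟨(⟨a₀, ha₀⟩, ⟨ζ, hζ⟩), Subtype.ext e.symm⟩
  rw [Nat.card_prod, F.card_Z, F.card_A] at e
  omega

/-- an element of `N(T)` fixing `t` and a central involution centralises `A` -/
theorem cent_of_fix (hα : ¬ F.Alpha) (ht : t ∈ F.A) (htZ : t ∉ F.Z) {n z : G}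
    (hn : n ∈ normalizer ((F.T : Subgroup G) : Set G)) (hnt : Commute n t) (hz : z ∈ F.Z) (hz1 : z ≠ 1)
    (hnz : Commute n z) : n ∈ centralizer (F.A : Set G) := by
  refine mem_of_parts (fun j hp => F.two_elem_cent ht (F.unfused_of_not_alpha hα ht htZ)
    (pow_mem (F.N_T_le_A hn) j) (hnt.pow_left j) hp) fun j ho => ?_
  obtain ⟨l, r, -, -, hlr, hcr, hcent⟩ := F.scalar (pow_mem hn j) ho
  obtain ⟨p, hp, rfl⟩ := ht
  obtain ⟨q, hq, rfl⟩ := hz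
  have hl1 : l = (1, 0) := by
    obtain ⟨d, hd⟩ := hlr p
    rw [(hnt.pow_left j).eq, mul_inv_cancel_right] at hd
    exact scalar_one l p.a (congrArg H4.a (F.hom_injective hd)).symm fun e => htZ (F.hom_mem_Z.2 ⟨hp, e⟩)
  have hr1 : r = (1, 0) := by
    have h1 := hcr q.c
    rw [show (⟨0, 0, q.c⟩ : H4) = q from CfsgLib.Invol.HeisFour.H4.ext' hq.2.symm hq.1.symm rfl,
      (hnz.pow_left j).eq, mul_inv_cancel_right, hl1, fm_one] at h1
    exact scalar_one r q.c (congrArg H4.c (F.hom_injective h1)).symm fun e => hz1 (by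
      rw [show q = 1 from CfsgLib.Invol.HeisFour.H4.ext' hq.2 hq.1 e, map_one])
  exact centralizer_le F.A_le (hcent hl1 hr1)

/-- the normaliser of `A` inside `C(t)` fixes `A₀` and acts on the quotient by `Z` trivially -/
theorem norm_fix (hα : ¬ F.Alpha) (ht : t ∈ F.A) (htZ : t ∉ F.Z) {n : G}
    (hn : n ∈ normalizer (F.A : Set G)) (hnt : Commute n t) :
    (∀ a ∈ F.A ⊓ centralizer ({h} : Set G), n * a * n⁻¹ = a) ∧ ∀ a ∈ F.A, a⁻¹ * (n * a * n⁻¹) ∈ F.Z := by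
  have hnZ := (not_not.1 hα) hn
  obtain ⟨c, hc, m, hm, hnm⟩ := F.normA_decomp hn hnZ
  have hmt : Commute m t := by
    rw [show m = c⁻¹ * n by rw [hnm, inv_mul_cancel_left]]
    exact ((show Commute c t from (mem_centralizer_iff.1 hc t ht).symm).inv_left).mul_left hnt
  obtain ⟨z, hz, hz1⟩ := F.exists_Z_ne_one
  have hmz : m * z * m⁻¹ ∈ F.Z := (mem_normalizer_iff.1 (F.N_T_le_Z hm) z).1 hz
  obtain ⟨j, hj⟩ := H.move hz hz1 hmz (fun e => hz1 (conj_eq_one_iff.1 e))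
  set y := (h ^ j)⁻¹ * m with hy
  have hyA : y ∈ centralizer (F.A : Set G) := H.cent_of_fix hα ht htZ (n := y)
    (mul_mem (inv_mem (pow_mem H.mem j)) hm) ((H.pow_comm j).inv_left.mul_left hmt) hz hz1
    (mul_inv_eq_iff_eq_mul.1 (by
      rw [hy, show (h ^ j)⁻¹ * m * z * ((h ^ j)⁻¹ * m)⁻¹ = (h ^ j)⁻¹ * (m * z * m⁻¹) * h ^ j by group, ← hj]
      group))
  have hfix : ∀ a ∈ F.A ⊓ centralizer ({h} : Set G), n * a * n⁻¹ = a := by
    intro a ha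
    have h1 : y * a * y⁻¹ = a := by rw [← mem_centralizer_iff.1 hyA a ha.1, mul_inv_cancel_right]
    have h2 : m * a * m⁻¹ = a := by
      rw [show m * a * m⁻¹ = h ^ j * (y * a * y⁻¹) * (h ^ j)⁻¹ by rw [hy]; group, h1,
        (((show Commute h a from (mem_centralizer_singleton_iff.1 ha.2).symm)).pow_left j).eq, mul_inv_cancel_right]
    rw [hnm, show c * m * a * (c * m)⁻¹ = c * (m * a * m⁻¹) * c⁻¹ by group, h2,
      ← mem_centralizer_iff.1 hc a ha.1, mul_inv_cancel_right]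
  refine ⟨hfix, fun a ha => ?_⟩
  obtain ⟨a₀, ha₀, ζ, hζ, rfl⟩ := H.decomp ha
  rw [show n * (a₀ * ζ) * n⁻¹ = (n * a₀ * n⁻¹) * (n * ζ * n⁻¹) by group, hfix a₀ ha₀,
    show (a₀ * ζ)⁻¹ * (a₀ * (n * ζ * n⁻¹)) = ζ⁻¹ * (n * ζ * n⁻¹) by group]
  exact F.Z.mul_mem (F.Z.inv_mem hζ) ((mem_normalizer_iff.1 hnZ ζ).1 hζ)

end Fixer

end Frame

end CfsgLib.Invol.L34Type
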