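import Cfsg.Agent.Lib.Invol.L34Type.Scalar
import Cfsg.Agent.Lib.Invol.ZStar
import Cfsg.Agent.Lib.ProdFusion.OddQuot

/-!
# Centralisers of the central involutions are factorised
-/

set_option autoImplicit false
set_option linter.unusedSectionVars false
set_option linter.style.haveILetI false

namespace CfsgLib.Invol.L34Type

open Subgroup
open CfsgLib.Invol
open CfsgLib.Invol.HeisFour (V fm H4)
open CfsgLib.Coprime (conjBy mem_conjBy conjBy_eq_self_iff)
open CfsgLib.ProdFusion (OC OC_le OC_le_OC le_OC odd_card_OC le_normalizer_OC le_normalizer_OC_self)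

universe u

variable {G : Type u} [Group G] [Finite G]

theorem scalar_one : ∀ l a : V, fm l a = a → a ≠ 0 → l = (1, 0) := by decide +kernel

theorem fm_comm : ∀ a b : V, fm a b = fm b a := by decide +kernel

theorem fm_one_right : ∀ a : V, fm a (1, 0) = a := by decide +kernel

theorem scalar_fix {l m a b : V} (h : fm l m = (1, 0)) (ha : fm l a = a) (hb : fm m b = b)
    (hne : a ≠ 0 ∨ b ≠ 0) : l = (1, 0) ∧ m = (1, 0) := by
  rcases hne with h1 | h1
  · have hl := scalar_one l a ha h1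
    rw [hl, fm_one] at h
    exact ⟨hl, h⟩
  · have hm := scalar_one m b hb h1
    rw [hm, fm_one_right] at h
    exact ⟨h, hm⟩

namespace Frame

variable (F : Frame G)

theorem card_ge_three {K : Subgroup G} {x y : G} (hx : x ∈ K) (hy : y ∈ K) (hx1 : x ≠ 1) (hy1 : y ≠ 1)
    (hxy : x ≠ y) : 3 ≤ Nat.card K := by
  classical
  haveI := Fintype.ofFinite K
  rw [Nat.card_eq_fintype_card]
  refine le_trans (le_of_eq ?_) (Finset.card_le_univ ({1, ⟨x, hx⟩, ⟨y, hy⟩} : Finset K))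
  rw [Finset.card_insert_of_notMem, Finset.card_pair]
  · exact fun e => hxy (congrArg Subtype.val e)
  · simp only [Finset.mem_insert, Finset.mem_singleton, Subtype.ext_iff, OneMemClass.coe_one, not_or]
    exact ⟨hx1.symm, hy1.symm⟩

/-- `Z` is generated by two of its involutions -/
theorem Z_le_of_two {K : Subgroup G} {x y : G} (hx : x ∈ F.Z) (hy : y ∈ F.Z) (hxK : x ∈ K) (hyK : y ∈ K)
    (hx1 : x ≠ 1) (hy1 : y ≠ 1) (hxy : x ≠ y) : F.Z ≤ K := by
  have h3 := card_ge_three (K := F.Z ⊓ K) ⟨hx, hxK⟩ ⟨hy, hyK⟩ hx1 hy1 hxy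
  have hd : Nat.card (F.Z ⊓ K : Subgroup G) ∣ 4 := F.card_Z ▸ card_dvd_of_le inf_le_left
  have h4 : Nat.card (F.Z ⊓ K : Subgroup G) = 4 := by
    have := Nat.le_of_dvd (by norm_num) hd
    rcases (show Nat.card (F.Z ⊓ K : Subgroup G) = 3 ∨ Nat.card (F.Z ⊓ K : Subgroup G) = 4 by omega) with h | h
    · rw [h] at hd; norm_num at hd
    · exact h
  exact inf_eq_left.1 (eq_of_le_of_card_ge inf_le_left (by rw [h4, F.card_Z]))

/-- inside `C(z)` the normaliser of `Z` centralises it -/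
theorem centralizes_Z {z g : G} (hz : z ∈ F.Z) (hz1 : z ≠ 1) (hgz : Commute g z)
    (hgZ : g ∈ normalizer (F.Z : Set G)) : g ∈ centralizer (F.Z : Set G) := by
  haveI : Fact (Nat.Prime 2) := ⟨Nat.prime_two⟩
  have hsq : ∀ y ∈ F.Z, g * g * y * (g * g)⁻¹ = y := by
    intro y hy
    have hc : ∀ x ∈ F.Z, g * x * g⁻¹ ∈ F.Z := fun x hx => (mem_normalizer_iff.1 hgZ x).1 hx
    have hzf : g * z * g⁻¹ = z := by rw [hgz.eq, mul_inv_cancel_right]
    by_cases hy1 : y = 1
    · rw [hy1]; group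
    by_cases hyz : y = z
    · rw [hyz, show g * g * z * (g * g)⁻¹ = g * (g * z * g⁻¹) * g⁻¹ by group, hzf, hzf]
    by_cases hgy : g * y * g⁻¹ = y
    · rw [show g * g * y * (g * g)⁻¹ = g * (g * y * g⁻¹) * g⁻¹ by group, hgy, hgy]
    -- `g` exchanges `y` and `y * z`
    have hset : ∀ x ∈ F.Z, x = 1 ∨ x = z ∨ x = y ∨ x = y * z := by
      classical
      intro w hw
      by_contra hcon
      simp only [not_or] at hcon
      obtain ⟨h1, h2, h3, h4⟩ := hcon
      have hyz1 : y * z ≠ 1 := fun e => hyz (by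
        rw [eq_inv_of_mul_eq_one_left e, inv_eq_of_mul_eq_one_right (F.sq_of_mem (F.Z_le_A hz))])
      haveI := Fintype.ofFinite F.Z
      have hsub := Finset.card_le_univ ({1, ⟨z, hz⟩, ⟨y, hy⟩, ⟨y * z, F.Z.mul_mem hy hz⟩, ⟨w, hw⟩} : Finset F.Z)
      rw [← Nat.card_eq_fintype_card, F.card_Z] at hsub
      rw [Finset.card_insert_of_notMem, Finset.card_insert_of_notMem, Finset.card_insert_of_notMem,
        Finset.card_insert_of_notMem, Finset.card_singleton] at hsub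
      · omega
      all_goals simp only [Finset.mem_insert, Finset.mem_singleton, Subtype.ext_iff, OneMemClass.coe_one, not_or]
      · exact Ne.symm h4
      · exact ⟨fun e => hz1 (mul_eq_left.1 e.symm), Ne.symm h3⟩
      · exact ⟨Ne.symm hyz, fun e => hy1 (mul_eq_right.1 e.symm), Ne.symm h2⟩
      · exact ⟨hz1.symm, Ne.symm hy1, hyz1.symm, Ne.symm h1⟩
    have h1 : g * y * g⁻¹ = y * z := by
      rcases hset _ (hc y hy) with e | e | e | e
      · exact absurd (conj_eq_one_iff.1 e) hy1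
      · exact absurd (mul_left_cancel (mul_right_cancel (e.trans hzf.symm))) hyz
      · exact absurd e hgy
      · exact e
    rw [show g * g * y * (g * g)⁻¹ = g * (g * y * g⁻¹) * g⁻¹ by group, h1,
      show g * (y * z) * g⁻¹ = (g * y * g⁻¹) * (g * z * g⁻¹) by group, h1, hzf, mul_assoc,
      F.sq_of_mem (F.Z_le_A hz), mul_one]
  have h2 : g * g ∈ centralizer (F.Z : Set G) := mem_centralizer_iff.2 fun y hy =>
    (mul_inv_eq_iff_eq_mul.1 (hsq y hy)).symm
  obtain ⟨a, m, hm, hord⟩ := Nat.exists_eq_two_pow_mul_odd (orderOf_pos g).ne'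
  have hp : IsPGroup 2 (zpowers (g ^ m)) := IsPGroup.of_card (n := a) (by
    rw [Nat.card_zpowers, orderOf_pow_of_dvd hm.pos.ne' (hord ▸ dvd_mul_left m _), hord,
      Nat.mul_div_cancel _ hm.pos])
  have hTZ : (F.T : Subgroup G) ≤ centralizer (F.Z : Set G) := fun t ht =>
    mem_centralizer_iff.2 fun y hy => (F.Z_central hy ht).symm
  obtain ⟨c, hc, hcr⟩ := exists_conj_into F.T.2 F.not_dvd_index
    (hTZ.trans (CfsgLib.Coprime.centralizer_le_normalizer_self _)) (zpowers_le.2 (pow_mem hgZ m)) hp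
  have hm' : g ^ m ∈ centralizer (F.Z : Set G) :=
    (mem_normalizer_iff.1 (CfsgLib.Coprime.normalizer_le_normalizer_centralizer _ hc) _).2
      (hTZ (hcr _ (mem_zpowers _)))
  obtain ⟨k, hk⟩ := hm
  have e : g = g ^ m * ((g * g) ^ k)⁻¹ := by
    rw [hk, pow_succ', ← pow_two, ← pow_mul, mul_inv_cancel_right]
  rw [e]
  exact mul_mem hm' (inv_mem (pow_mem h2 k))

/-- an element of `Z` is not fused inside `C(z)` -/
theorem isolated {z w g : G} (hz : z ∈ F.Z) (hz1 : z ≠ 1) (hw : w ∈ F.Z) (hgz : Commute g z)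
    (hg : g * w * g⁻¹ ∈ (F.T : Subgroup G)) : g * w * g⁻¹ = w := by
  have hzf : g * z * g⁻¹ = z := by rw [hgz.eq, mul_inv_cancel_right]
  by_cases hw1 : w = 1
  · rw [hw1]; group
  by_cases hwz : w = z
  · rw [hwz, hzf]
  have key : ∀ F' : Frame G, F'.Z = F.Z → g * w * g⁻¹ ∈ F'.A → conjBy g F'.Z = F'.Z := by
    intro F' hZ hA
    rw [← hZ] at hz hw
    refine F'.conj_Z_eq (z := z) (fun x hx => ?_) hz hz1 (by
      rw [show g⁻¹ * z * g = g⁻¹ * (z * g) by group, ← hgz.eq, inv_mul_cancel_left]; exact hz)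
    have hle : F'.Z ≤ F'.A.comap (MulAut.conj g).toMonoidHom := F'.Z_le_of_two hz hw
      (show g * z * g⁻¹ ∈ F'.A by rw [hzf]; exact F'.Z_le_A hz) hA hz1 hw1 (Ne.symm hwz)
    exact hle hx
  have hgN : g ∈ normalizer (F.Z : Set G) := by
    rw [← conjBy_eq_self_iff]
    rcases F.invol_cases hg (by
      rw [show g * w * g⁻¹ * (g * w * g⁻¹) = g * (w * w) * g⁻¹ by group, F.sq_of_mem (F.Z_le_A hw)]; group) with h | h
    · exact key F rfl h
    · have := key F.swap F.swap_Z (by rw [F.swap_A]; exact h)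
      rwa [F.swap_Z] at this
  rw [← mem_centralizer_iff.1 (F.centralizes_Z hz hz1 hgz hgN) w hw, mul_inv_cancel_right]

/-- the centraliser of `z` is its core times the centraliser of `Z` -/
theorem cz_factor_Z {z : G} (hz : z ∈ F.Z) (hz1 : z ≠ 1) {g : G} (hg : g ∈ centralizer ({z} : Set G)) :
    ∃ o ∈ OC (centralizer ({z} : Set G)), ∃ n ∈ centralizer (F.Z : Set G), g = o * n := by
  haveI : Fact (Nat.Prime 2) := ⟨Nat.prime_two⟩
  obtain ⟨w, hw, hw1, hwz⟩ : ∃ w ∈ F.Z, w ≠ 1 ∧ w ≠ z := by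
    by_contra h
    push Not at h
    have hsub : F.Z ≤ zpowers z := fun x hx => by
      by_cases hx1 : x = 1
      · rw [hx1]; exact one_mem _
      · rw [h x hx hx1]; exact mem_zpowers z
    have := Nat.le_of_dvd Nat.card_pos (card_dvd_of_le hsub)
    rw [F.card_Z, Nat.card_zpowers,
      orderOf_eq_prime (by rw [pow_two, F.sq_of_mem (F.Z_le_A hz)]) hz1] at this
    omega
  set C := centralizer ({z} : Set G) with hC
  have hTC : (F.T : Subgroup G) ≤ C := F.T_le_centralizer hz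
  have hwC : w ∈ C := hTC (F.Z_le hw)
  have hwo : orderOf (⟨w, hwC⟩ : C) = 2 := by
    rw [Subgroup.orderOf_mk]
    exact orderOf_eq_prime (by rw [pow_two, F.sq_of_mem (F.Z_le_A hw)]) hw1
  have hzc := zstar_of_weakly_closed (F.T.subtype hTC) hwo fun k hk =>
    Subtype.ext (F.isolated hz hz1 hw (mem_centralizer_singleton_iff.1 k.2) hk)
  haveI : (Cfsg.pPrimeCore 2 C).Normal := by
    haveI := CfsgLib.Coprime.pPrimeCore_characteristic (G := C) 2
    infer_instance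
  have hodd : Odd (Nat.card (Cfsg.pPrimeCore 2 C)) := by
    have h := odd_card_OC C
    rwa [OC, card_map_of_injective C.subtype_injective] at h
  have hcomm : Commute (QuotientGroup.mk' (Cfsg.pPrimeCore 2 C) ⟨g, hg⟩)
      (QuotientGroup.mk' (Cfsg.pPrimeCore 2 C) ⟨w, hwC⟩) := by
    refine (mul_inv_eq_one.1 ?_).symm
    rw [mul_inv_rev, ← mul_assoc, ← map_mul, ← map_inv, ← map_mul, ← map_inv, ← map_mul]
    have h1 := hzc ⟨g, hg⟩
    exact (QuotientGroup.eq_one_iff _).2 h1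
  obtain ⟨o, ho, hoc⟩ := CfsgLib.ProdFusion.exists_commute_of_commute_mk hodd hwo hcomm
  have hoc' : (o : G) * g * w = w * ((o : G) * g) := congrArg Subtype.val hoc.eq
  have hoz : (o : G) * g * z = z * ((o : G) * g) := mem_centralizer_singleton_iff.1 (C.mul_mem o.2 hg)
  have hle : F.Z ≤ centralizer ({(o : G) * g} : Set G) := F.Z_le_of_two hz hw
    (mem_centralizer_singleton_iff.2 hoz.symm) (mem_centralizer_singleton_iff.2 hoc'.symm) hz1 hw1 (Ne.symm hwz)
  refine ⟨(o : G)⁻¹, inv_mem ⟨o, ho, rfl⟩, (o : G) * g, mem_centralizer_iff.2 fun x hx =>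
    mem_centralizer_singleton_iff.1 (hle hx), by group⟩

/-- modulo the centre the Sylow subgroup is normal in the centraliser of `Z` up to the core -/
theorem cZ_factor {g : G} (hg : g ∈ centralizer (F.Z : Set G)) :
    ∃ d ∈ OC (centralizer (F.Z : Set G)),
      ∃ n ∈ centralizer (F.Z : Set G) ⊓ normalizer ((F.T : Subgroup G) : Set G), g = d * n := by
  haveI : Fact (Nat.Prime 2) := ⟨Nat.prime_two⟩
  set H := centralizer (F.Z : Set G) with hH
  have hTH : (F.T : Subgroup G) ≤ H := fun t ht => mem_centralizer_iff.2 fun y hy => (F.Z_central hy ht).symm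
  set Zs := F.Z.subgroupOf H with hZs
  haveI hZn : Zs.Normal := ⟨fun a ha k => by
    rw [hZs, mem_subgroupOf] at ha ⊢
    push_cast
    rw [← mem_centralizer_iff.1 k.2 _ ha, mul_inv_cancel_right]
    exact ha⟩
  set q := QuotientGroup.mk' Zs with hq
  have hqs : Function.Surjective q := QuotientGroup.mk'_surjective Zs
  have hqk : ∀ a : H, q a = 1 ↔ (a : G) ∈ F.Z := fun a => QuotientGroup.eq_one_iff a
  set T' := (F.T : Subgroup G).subgroupOf H with hT'
  have hZT : Zs ≤ T' := comap_mono F.Z_le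
  have hker : q.ker ≤ T' := by rw [hq, QuotientGroup.ker_mk']; exact hZT
  have hEp : IsPGroup 2 (T'.map q) := (F.T.2.of_equiv (subgroupOfEquivOfLe hTH).symm).map q
  have hEidx : ¬ 2 ∣ (T'.map q).index := by
    rw [index_map_eq T' hqs hker]
    exact fun h => F.not_dvd_index (h.trans (by
      rw [← (F.T : Subgroup G).relIndex_mul_index hTH]; exact dvd_mul_right _ _))
  let E : Sylow 2 (H ⧸ Zs) := hEp.toSylow hEidx
  have hEmem : ∀ a : H, q a ∈ (E : Subgroup (H ⧸ Zs)) ↔ (a : G) ∈ (F.T : Subgroup G) := fun a => by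
    show q a ∈ T'.map q ↔ _
    refine ⟨fun ⟨b, hb, hbe⟩ => ?_, fun h => ⟨a, h, rfl⟩⟩
    have h1 : b⁻¹ * a ∈ q.ker := by rw [MonoidHom.mem_ker, map_mul, map_inv, hbe, inv_mul_cancel]
    have h2 := T'.mul_mem hb (hker h1)
    rwa [mul_inv_cancel_left] at h2
  have hsq : ∀ a ∈ (E : Subgroup (H ⧸ Zs)), a * a = 1 := by
    intro a ha
    obtain ⟨a, rfl⟩ := hqs a
    rw [← map_mul, hqk]
    exact F.sq_mem_Z ((hEmem a).1 ha)
  have hE : Cfsg.IsElementaryAbelian 2 (E : Subgroup (H ⧸ Zs)) := by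
    refine ⟨⟨⟨fun a b => Subtype.ext ?_⟩⟩, fun a ha => by rw [pow_two]; exact hsq a ha⟩
    have hi : ∀ c ∈ (E : Subgroup (H ⧸ Zs)), c⁻¹ = c := fun c hc => inv_eq_of_mul_eq_one_right (hsq c hc)
    show (a : H ⧸ Zs) * b = b * a
    rw [← hi _ (mul_mem a.2 b.2), mul_inv_rev, hi _ a.2, hi _ b.2]
  have hE3 : 2 ^ 3 ≤ Nat.card (E : Subgroup (H ⧸ Zs)) := by
    show 2 ^ 3 ≤ Nat.card (T'.map q)
    have e1 : Nat.card (T'.map q) * Nat.card Zs = Nat.card T' := by
      have := (Zs.subgroupOf T').card_mul_index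
      rw [Nat.card_congr (subgroupOfEquivOfLe hZT).toEquiv] at this
      rw [show Nat.card (T'.map q) = q.ker.relIndex T' from (Subgroup.relIndex_ker (K := T') q).symm,
        hq, QuotientGroup.ker_mk', mul_comm]
      exact this
    rw [Nat.card_congr (subgroupOfEquivOfLe hTH).toEquiv, F.card_T,
      Nat.card_congr (subgroupOfEquivOfLe (F.Z_le.trans hTH)).toEquiv, F.card_Z] at e1
    omega
  have hnorm : ∀ a : H, q a ∈ normalizer ((E : Subgroup (H ⧸ Zs)) : Set (H ⧸ Zs)) →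
      (a : G) ∈ normalizer ((F.T : Subgroup G) : Set G) := fun a ha =>
    CfsgLib.ProdFusion.mem_of_forall_conj_mem fun t ht => by
      have h2 := (mem_normalizer_iff.1 ha _).1 ((hEmem ⟨t, hTH ht⟩).2 ht)
      rw [← map_inv, ← map_mul, ← map_mul] at h2
      exact (hEmem _).1 h2
  have hfix : ∀ e ∈ (E : Subgroup (H ⧸ Zs)), e ≠ 1 →
      ∀ n ∈ normalizer ((E : Subgroup (H ⧸ Zs)) : Set (H ⧸ Zs)),
      Odd (orderOf n) → Commute n e → n ∈ centralizer ((E : Subgroup (H ⧸ Zs)) : Set (H ⧸ Zs)) := by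
    intro e he he1 n hn hno hne
    obtain ⟨h₀, rfl⟩ := hqs n
    obtain ⟨t, rfl⟩ := hqs e
    set a := (orderOf h₀).factorization 2
    have hr0 : orderOf h₀ ≠ 0 := (orderOf_pos h₀).ne'
    set h := h₀ ^ 2 ^ a with hh
    have hho : Odd (orderOf (h : G)) := by
      rw [Subgroup.orderOf_coe, hh, orderOf_pow' _ (by positivity), Nat.gcd_eq_right (Nat.ordProj_dvd _ 2)]
      have := Nat.not_dvd_ordCompl Nat.prime_two hr0
      exact Nat.odd_iff.2 (by omega)
    have hqh : q h ∈ normalizer ((E : Subgroup (H ⧸ Zs)) : Set (H ⧸ Zs)) := by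
      rw [hh, map_pow]; exact pow_mem hn _
    have hcomm : Commute (q h) (q t) := by rw [hh, map_pow]; exact hne.pow_left _
    obtain ⟨l, m, -, -, hp, hc, hcent⟩ := F.scalar (hnorm h hqh) hho
    have hlm : fm l m = (1, 0) := by
      have h1 := hc (1, 0)
      rw [← mem_centralizer_iff.1 h.2 _ (F.hom_mem_Z.2 ⟨rfl, rfl⟩), mul_inv_cancel_right, fm_one_right] at h1
      exact (congrArg H4.c (F.hom_injective h1)).symm
    have ht : (t : G) ∈ (F.T : Subgroup G) := (hEmem t).1 he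
    obtain ⟨p, hpt⟩ := F.exists_of_mem ht
    have hpne : p.a ≠ 0 ∨ p.b ≠ 0 := by
      by_contra hcon
      push Not at hcon
      exact he1 ((hqk t).2 (hpt ▸ F.hom_mem_Z.2 ⟨hcon.2, hcon.1⟩))
    obtain ⟨d, hd⟩ := hp p
    have h1 : q (t⁻¹ * (h * t * h⁻¹)) = 1 := by
      rw [map_mul, map_mul, map_mul, map_inv, map_inv, hcomm.eq, mul_inv_cancel_right, inv_mul_cancel]
    have h2 := (hqk _).1 h1
    push_cast at h2
    rw [← hpt, hd, ← map_inv, ← map_mul, F.hom_mem_Z, CfsgLib.Invol.HeisFour.inv_def,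
      CfsgLib.Invol.HeisFour.mul_def] at h2
    have ha : fm l p.a = p.a := ((add_eq_zero_iff_eq_neg.1 h2.2).trans (ZModModule.neg_eq_self _)).symm
    have hb : fm m p.b = p.b := ((add_eq_zero_iff_eq_neg.1 h2.1).trans (ZModModule.neg_eq_self _)).symm
    obtain ⟨hl1, hm1⟩ := scalar_fix hlm ha hb hpne
    have hfa := hcent hl1 hm1
    obtain ⟨b, hb'⟩ : ∃ b : ℤ, q h₀ = (q h) ^ b := by
      rw [hh, map_pow]
      have hcop : Nat.Coprime (2 ^ a) (orderOf (q h₀)) :=
        (Nat.prime_two.coprime_iff_not_dvd.2 (fun h2 => Nat.not_even_iff_odd.2 hno (even_iff_two_dvd.2 h2))).pow_left a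
      have hb := Nat.gcd_eq_gcd_ab (2 ^ a) (orderOf (q h₀))
      rw [hcop] at hb
      refine ⟨Nat.gcdA (2 ^ a) (orderOf (q h₀)), ?_⟩
      conv_lhs => rw [← zpow_one (q h₀), show (1 : ℤ) = ((1 : ℕ) : ℤ) from rfl, hb, zpow_add, zpow_mul (q h₀) ((orderOf (q h₀) : ℕ) : ℤ),
        zpow_natCast _ (orderOf (q h₀)), pow_orderOf_eq_one, one_zpow, mul_one, zpow_mul, zpow_natCast]
    rw [hb']
    refine Subgroup.zpow_mem _ (mem_centralizer_iff.2 fun s hs => ?_) b
    obtain ⟨s, rfl⟩ := hqs s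
    rw [← map_mul, ← map_mul]
    exact congrArg q (Subtype.ext (mem_centralizer_iff.1 hfa _ ((hEmem s).1 hs)))
  obtain ⟨a0, ha0, ha0Z⟩ := F.exists_A_not_Z
  obtain ⟨b0, hb0, hb0Z⟩ := F.swap.exists_A_not_Z
  rw [F.swap_A] at hb0
  rw [F.swap_Z] at hb0Z
  set a' : H := ⟨a0, hTH (F.A_le ha0)⟩ with ha'
  set b' : H := ⟨b0, hTH (F.B_le hb0)⟩ with hb'
  have ha'1 : q a' ≠ 1 := fun e => ha0Z ((hqk a').1 e)
  have hb'1 : q b' ≠ 1 := fun e => hb0Z ((hqk b').1 e)
  have hab : ¬ IsConj (q a') (q b') := by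
    intro hc
    obtain ⟨k, hk⟩ := isConj_iff.1 hc
    obtain ⟨n, hn, hne⟩ := CfsgLib.Fusion.abelian_sylow_control E hE.1 ((hEmem a').2 (F.A_le ha0)) k
      (by rw [hk]; exact (hEmem b').2 (F.B_le hb0))
    rw [hk] at hne
    obtain ⟨n, rfl⟩ := hqs n
    have h1 : q (b'⁻¹ * (n * a' * n⁻¹)) = 1 := by
      rw [map_mul, map_mul, map_mul, map_inv, map_inv, hne, inv_mul_cancel]
    have h2 := (hqk _).1 h1
    push_cast at h2
    refine hb0Z ?_
    rw [F.Z_eq]
    refine ⟨?_, hb0⟩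
    have h3 : (n : G) * a0 * (n : G)⁻¹ ∈ F.A :=
      (mem_normalizer_iff.1 (F.N_T_le_A (hnorm n hn)) a0).1 ha0
    have h4 := F.A.mul_mem h3 (F.A.inv_mem (F.Z_le_A h2))
    rwa [mul_inv_rev, inv_inv, ← mul_assoc, mul_inv_cancel, one_mul] at h4
  obtain ⟨o, ho, n, hn, he⟩ := CfsgLib.Invol.EightTypeThree.factor_of_abelian_sylow E hE hE3 hfix
    ((hEmem a').2 (F.A_le ha0)) ha'1 ((hEmem b').2 (F.B_le hb0)) hb'1 hab (q ⟨g, hg⟩)
  obtain ⟨m, rfl⟩ := hqs n
  haveI : (Cfsg.pPrimeCore 2 (H ⧸ Zs)).Normal := by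
    haveI := CfsgLib.Coprime.pPrimeCore_characteristic (G := H ⧸ Zs) 2
    infer_instance
  set P₀ : Subgroup G := ((Cfsg.pPrimeCore 2 (H ⧸ Zs)).comap q).map H.subtype with hP₀
  have hP₀H : P₀ ≤ H := map_subtype_le _
  have hgm : g * (m : G)⁻¹ ∈ P₀ := by
    refine ⟨⟨g, hg⟩ * m⁻¹, ?_, rfl⟩
    rw [SetLike.mem_coe, mem_comap, map_mul, map_inv, he, mul_inv_cancel_right]
    exact ho
  have hzP : F.Z ≤ P₀ := fun x hx => ⟨⟨x, hTH (F.Z_le hx)⟩, by
    rw [SetLike.mem_coe, mem_comap, (hqk _).2 hx]; exact one_mem _, rfl⟩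
  have hidx0 : ¬ 2 ∣ (F.Z.subgroupOf P₀).index := by
    show ¬ 2 ∣ F.Z.relIndex P₀
    rw [hP₀, ← relIndex_comap, show F.Z.comap H.subtype = q.ker by
      rw [hq, QuotientGroup.ker_mk']; rfl, relIndex_ker, map_comap_eq_self_of_surjective hqs]
    exact CfsgLib.Coprime.pPrimeCore_not_dvd Nat.prime_two
  obtain ⟨c, hc, d, hd, hcd⟩ := CfsgLib.Invol.EightTypeThree.decomp_in hzP (F.T.2.to_le F.Z_le) hidx0
    (fun n hn _ => mem_centralizer_iff.2 fun x hx => mem_centralizer_iff.1 (hP₀H hn) x hx) hgm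
  have hdH : d ∈ OC H := by
    refine OC_le_OC hP₀H ?_ hd
    intro k hk
    refine CfsgLib.ProdFusion.mem_of_forall_conj_mem ?_
    rintro _ ⟨a, ha, rfl⟩
    exact ⟨⟨k, hk⟩ * a * ⟨k, hk⟩⁻¹,
      (inferInstance : ((Cfsg.pPrimeCore 2 (H ⧸ Zs)).comap q).Normal).conj_mem a ha _, rfl⟩
  refine ⟨d, hdH, c * (m : G), mul_mem ⟨hTH (F.Z_le hc), le_normalizer (F.Z_le hc)⟩ ⟨m.2, hnorm m hn⟩, ?_⟩
  rw [← mul_assoc, ← mem_centralizer_iff.1 (OC_le _ hdH) c hc, ← hcd, inv_mul_cancel_right]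

/-- **the centraliser of a central involution is its core times its part normalising `T`** -/
theorem cz_factor {z : G} (hz : z ∈ F.Z) (hz1 : z ≠ 1) {g : G} (hg : g ∈ centralizer ({z} : Set G)) :
    ∃ o ∈ OC (centralizer ({z} : Set G)),
      ∃ n ∈ normalizer ((F.T : Subgroup G) : Set G) ⊓ centralizer ({z} : Set G), g = o * n := by
  set C := centralizer ({z} : Set G) with hC
  set D := OC (centralizer (F.Z : Set G)) with hD
  have hZC : centralizer (F.Z : Set G) ≤ C := centralizer_le (Set.singleton_subset_iff.2 hz)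
  have hDC : D ≤ C := (OC_le _).trans hZC
  have hCO : C ≤ normalizer (OC C : Set G) := le_normalizer_OC_self C
  have hDO : D ≤ OC C := by
    have h1 : D ⊔ OC C ≤ OC C := le_OC (sup_le hDC (OC_le C))
      (CfsgLib.Invol.EightTypeThree.odd_sup (hDC.trans hCO) (odd_card_OC _) (odd_card_OC _)) (fun g hg => by
        obtain ⟨o, ho, n, hn, rfl⟩ := F.cz_factor_Z hz hz1 hg
        refine mul_mem (le_normalizer (mem_sup_right ho)) ?_
        have e1 := conjBy_eq_self_iff.2 (hCO (hZC hn))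
        have e2 : conjBy n D = D := conjBy_eq_self_iff.2 (le_normalizer_OC_self _ hn)
        rw [← conjBy_eq_self_iff]
        simp only [conjBy, Subgroup.map_sup] at e1 e2 ⊢
        rw [e1, e2])
    exact le_sup_left.trans h1
  obtain ⟨o, ho, n, hn, rfl⟩ := F.cz_factor_Z hz hz1 hg
  obtain ⟨d, hd, m, hm, rfl⟩ := F.cZ_factor hn
  exact ⟨o * d, mul_mem ho (hDO hd), m, ⟨hm.2, hZC hm.1⟩, by rw [mul_assoc]⟩

end Frame

end CfsgLib.Invol.L34Type
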