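import Cfsg.Agent.Lib.Invol.L34Type.Model
import Cfsg.Agent.Lib.Invol.EightTypeThree.Local
import Cfsg.Agent.Lib.Fusion.Transfer

/-!
# Fusion in a Sylow two-subgroup of type `L₃(4)`
-/

set_option autoImplicit false
set_option linter.unusedSectionVars false
set_option linter.style.haveILetI false

namespace CfsgLib.Invol.L34Type

open Subgroup
open CfsgLib.Invol
open CfsgLib.Coprime (conjBy mem_conjBy conjBy_eq_self_iff)

universe u

variable {G : Type u} [Group G] [Finite G]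

/-- conjugate of a Sylow subgroup into a Sylow subgroup of a subgroup -/
theorem exists_conj_into {T R C : Subgroup G} (hT2 : IsPGroup 2 T) (hidx : ¬ 2 ∣ T.index) (hTC : T ≤ C) (hRC : R ≤ C)
    (hR : IsPGroup 2 R) : ∃ c ∈ C, ∀ r ∈ R, c * r * c⁻¹ ∈ T := by
  haveI : Fact (Nat.Prime 2) := ⟨Nat.prime_two⟩
  have hid : ¬ 2 ∣ (T.subgroupOf C).index := fun h => hidx (h.trans (by
    rw [← T.relIndex_mul_index hTC]
    exact dvd_mul_right _ _))
  obtain ⟨c, hc⟩ := exists_conj_le_sylow (hR.of_equiv (subgroupOfEquivOfLe hRC).symm)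
    ((hT2.of_equiv (subgroupOfEquivOfLe hTC).symm).toSylow hid)
  exact ⟨c, c.2, fun r hr => hc ⟨r, hRC hr⟩ hr⟩

namespace Frame

variable (F : Frame G)

theorem isPGroup_T : IsPGroup 2 (F.T : Subgroup G) := F.T.2

theorem not_dvd_index : ¬ 2 ∣ (F.T : Subgroup G).index := by
  haveI : Fact (Nat.Prime 2) := ⟨Nat.prime_two⟩
  exact F.T.not_dvd_index

theorem T_le_normalizer_B : (F.T : Subgroup G) ≤ normalizer (F.B : Set G) := by
  have h := F.swap.T_le_normalizer_A
  rwa [F.swap_A, F.swap_T] at h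

/-- a conjugate of `A` inside the Sylow subgroup is `A` or `B` -/
theorem conj_cases {g : G} (h : ∀ a ∈ F.A, g * a * g⁻¹ ∈ (F.T : Subgroup G)) :
    conjBy g F.A = F.A ∨ conjBy g F.A = F.B := by
  refine F.eq_A_or_B (by rintro _ ⟨a, ha, rfl⟩; exact h a ha) ?_ ?_ ?_
  · exact (card_map_of_injective (MulAut.conj g).injective).trans F.card_A
  · rintro _ ⟨a, ha, rfl⟩
    rw [← map_mul, F.sq_of_mem ha, map_one]
  · rintro _ ⟨a, ha, rfl⟩ _ ⟨b, hb, rfl⟩
    rw [← map_mul, ← map_mul, F.comm_A ha hb]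

theorem N_T_le_A : normalizer ((F.T : Subgroup G) : Set G) ≤ normalizer (F.A : Set G) := by
  haveI : Fact (Nat.Prime 2) := ⟨Nat.prime_two⟩
  intro n hn
  have hcase : ∀ m ∈ normalizer ((F.T : Subgroup G) : Set G), conjBy m F.A = F.A ∨ conjBy m F.A = F.B :=
    fun m hm => F.conj_cases fun a ha => (mem_normalizer_iff.1 hm a).1 (F.A_le ha)
  have hcaseB : ∀ m ∈ normalizer ((F.T : Subgroup G) : Set G), conjBy m F.B = F.B ∨ conjBy m F.B = F.A := by
    intro m hm
    have h := F.swap.conj_cases (g := m) fun a ha => (mem_normalizer_iff.1 hm a).1 (F.swap.A_le ha)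
    rwa [F.swap_A, F.swap_B] at h
  rw [← conjBy_eq_self_iff]
  refine (hcase n hn).resolve_right fun hAB => ?_
  have hBA : conjBy n F.B = F.A := (hcaseB n hn).resolve_left fun hBB =>
    F.A_ne_B (Subgroup.map_injective (MulAut.conj n).injective (hAB.trans hBB.symm))
  obtain ⟨a, m, hm, hord⟩ := Nat.exists_eq_two_pow_mul_odd (orderOf_pos n).ne'
  have hpow : ∀ k : ℕ, (Even k → conjBy (n ^ k) F.A = F.A) ∧ (Odd k → conjBy (n ^ k) F.A = F.B) := by
    intro k
    induction k with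
    | zero => exact ⟨fun _ => by rw [pow_zero]; exact conjBy_eq_self_iff.2 (one_mem _), fun h => absurd h (by decide)⟩
    | succ k ih =>
      have e : conjBy (n ^ (k + 1)) F.A = conjBy n (conjBy (n ^ k) F.A) := by
        rw [pow_succ', CfsgLib.Coprime.conjBy_conjBy]
      refine ⟨fun h => ?_, fun h => ?_⟩
      · rw [e, ih.2 (by simpa [parity_simps] using h), hBA]
      · rw [e, ih.1 (by simpa [parity_simps] using h), hAB]
  have hp : IsPGroup 2 (zpowers (n ^ m)) := IsPGroup.of_card (n := a) (by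
    rw [Nat.card_zpowers, orderOf_pow_of_dvd hm.pos.ne' (hord ▸ dvd_mul_left m _), hord,
      Nat.mul_div_cancel _ hm.pos])
  have hmem : n ^ m ∈ (F.T : Subgroup G) := by
    have h1 : IsPGroup 2 ((F.T : Subgroup G) ⊔ zpowers (n ^ m) : Subgroup G) :=
      F.T.2.to_sup_of_normal_left' hp (zpowers_le.2 (pow_mem hn m))
    exact (F.T.3 h1 le_sup_left).le (mem_sup_right (mem_zpowers _))
  exact F.A_ne_B ((conjBy_eq_self_iff.2 (F.T_le_normalizer_A hmem)).symm.trans ((hpow m).2 hm))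

theorem N_T_le_B : normalizer ((F.T : Subgroup G) : Set G) ≤ normalizer (F.B : Set G) := by
  have h := F.swap.N_T_le_A
  rwa [F.swap_A, F.swap_T] at h

theorem N_T_le_Z : normalizer ((F.T : Subgroup G) : Set G) ≤ normalizer (F.Z : Set G) := by
  intro n hn
  rw [← conjBy_eq_self_iff, F.Z_eq, conjBy, Subgroup.map_inf _ _ _ (MulAut.conj n).injective]
  exact congrArg₂ (· ⊓ ·) (conjBy_eq_self_iff.2 (F.N_T_le_A hn)) (conjBy_eq_self_iff.2 (F.N_T_le_B hn))

/-- the two sides are not conjugate -/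
theorem not_conj (g : G) : conjBy g F.A ≠ F.B := by
  haveI : Fact (Nat.Prime 2) := ⟨Nat.prime_two⟩
  intro h
  obtain ⟨c, hc, hn⟩ := CfsgLib.Fusion.exists_mem_normalizer_conj F.T (X := (F.A : Set G)) (Y := (F.B : Set G))
    F.T_le_normalizer_A F.T_le_normalizer_B g fun x => by
      rw [SetLike.mem_coe, SetLike.mem_coe, ← h, mem_conjBy, show g⁻¹ * (g * x * g⁻¹) * g = x by group]
  have e1 : conjBy (c * g) F.A = F.B := by
    rw [← CfsgLib.Coprime.conjBy_conjBy, h, conjBy_eq_self_iff.2 hc]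
  exact F.A_ne_B ((conjBy_eq_self_iff.2 (F.N_T_le_A hn)).symm.trans e1)

/-- conjugates of `A` inside the Sylow subgroup are equal to it -/
theorem conj_into {g : G} (h : ∀ a ∈ F.A, g * a * g⁻¹ ∈ (F.T : Subgroup G)) : g ∈ normalizer (F.A : Set G) :=
  conjBy_eq_self_iff.1 ((F.conj_cases h).resolve_right (F.not_conj g))

/-- a fusion of an element of `A` into `Z` happens in the normaliser of `A` -/
theorem exists_normalizer_of_conj {x g : G} (hx : x ∈ F.A) (hg : g * x * g⁻¹ ∈ F.Z) :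
    ∃ n ∈ normalizer (F.A : Set G), n * x * n⁻¹ = g * x * g⁻¹ := by
  set z := g * x * g⁻¹ with hz
  obtain ⟨c, hc, hcT⟩ := exists_conj_into (R := conjBy g F.A) F.T.2 F.not_dvd_index (F.T_le_centralizer hg)
    (by
      rintro _ ⟨a, ha, rfl⟩
      refine mem_centralizer_singleton_iff.2 ?_
      show g * a * g⁻¹ * z = z * (g * a * g⁻¹)
      rw [hz, show g * a * g⁻¹ * (g * x * g⁻¹) = g * (a * x) * g⁻¹ by group, F.comm_A ha hx]
      group)
    ((F.T.2.to_le F.A_le).map _)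
  refine ⟨c * g, F.conj_into fun a ha => ?_, ?_⟩
  · rw [show c * g * a * (c * g)⁻¹ = c * (g * a * g⁻¹) * c⁻¹ by group]
    exact hcT _ ⟨a, ha, rfl⟩
  · rw [show c * g * x * (c * g)⁻¹ = c * z * c⁻¹ by rw [hz]; group, mem_centralizer_singleton_iff.1 hc,
      mul_inv_cancel_right]

/-- either fused into `Z`, or `A` is a Sylow subgroup of the centraliser -/
theorem fused_or_sylow {x : G} (hx : x ∈ F.A) :
    (∃ n ∈ normalizer (F.A : Set G), n * x * n⁻¹ ∈ F.Z) ∨
      ¬ 2 ∣ (F.A.subgroupOf (centralizer ({x} : Set G))).index := by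
  haveI : Fact (Nat.Prime 2) := ⟨Nat.prime_two⟩
  refine or_iff_not_imp_right.2 fun h => ?_
  push Not at h
  set C := centralizer ({x} : Set G) with hC
  set E := F.A.subgroupOf C with hE
  have hEc : Nat.card E = 2 ^ 4 := by
    rw [hE, Nat.card_congr (subgroupOfEquivOfLe (F.A_le_centralizer hx)).toEquiv, F.card_A]; rfl
  have hdvd : 2 ^ (4 + 1) ∣ Nat.card C := by
    rw [← E.card_mul_index, hEc, pow_succ]
    exact mul_dvd_mul_left _ h
  obtain ⟨K, hK, hEK⟩ := Sylow.exists_subgroup_card_pow_succ hdvd hEc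
  set K' := K.map C.subtype with hK'
  have hAK : F.A ≤ K' := by
    intro a ha
    exact ⟨⟨a, F.A_le_centralizer hx ha⟩, hEK ha, rfl⟩
  have hK'c : Nat.card K' = 32 := by
    rw [hK', card_map_of_injective C.subtype_injective, hK]; norm_num
  obtain ⟨g, hg⟩ := exists_conj_le_sylow (IsPGroup.of_card (n := 5) (by rw [hK'c]; norm_num) : IsPGroup 2 K') F.T
  have hgN : g ∈ normalizer (F.A : Set G) := F.conj_into fun a ha => hg a (hAK ha)
  refine ⟨g, hgN, ?_⟩
  by_contra hxZ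
  have hle : conjBy g K' ≤ F.A := by
    rintro _ ⟨k, hk, rfl⟩
    refine F.mem_A_of_commute ((mem_normalizer_iff.1 hgN x).1 hx) hxZ (hg k hk) ?_
    obtain ⟨⟨k, hkC⟩, -, rfl⟩ := hk
    show g * k * g⁻¹ * (g * x * g⁻¹) = g * x * g⁻¹ * (g * k * g⁻¹)
    rw [show g * k * g⁻¹ * (g * x * g⁻¹) = g * (k * x) * g⁻¹ by group, mem_centralizer_singleton_iff.1 hkC]
    group
  have := Nat.le_of_dvd Nat.card_pos (card_dvd_of_le hle)
  rw [conjBy, card_map_of_injective (MulAut.conj g).injective, hK'c, F.card_A] at this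
  omega

/-- elements of the two sides are fused only through `Z` -/
theorem cross_fusion {x g : G} (hx : x ∈ F.A) (hb : g * x * g⁻¹ ∈ F.B) (hbA : g * x * g⁻¹ ∉ F.A) :
    ∃ n ∈ normalizer (F.A : Set G), n * x * n⁻¹ ∈ F.Z := by
  set b := g * x * g⁻¹ with hbdef
  rcases F.swap.fused_or_sylow (x := b) (by rw [F.swap_A]; exact hb) with ⟨n, -, hn⟩ | hidx
  · rw [F.swap_Z] at hn
    have e : n * g * x * (n * g)⁻¹ = n * b * n⁻¹ := by rw [hbdef]; group
    obtain ⟨m, hm, hme⟩ := F.exists_normalizer_of_conj hx (g := n * g) (by rw [e]; exact hn)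
    exact ⟨m, hm, by rw [hme, e]; exact hn⟩
  · exfalso
    rw [F.swap_A] at hidx
    have hle : conjBy g F.A ≤ centralizer ({b} : Set G) := by
      rintro _ ⟨a, ha, rfl⟩
      refine mem_centralizer_singleton_iff.2 ?_
      show g * a * g⁻¹ * b = b * (g * a * g⁻¹)
      rw [hbdef, show g * a * g⁻¹ * (g * x * g⁻¹) = g * (a * x) * g⁻¹ by group, F.comm_A ha hx]
      group
    have hBC : F.B ≤ centralizer ({b} : Set G) := by
      have h1 := F.swap.A_le_centralizer (a := b) (by rw [F.swap_A]; exact hb)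
      rwa [F.swap_A] at h1
    haveI : Fact (Nat.Prime 2) := ⟨Nat.prime_two⟩
    obtain ⟨c, hc⟩ := exists_conj_le_sylow ((((F.T.2.to_le F.A_le).map _).of_equiv
      (subgroupOfEquivOfLe hle).symm))
      (((F.T.2.to_le F.B_le).of_equiv (subgroupOfEquivOfLe hBC).symm).toSylow hidx)
    refine F.not_conj ((c : G) * g) (eq_of_le_of_card_ge ?_ ?_)
    · rintro _ ⟨a, ha, rfl⟩
      show (c : G) * g * a * ((c : G) * g)⁻¹ ∈ F.B
      rw [show (c : G) * g * a * ((c : G) * g)⁻¹ = c * (g * a * g⁻¹) * (c : G)⁻¹ by group]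
      exact hc ⟨g * a * g⁻¹, hle ⟨a, ha, rfl⟩⟩ ⟨a, ha, rfl⟩
    · rw [conjBy, card_map_of_injective (MulAut.conj _).injective, F.card_A, F.card_B]

/-- the orbit of `Z` under `N(A)` is trivial exactly when no outside element is fused into it -/
theorem mem_Z_of_fused (hN : normalizer (F.A : Set G) ≤ normalizer (F.Z : Set G)) {x g : G} (hx : x ∈ F.A)
    (hg : g * x * g⁻¹ ∈ F.Z) : x ∈ F.Z := by
  obtain ⟨n, hn, he⟩ := F.exists_normalizer_of_conj hx hg
  exact (mem_normalizer_iff.1 (hN hn) x).2 (by rw [he]; exact hg)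

/-- `B` is strongly closed when no element of `A` outside `Z` fuses into `Z` -/
theorem B_closed (hN : normalizer (F.A : Set G) ≤ normalizer (F.Z : Set G)) {b g : G} (hb : b ∈ F.B)
    (hg : g * b * g⁻¹ ∈ (F.T : Subgroup G)) : g * b * g⁻¹ ∈ F.B := by
  set y := g * b * g⁻¹ with hy
  have hb2 : b * b = 1 := by
    have := F.swap.sq_of_mem (a := b) (by rw [F.swap_A]; exact hb); exact this
  rcases F.invol_cases hg (by
    rw [hy, show g * b * g⁻¹ * (g * b * g⁻¹) = g * (b * b) * g⁻¹ by group, hb2]; group) with hyA | hyB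
  swap
  · exact hyB
  by_contra hyB
  have hyZ : y ∉ F.Z := fun h => hyB (F.Z_le_B h)
  by_cases hbA : b ∈ F.A
  · exact hyZ (F.mem_Z_of_fused hN hyA (g := g⁻¹) (by
      rw [hy, show g⁻¹ * (g * b * g⁻¹) * g⁻¹⁻¹ = b by group, F.Z_eq]
      exact ⟨hbA, hb⟩))
  · obtain ⟨n, hn, hnZ⟩ := F.cross_fusion (g := g⁻¹) hyA (by
      rw [hy, show g⁻¹ * (g * b * g⁻¹) * g⁻¹⁻¹ = b by group]; exact hb) (by
      rw [hy, show g⁻¹ * (g * b * g⁻¹) * g⁻¹⁻¹ = b by group]; exact hbA)
    exact hyZ ((mem_normalizer_iff.1 (hN hn) y).2 hnZ)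

/-- a conjugate of `Z` inside `A` meeting `Z` is `Z` -/
theorem conj_Z_eq {g z : G} (hg : ∀ x ∈ F.Z, g * x * g⁻¹ ∈ F.A) (hz : z ∈ F.Z) (hz1 : z ≠ 1)
    (hgz : g⁻¹ * z * g ∈ F.Z) : conjBy g F.Z = F.Z := by
  haveI : Fact (Nat.Prime 2) := ⟨Nat.prime_two⟩
  set Z' := conjBy g F.Z with hZ'
  have hc4 : Nat.card Z' = 4 := (card_map_of_injective (MulAut.conj g).injective).trans F.card_Z
  by_contra hne
  obtain ⟨y, hy, hyZ⟩ : ∃ y ∈ Z', y ∉ F.Z := SetLike.not_le_iff_exists.1 fun hle =>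
    hne (eq_of_le_of_card_ge hle (by rw [hc4, F.card_Z]))
  have hzZ' : z ∈ Z' := mem_conjBy.2 hgz
  have hyA : y ∈ F.A := by obtain ⟨x, hx, rfl⟩ := hy; exact hg x hx
  obtain ⟨t, ht, hte⟩ := F.exists_shift hyA hyZ hz
  -- `Z'` consists of `1, z, y, y z`
  have hset : ∀ w ∈ Z', w = 1 ∨ w = z ∨ w = y ∨ w = y * z := by
    classical
    intro w hw
    by_contra hcon
    simp only [not_or] at hcon
    obtain ⟨h1, h2, h3, h4⟩ := hcon
    have hyz : y ≠ z := fun e => hyZ (e ▸ hz)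
    have hy1 : y ≠ 1 := fun e => hyZ (e ▸ one_mem _)
    have hyz1 : y * z ≠ 1 := fun e => hyZ (by
      rw [eq_inv_of_mul_eq_one_left e]; exact inv_mem hz)
    haveI := Fintype.ofFinite Z'
    have hsub := Finset.card_le_univ ({1, ⟨z, hzZ'⟩, ⟨y, hy⟩, ⟨y * z, Z'.mul_mem hy hzZ'⟩, ⟨w, hw⟩} : Finset Z')
    rw [← Nat.card_eq_fintype_card, hc4] at hsub
    rw [Finset.card_insert_of_notMem, Finset.card_insert_of_notMem, Finset.card_insert_of_notMem,
      Finset.card_insert_of_notMem, Finset.card_singleton] at hsub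
    · omega
    all_goals simp only [Finset.mem_insert, Finset.mem_singleton, Subtype.ext_iff, OneMemClass.coe_one, not_or]
    · exact Ne.symm h4
    · exact ⟨fun e => hz1 (mul_eq_left.1 e.symm), Ne.symm h3⟩
    · exact ⟨hyz.symm, fun e => hy1 (mul_eq_right.1 e.symm), Ne.symm h2⟩
    · exact ⟨hz1.symm, hy1.symm, hyz1.symm, Ne.symm h1⟩
  have htz : t * z * t⁻¹ = z := by rw [F.Z_central hz ht, mul_inv_cancel_right]
  have htN : t ∈ normalizer (Z' : Set G) := CfsgLib.ProdFusion.mem_of_forall_conj_mem fun w hw => by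
    rcases hset w hw with rfl | rfl | rfl | rfl
    · simpa using Z'.one_mem
    · rw [htz]; exact hzZ'
    · rw [hte]; exact Z'.mul_mem hy hzZ'
    · rw [show t * (y * z) * t⁻¹ = (t * y * t⁻¹) * (t * z * t⁻¹) by group, hte, htz]
      exact Z'.mul_mem (Z'.mul_mem hy hzZ') hzZ'
  -- the normaliser of `Z'` contains a whole Sylow subgroup centralising it
  set S' := conjBy g (F.T : Subgroup G) with hS'
  have hS'2 : IsPGroup 2 S' := F.T.2.map _
  have hS'i : ¬ 2 ∣ S'.index := by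
    have e : ((F.T : Subgroup G).map ((MulAut.conj g).toMonoidHom)).index = (F.T : Subgroup G).index :=
      Subgroup.index_map_equiv _ (MulAut.conj g)
    rw [hS', conjBy, e]
    exact F.not_dvd_index
  have hS'c : S' ≤ centralizer (Z' : Set G) := by
    rintro _ ⟨a, ha, rfl⟩
    refine mem_centralizer_iff.2 ?_
    rintro _ ⟨x, hx, rfl⟩
    show MulAut.conj g x * MulAut.conj g a = MulAut.conj g a * MulAut.conj g x
    rw [← map_mul, ← map_mul, F.Z_central hx ha]
  obtain ⟨c, hc, hcr⟩ := exists_conj_into hS'2 hS'i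
    (hS'c.trans (CfsgLib.Coprime.centralizer_le_normalizer_self _)) (zpowers_le.2 htN)
    (F.T.2.to_le (zpowers_le.2 ht))
  have h2 : t ∈ centralizer (Z' : Set G) := by
    have h := CfsgLib.Coprime.normalizer_le_normalizer_centralizer _ hc
    exact (mem_normalizer_iff.1 h t).2 (hS'c (hcr t (mem_zpowers t)))
  refine hz1 ?_
  have e := mem_centralizer_iff.1 h2 y hy
  exact mul_eq_left.1 (hte.symm.trans (by rw [← e, mul_inv_cancel_right]))

end Frame

end CfsgLib.Invol.L34Type
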