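import Cfsg.Agent.Lib.Invol.L34Type.Base
import Cfsg.Agent.Lib.Coprime.Solvable

/-!
# The Sylow two-subgroup of type `L₃(4)`: facts read off from the coordinates
-/

set_option autoImplicit false
set_option linter.unusedSectionVars false

namespace CfsgLib.Invol.L34Type

open Subgroup
open CfsgLib.Invol.HeisFour (V fm H4 mul_def one_def inv_def)

theorem sq_cases : ∀ p : H4, p * p = 1 → p.b = 0 ∨ p.a = 0 := by decide +kernel

theorem sq_mem_subZ : ∀ p : H4, (p * p).b = 0 ∧ (p * p).a = 0 := by decide +kernel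

theorem comm_out : ∀ t : H4, t.b = 0 → t.a ≠ 0 → ∀ q : H4, q * t = t * q → q.b = 0 := by decide +kernel

theorem central_subZ : ∀ p : H4, p.b = 0 → p.a = 0 → ∀ q : H4, q * p = p * q := by decide +kernel

theorem conj_subA : ∀ p : H4, p.b = 0 → ∀ q : H4, q * p * q⁻¹ = ⟨p.a, 0, p.c + fm p.a q.b⟩ := by decide +kernel

theorem exists_fm : ∀ a c : V, a ≠ 0 → ∃ b : V, fm a b = c := by decide +kernel

theorem cross_ne : ∀ p : H4, p.b = 0 → p.a ≠ 0 → ∀ q : H4, q.a = 0 → q.b ≠ 0 → p * q ≠ q * p := by decide +kernel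

namespace Frame

variable {G : Type*} [Group G] (F : Frame G)

theorem hom_conj (p q : H4) : F.hom q * F.hom p * (F.hom q)⁻¹ = F.hom (q * p * q⁻¹) := by
  rw [map_mul, map_mul, map_inv]

theorem Z_le_A : F.Z ≤ F.A := by rw [F.Z_eq]; exact inf_le_left

theorem Z_le_B : F.Z ≤ F.B := by rw [F.Z_eq]; exact inf_le_right

theorem Z_le : F.Z ≤ (F.T : Subgroup G) := F.Z_le_A.trans F.A_le

theorem Z_central {z t : G} (hz : z ∈ F.Z) (ht : t ∈ (F.T : Subgroup G)) : t * z = z * t := by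
  obtain ⟨p, hp, rfl⟩ := hz
  obtain ⟨q, rfl⟩ := F.exists_of_mem ht
  rw [← map_mul, ← map_mul, central_subZ p hp.1 hp.2 q]

theorem T_le_centralizer {z : G} (hz : z ∈ F.Z) : (F.T : Subgroup G) ≤ centralizer ({z} : Set G) :=
  fun _ ht => mem_centralizer_singleton_iff.2 (F.Z_central hz ht)

theorem elemB : Cfsg.IsElementaryAbelian 2 F.B := F.swap_A ▸ F.swap.elemA

theorem card_B : Nat.card F.B = 16 := F.swap_A ▸ F.swap.card_A

theorem sq_of_mem {a : G} (ha : a ∈ F.A) : a * a = 1 := by rw [← pow_two]; exact F.elemA.2 a ha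

theorem comm_A {a b : G} (ha : a ∈ F.A) (hb : b ∈ F.A) : a * b = b * a :=
  congrArg Subtype.val (F.elemA.1.is_comm.comm (⟨a, ha⟩ : F.A) ⟨b, hb⟩)

theorem A_le_centralizer {a : G} (ha : a ∈ F.A) : F.A ≤ centralizer ({a} : Set G) := fun _ hb =>
  mem_centralizer_singleton_iff.2 (F.comm_A hb ha)

theorem sq_mem_Z {t : G} (ht : t ∈ (F.T : Subgroup G)) : t * t ∈ F.Z := by
  obtain ⟨p, rfl⟩ := F.exists_of_mem ht
  rw [← map_mul]
  exact F.hom_mem_Z.2 (sq_mem_subZ p)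

theorem invol_cases {t : G} (ht : t ∈ (F.T : Subgroup G)) (h2 : t * t = 1) : t ∈ F.A ∨ t ∈ F.B := by
  obtain ⟨p, rfl⟩ := F.exists_of_mem ht
  exact (sq_cases p (F.hom_injective (by rw [map_mul, map_one]; exact h2))).imp F.hom_mem_A.2 F.hom_mem_B.2

theorem mem_A_of_commute {t q : G} (ht : t ∈ F.A) (htZ : t ∉ F.Z) (hq : q ∈ (F.T : Subgroup G))
    (hc : q * t = t * q) : q ∈ F.A := by
  obtain ⟨p, hp, rfl⟩ := ht
  obtain ⟨r, rfl⟩ := F.exists_of_mem hq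
  exact F.hom_mem_A.2 (comm_out p hp (fun e => htZ (F.hom_mem_Z.2 ⟨hp, e⟩)) r
    (F.hom_injective (by rw [map_mul, map_mul]; exact hc)))

theorem mem_Z_of_commute {v a : G} (hv : v ∈ (F.T : Subgroup G)) (hvA : v ∉ F.A) (ha : a ∈ F.A)
    (hc : v * a = a * v) : a ∈ F.Z := by
  by_contra h
  exact hvA (F.mem_A_of_commute ha h hv hc)

theorem cross {a b : G} (ha : a ∈ F.A) (haZ : a ∉ F.Z) (hb : b ∈ F.B) (hbZ : b ∉ F.Z) : a * b ≠ b * a := by
  intro h
  have h1 := F.mem_A_of_commute ha haZ (F.B_le hb) h.symm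
  exact hbZ (by rw [F.Z_eq]; exact ⟨h1, hb⟩)

theorem T_le_normalizer_A : (F.T : Subgroup G) ≤ normalizer (F.A : Set G) := by
  intro t ht
  obtain ⟨q, rfl⟩ := F.exists_of_mem ht
  rw [mem_normalizer_iff]
  intro x
  constructor
  · rintro ⟨p, hp, rfl⟩
    rw [F.hom_conj]
    exact F.hom_mem_A.2 (by rw [conj_subA p hp q])
  · rintro ⟨p, hp, hpe⟩
    have h := congrArg (fun w => (F.hom q)⁻¹ * w * F.hom q) hpe
    simp only [← mul_assoc, inv_mul_cancel, one_mul, inv_mul_cancel_right] at h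
    rw [← h, ← map_inv, ← map_mul, ← map_mul]
    have h2 := conj_subA p hp q⁻¹
    rw [inv_inv] at h2
    exact F.hom_mem_A.2 (by rw [h2])

/-- given a point outside `Z` and a target in `Z`, some element of the Sylow subgroup shifts it by the target -/
theorem exists_shift {a z : G} (ha : a ∈ F.A) (haZ : a ∉ F.Z) (hz : z ∈ F.Z) :
    ∃ t ∈ (F.T : Subgroup G), t * a * t⁻¹ = a * z := by
  obtain ⟨p, hp, rfl⟩ := ha
  obtain ⟨r, ⟨hrb, hra⟩, rfl⟩ := hz
  obtain ⟨b, hb⟩ := exists_fm p.a r.c fun e => haZ (F.hom_mem_Z.2 ⟨hp, e⟩)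
  refine ⟨F.hom ⟨0, b, 0⟩, F.hom_mem _, ?_⟩
  rw [F.hom_conj, ← map_mul, conj_subA p hp, mul_def]
  congr 1
  refine CfsgLib.Invol.HeisFour.H4.ext' ?_ ?_ ?_
  · show p.a = p.a + r.a
    rw [show r.a = 0 from hra, add_zero]
  · show (0 : V) = p.b + r.b
    rw [show p.b = 0 from hp, show r.b = 0 from hrb, add_zero]
  · show p.c + fm p.a b = p.c + r.c + fm p.a r.b
    rw [hb, show r.b = 0 from hrb, CfsgLib.Invol.HeisFour.fm_zero_right, add_zero]

theorem exists_A_not_Z : ∃ a ∈ F.A, a ∉ F.Z :=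
  ⟨F.hom ⟨(1, 0), 0, 0⟩, F.hom_mem_A.2 rfl, fun h => absurd (F.hom_mem_Z.1 h).2 (show ((1, 0) : V) ≠ 0 by decide)⟩

theorem A_ne_B : F.A ≠ F.B := by
  obtain ⟨a, ha, haZ⟩ := F.exists_A_not_Z
  intro e
  exact haZ (by rw [F.Z_eq]; exact ⟨ha, e ▸ ha⟩)

theorem exists_Z_ne_one : ∃ z ∈ F.Z, z ≠ 1 := by
  obtain ⟨⟨z, hz⟩, hz1⟩ := ne_bot_iff_exists_ne_one.1 (show F.Z ≠ ⊥ from fun e => by
    have := F.card_Z
    rw [e, card_bot] at this
    omega)
  exact ⟨z, hz, fun e => hz1 (Subtype.ext e)⟩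

theorem cent_T {c : G} (hc : c ∈ (F.T : Subgroup G)) (hcc : c ∈ centralizer ((F.T : Subgroup G) : Set G)) :
    c ∈ F.Z := by
  obtain ⟨a, ha, haZ⟩ := F.exists_A_not_Z
  obtain ⟨b, hb, hbZ⟩ := F.swap.exists_A_not_Z
  rw [F.swap_A] at hb
  rw [F.swap_Z] at hbZ
  have h1 := F.mem_A_of_commute ha haZ hc (mem_centralizer_iff.1 hcc a (F.A_le ha)).symm
  have h2 := F.swap.mem_A_of_commute (by rw [F.swap_A]; exact hb) (by rw [F.swap_Z]; exact hbZ) hc
    (mem_centralizer_iff.1 hcc b (F.B_le hb)).symm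
  rw [F.swap_A] at h2
  rw [F.Z_eq]
  exact ⟨h1, h2⟩

/-- an elementary abelian subgroup of order sixteen is one of the two sides -/
theorem eq_A_or_B [Finite G] {E : Subgroup G} (hE : E ≤ (F.T : Subgroup G)) (h16 : Nat.card E = 16)
    (hsq : ∀ x ∈ E, x * x = 1) (hc : ∀ x ∈ E, ∀ y ∈ E, x * y = y * x) : E = F.A ∨ E = F.B := by
  by_cases h : E ≤ F.A
  · exact Or.inl (eq_of_le_of_card_ge h (by rw [h16, F.card_A]))
  · obtain ⟨x, hx, hxA⟩ := SetLike.not_le_iff_exists.1 h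
    have hxB : x ∈ F.B := (F.invol_cases (hE hx) (hsq x hx)).resolve_left hxA
    refine Or.inr (eq_of_le_of_card_ge (fun y hy => ?_) (by rw [h16, F.card_B]))
    rcases F.invol_cases (hE hy) (hsq y hy) with hyA | hyB
    · by_contra hyB
      exact F.cross hyA (fun hyZ => hyB (F.Z_le_B hyZ)) hxB (fun hxZ => hxA (F.Z_le_A hxZ)) (hc y hy x hx)
    · exact hyB

end Frame

end CfsgLib.Invol.L34Type
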