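import Cfsg.Agent.Lib.Invol.L34Type.Plane.Count
import Cfsg.Agent.Lib.Spor.PlaneFour.M21

/-!
# The projective plane of order four: the group embeds in `PGL₃(4)`, and no subgroup of odd order
is transitive on its involutions
-/

set_option autoImplicit false
set_option linter.unusedSectionVars false
set_option linter.style.haveILetI false

namespace CfsgLib.Invol.L34Type

open Subgroup
open CfsgLib.Invol
open CfsgLib.Coprime (conjBy mem_conjBy conj_mem_conjBy conjBy_eq_self_iff conjBy_conjBy conjBy_one card_conjBy)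
open scoped LinearAlgebra.Projectivization

universe u

section model

variable {K : Type*} [Field K]

theorem pgl_toPerm_injective : Function.Injective
    (MulAction.toPermHom (Matrix.ProjGenLinGroup (Fin 3) K) (ℙ K (Fin 3 → K))) := by
  rw [injective_iff_map_eq_one]
  intro x hx
  obtain ⟨g, rfl⟩ := Matrix.ProjGenLinGroup.mk_surjective x
  rw [Matrix.ProjGenLinGroup.mk_eq_one]
  set f : (Fin 3 → K) →ₗ[K] (Fin 3 → K) := Matrix.toLin' (g : Matrix (Fin 3) (Fin 3) K) with hf
  obtain ⟨a, ha⟩ := f.exists_eq_smul_id_of_forall_notLinearIndependent fun v => by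
    by_cases hv : v = 0
    · simp [hv, linearIndependent_fin2]
    · have e : (Matrix.ProjGenLinGroup.mk g) • Projectivization.mk K v hv = Projectivization.mk K v hv :=
        Equiv.ext_iff.1 hx _
      rw [Projectivization.PGL.mk_smul_mk, Projectivization.mk_eq_mk_iff'] at e
      obtain ⟨c, hc⟩ := e
      rw [LinearIndependent.pair_iff' hv]
      push Not
      exact ⟨c, hc.trans rfl⟩
  have hs : (g : Matrix (Fin 3) (Fin 3) K) = a • 1 := by
    have e := congrArg LinearMap.toMatrix' ha
    rw [hf, LinearMap.toMatrix'_toLin'] at e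
    rw [e]
    simp
  refine Subgroup.mem_center_iff.2 fun h => Units.ext ?_
  rw [Units.val_mul, Units.val_mul, hs, Matrix.mul_smul, Matrix.smul_mul, mul_one, one_mul]

variable [Fintype K] [Fintype (ℙ K (Fin 3 → K))] [DecidableEq (ℙ K (Fin 3 → K))]

theorem pgl_mem_aut (x : Matrix.ProjGenLinGroup (Fin 3) K) :
    MulAction.toPermHom (Matrix.ProjGenLinGroup (Fin 3) K) (ℙ K (Fin 3 → K)) x ∈
      Cfsg.setSystemAut (CfsgLib.Spor.Plane.projLines K) := by
  classical
  rw [CfsgLib.Spor.mem_setSystemAut]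
  refine Set.eq_of_subset_of_ncard_le ?_
    (by rw [Set.ncard_image_of_injective _ (Finset.image_injective (Equiv.injective _))]) (Set.toFinite _)
  rintro _ ⟨S, ⟨W, hW, hS⟩, rfl⟩
  obtain ⟨g, rfl⟩ := Matrix.ProjGenLinGroup.mk_surjective x
  let φ : (Fin 3 → K) ≃ₗ[K] (Fin 3 → K) := (Matrix.GeneralLinearGroup.toLin g).toLinearEquiv
  have hact : ∀ x : ℙ K (Fin 3 → K), (Matrix.ProjGenLinGroup.mk g • x).submodule =
      x.submodule.map φ.toLinearMap := by
    intro x
    induction x using Projectivization.ind with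
    | h v hv =>
      rw [Projectivization.PGL.mk_smul_mk, Projectivization.submodule_mk, Projectivization.submodule_mk,
        Submodule.map_span, Set.image_singleton]
      rfl
  refine ⟨W.map φ.toLinearMap, by rw [LinearEquiv.finrank_map_eq, hW], fun x => ?_⟩
  simp only [Finset.mem_image, MulAction.toPermHom_apply, MulAction.toPerm_apply]
  constructor
  · rintro ⟨y, hy, rfl⟩
    rw [hact]
    exact Submodule.map_mono ((hS y).1 hy)
  · intro hx
    refine ⟨(Matrix.ProjGenLinGroup.mk g)⁻¹ • x, (hS _).2 ?_, smul_inv_smul _ _⟩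
    rw [← smul_inv_smul (Matrix.ProjGenLinGroup.mk g) x, hact,
      Submodule.map_le_map_iff_of_injective φ.injective] at hx
    exact hx

theorem card_pgl_three_four (hK : Fintype.card K = 4) :
    Nat.card (Matrix.ProjGenLinGroup (Fin 3) K) = 60480 := by
  rw [CfsgLib.Classical.card_pgl_eq]
  have h := CfsgLib.Classical.card_sl_mul (F := K) (n := 3) (by norm_num)
  rw [hK] at h
  simp only [Fin.prod_univ_three, Fin.val_zero, Fin.val_one, Fin.val_two] at h
  norm_num at h ⊢
  omega

end model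

theorem comm_of_card_le_two {Y : Type*} [Group Y] [Finite Y] (hY : Nat.card Y ≤ 2) (a b : Y) :
    a * b = b * a := by
  have hsq : ∀ y : Y, y * y = 1 := fun y => by
    rw [← pow_two]
    have h1 := orderOf_dvd_natCard y
    have h2 : Nat.card Y = 1 ∨ Nat.card Y = 2 := by
      have := Nat.card_pos (α := Y)
      omega
    exact orderOf_dvd_iff_pow_eq_one.1 (h1.trans (by rcases h2 with e | e <;> rw [e]; exact one_dvd 2))
  calc a * b = (a * b)⁻¹ := eq_inv_of_mul_eq_one_left (hsq _)
    _ = b⁻¹ * a⁻¹ := mul_inv_rev a b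
    _ = b * a := by rw [inv_eq_of_mul_eq_one_right (hsq b), inv_eq_of_mul_eq_one_right (hsq a)]

variable {G : Type u} [Group G] [Finite G]

namespace PlaneHyp

variable {F : Frame G} (h : PlaneHyp F)
include h

/-- nothing fixes all points -/
theorem faithful (hO : Cfsg.oddCore G = ⊥) {g : G} (hg : ∀ P ∈ F.Pts, conjBy g P = P) : g = 1 := by
  let N : Subgroup G :=
    { carrier := {x | ∀ P ∈ F.Pts, conjBy x P = P}
      mul_mem' := fun {x y} hx hy P hP => by rw [← conjBy_conjBy, hy P hP, hx P hP]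
      one_mem' := fun P _ => conjBy_one P
      inv_mem' := fun {x} hx P hP => by
        conv_lhs => rw [← hx P hP, conjBy_conjBy, inv_mul_cancel, conjBy_one] }
  have hgN : g ∈ N := hg
  haveI hN : N.Normal := by
    refine ⟨fun x hx c P hP => ?_⟩
    obtain ⟨k, rfl⟩ := hP
    have hcP : conjBy c⁻¹ (conjBy k F.A) ∈ F.Pts := ⟨c⁻¹ * k, (conjBy_conjBy _ _ _).symm⟩
    rw [← conjBy_conjBy, ← conjBy_conjBy, hx _ hcP, conjBy_conjBy c, conjBy_conjBy, mul_inv_cancel, one_mul]
  rcases Nat.even_or_odd (Nat.card N) with he | ho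
  · exfalso
    obtain ⟨t, ht, hto⟩ := exists_invol_mem he
    obtain ⟨z, hz, hz1⟩ := F.exists_Z_ne_one
    obtain ⟨k, hk⟩ := h.invol_conj_to hz hz1 hto
    have hzN : z ∈ N := by
      have := hN.conj_mem t ht k⁻¹
      rwa [← hk, show k⁻¹ * (k * z * k⁻¹) * k⁻¹⁻¹ = z by group] at this
    have hzo : orderOf z = 2 := orderOf_eq_prime (by rw [pow_two]; exact F.sq_of_mem (F.Z_le_A hz)) hz1
    have hsub : F.Pts ⊆ {P | F.Inc P F.B} := fun P hP => by
      have e := h.fix_point hzo hP (conjBy_eq_self_iff.1 (hzN P hP)) (g := 1)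
        (by rw [conjBy_one]; exact F.Z_le_B hz)
      rwa [conjBy_one] at e
    have e := Set.ncard_le_ncard hsub (Set.toFinite _)
    rw [h.plane_facts.1, h.card_points_at ⟨1, conjBy_one _⟩] at e
    omega
  · have hle : N ≤ Cfsg.oddCore G := CfsgLib.Coprime.le_pPrimeCore (CfsgLib.ProdFusion.odd_iff_coprime.1 ho)
    rw [hO] at hle
    exact mem_bot.1 (hle hgN)

open Cfsg in
/-- **The group embeds in `PGL₃(4)`** -/
theorem exists_embedding (hO : Cfsg.oddCore G = ⊥) {K : Type*} [Field K] [Fintype K] (hK : Fintype.card K = 4) :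
    ∃ f : G →* GL (Fin 3) K ⧸ Subgroup.center (GL (Fin 3) K), Function.Injective f := by
  classical
  obtain ⟨h21, -, hline⟩ := h.plane_facts
  let Pts := {P : Subgroup G // P ∈ F.Pts}
  haveI : Fintype Pts := Fintype.ofFinite _
  have hPts : Fintype.card Pts = 21 := by
    rw [← Nat.card_eq_fintype_card, ← h21, ← Nat.card_coe_set_eq]
  let φ : G →* Equiv.Perm Pts :=
    { toFun := fun x =>
        { toFun := fun P => ⟨conjBy x P.1, by
            obtain ⟨g, hg⟩ := P.2; exact ⟨x * g, by rw [← conjBy_conjBy, hg]⟩⟩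
          invFun := fun P => ⟨conjBy x⁻¹ P.1, by
            obtain ⟨g, hg⟩ := P.2; exact ⟨x⁻¹ * g, by rw [← conjBy_conjBy, hg]⟩⟩
          left_inv := fun P => Subtype.ext (by simp [conjBy_conjBy, conjBy_one])
          right_inv := fun P => Subtype.ext (by simp [conjBy_conjBy, conjBy_one]) }
      map_one' := Equiv.ext fun P => Subtype.ext (by simp [conjBy_one])
      map_mul' := fun x y => Equiv.ext fun P => Subtype.ext (by simp [conjBy_conjBy]) }
  have hφ : Function.Injective φ := by
    rw [injective_iff_map_eq_one]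
    exact fun g hg => h.faithful hO fun P hP => congrArg Subtype.val (Equiv.ext_iff.1 hg ⟨P, hP⟩)
  let blk : Subgroup G → Finset Pts := fun L => Finset.univ.filter fun P => F.Inc P.1 L
  let B : Set (Finset Pts) := blk '' {L : Subgroup G | ∃ g, conjBy g F.B = L}
  have hB : IsSteinerSystem 2 5 B := by
    refine ⟨?_, fun s hs => ?_⟩
    · rintro _ ⟨L, hL, rfl⟩
      have e : (blk L).map (Function.Embedding.subtype _) =
          (Set.toFinite {P : Subgroup G | F.Inc P L}).toFinset := by
        ext P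
        simp only [blk, Finset.mem_map, Finset.mem_filter, Finset.mem_univ, true_and,
          Function.Embedding.coe_subtype, Set.Finite.mem_toFinset, Set.mem_ofPred_eq]
        refine ⟨fun ⟨P', hP', e⟩ => e ▸ hP', fun hP => ⟨⟨P, ?_⟩, hP, rfl⟩⟩
        obtain ⟨g, h1, -⟩ := hP
        exact ⟨g, h1⟩
      rw [← Finset.card_map (Function.Embedding.subtype _), e, ← Set.ncard_eq_toFinset_card]
      exact h.card_points_at hL
    · obtain ⟨P, Q, hne, rfl⟩ := Finset.card_eq_two.1 hs
      obtain ⟨L, hPL, hQL⟩ := hline P.1 Q.1 P.2 Q.2 fun e => hne (Subtype.ext e)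
      refine ⟨blk L, ⟨⟨L, by obtain ⟨g, -, hg⟩ := hPL; exact ⟨g, hg⟩, rfl⟩, ?_⟩, ?_⟩
      · intro X hX
        simp only [Finset.mem_insert, Finset.mem_singleton] at hX
        rcases hX with rfl | rfl <;> simp [blk, hPL, hQL]
      · rintro _ ⟨⟨L', -, rfl⟩, hsub⟩
        have h1 := hsub (Finset.mem_insert_self P {Q})
        have h2 := hsub (Finset.mem_insert_of_mem (Finset.mem_singleton_self Q))
        simp only [blk, Finset.mem_filter, Finset.mem_univ, true_and] at h1 h2
        rw [h.line_unique (fun e => hne (Subtype.ext e)) hPL hQL h1 h2]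
  have hmemB : ∀ x, φ x ∈ setSystemAut B := by
    intro x
    rw [CfsgLib.Spor.mem_setSystemAut]
    refine Set.eq_of_subset_of_ncard_le ?_
      (by rw [Set.ncard_image_of_injective _ (Finset.image_injective (Equiv.injective _))]) (Set.toFinite _)
    rintro _ ⟨_, ⟨L, ⟨g, hg⟩, rfl⟩, rfl⟩
    refine ⟨conjBy x L, ⟨x * g, by rw [← conjBy_conjBy, hg]⟩, ?_⟩
    ext P
    simp only [blk, Finset.mem_filter, Finset.mem_univ, true_and, Finset.mem_image]
    constructor
    · intro hP
      refine ⟨φ x⁻¹ P, ?_, by rw [← Equiv.Perm.mul_apply, ← map_mul, mul_inv_cancel, map_one]; rfl⟩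
      have e := F.inc_conj hP x⁻¹
      rw [conjBy_conjBy, inv_mul_cancel, conjBy_one] at e
      exact e
    · rintro ⟨P', hP', rfl⟩
      exact F.inc_conj hP' x
  haveI : Fintype (ℙ K (Fin 3 → K)) := Fintype.ofFinite _
  obtain ⟨f1, hf1⟩ := CfsgLib.Spor.Plane.steiner21 hPts hB
  obtain ⟨f2, hf2⟩ := CfsgLib.Spor.Plane.steiner21 (CfsgLib.Spor.Plane.card_points K hK)
    (CfsgLib.Spor.Plane.projLines_steiner K hK)
  let e : Pts ≃ ℙ K (Fin 3 → K) := f1.trans f2.symm
  have he : (fun b : Finset Pts => b.image e) '' B = CfsgLib.Spor.Plane.projLines K := by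
    rw [← CfsgLib.Spor.image_trans hf2, ← hf1]
    simp only [B, Set.image_image]
    refine Set.image_congr' fun b => ?_
    simp [e, Finset.image_image]
  set A := setSystemAut (CfsgLib.Spor.Plane.projLines K)
  let φ₁ : G →* A := (CfsgLib.Spor.autEquiv e he).toMonoidHom.comp (φ.codRestrict _ hmemB)
  have h1 : Function.Injective φ₁ := (CfsgLib.Spor.autEquiv e he).injective.comp fun a b he =>
    hφ (congrArg Subtype.val he)
  let φ₂ : Matrix.ProjGenLinGroup (Fin 3) K →* A :=
    (MulAction.toPermHom _ _).codRestrict _ pgl_mem_aut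
  have h2 : Function.Injective φ₂ := fun a b he => pgl_toPerm_injective (congrArg Subtype.val he)
  set R := φ₂.range with hR
  have hidx : R.index ≤ 2 := by
    have e1 := Subgroup.index_mul_card R
    rw [hR, ← Nat.card_congr (MonoidHom.ofInjective h2).toEquiv, card_pgl_three_four hK] at e1
    have hA : Nat.card A ≤ 120960 := CfsgLib.Spor.Plane.card_le21 (CfsgLib.Spor.Plane.card_points K hK)
      (CfsgLib.Spor.Plane.projLines_steiner K hK)
    rw [hR]
    omega
  haveI : R.Normal := by
    rcases Nat.lt_or_ge R.index 2 with h' | h'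
    · rw [Subgroup.index_eq_one.1 (show R.index = 1 by
        have := Nat.pos_of_ne_zero (Subgroup.index_ne_zero_of_finite (H := R)); omega)]
      infer_instance
    · exact Subgroup.normal_of_index_eq_two (by omega)
  let χ : G →* A ⧸ R := (QuotientGroup.mk' R).comp φ₁
  have hcomm : ∀ a b : A ⧸ R, a * b = b * a := comm_of_card_le_two (by rw [← Subgroup.index_eq_card]; exact hidx)
  -- the centre of the Sylow subgroup consists of commutators
  have hZ : ∀ z ∈ F.Z, χ z = 1 := by
    rintro _ ⟨p, hp, rfl⟩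
    have e : p = ⟨(1, 0), 0, 0⟩ * ⟨0, p.c, 0⟩ * (⟨(1, 0), 0, 0⟩)⁻¹ * (⟨0, p.c, 0⟩)⁻¹ := by
      rw [comm_value]
      refine CfsgLib.Invol.HeisFour.H4.ext' hp.2 hp.1 ?_
      show p.c = CfsgLib.Invol.HeisFour.fm (1, 0) p.c + CfsgLib.Invol.HeisFour.fm 0 0
      rw [fm_one, CfsgLib.Invol.HeisFour.fm_zero_left, add_zero]
    rw [e, map_mul, map_mul, map_mul, map_inv, map_inv, map_mul, map_mul, map_mul, map_inv, map_inv, hcomm (χ _) (χ _),
      mul_inv_cancel_right, mul_inv_cancel]
  have hinvol : ∀ u : G, u * u = 1 → χ u = 1 := by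
    intro u hu
    by_cases hu1 : u = 1
    · rw [hu1, map_one]
    · obtain ⟨g, hg⟩ := h.invol_to_Z (invol_iff.2 ⟨hu, hu1⟩)
      have e := hZ _ hg
      rw [map_mul, map_mul, map_inv, hcomm (χ g), mul_inv_cancel_right] at e
      exact e
  have hker : χ.ker = ⊤ := by
    have hT : (F.T : Subgroup G) ≤ χ.ker := by
      rw [← F.sup_AB]
      refine sup_le (fun x hx => MonoidHom.mem_ker.2 (hinvol x (F.sq_of_mem hx)))
        (fun x hx => MonoidHom.mem_ker.2 (hinvol x ?_))
      exact F.swap.sq_of_mem (F.swap_A.symm ▸ hx)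
    have h1' : ¬ 2 ∣ χ.ker.index := fun hd =>
      F.not_dvd_index (hd.trans (Subgroup.index_dvd_of_le hT))
    have h2' : χ.ker.index ≤ 2 := by
      rw [Subgroup.index_ker]
      refine le_trans (Nat.card_le_card_of_injective _ Subtype.val_injective) ?_
      rw [← Subgroup.index_eq_card]
      exact hidx
    refine Subgroup.index_eq_one.1 ?_
    have := Nat.pos_of_ne_zero (Subgroup.index_ne_zero_of_finite (H := χ.ker))
    omega
  have hmem : ∀ g, φ₁ g ∈ φ₂.range := fun g => by
    have e : χ g = 1 := MonoidHom.mem_ker.1 (by rw [hker]; exact mem_top g)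
    exact (QuotientGroup.eq_one_iff _).1 e
  exact ⟨(MonoidHom.ofInjective h2).symm.toMonoidHom.comp (φ₁.codRestrict _ hmem),
    (MonoidHom.ofInjective h2).symm.injective.comp fun a b he => h1 (congrArg Subtype.val he)⟩

/-- **No subgroup of odd order is transitive on the involutions** -/
theorem not_odd_transitive (hO : Cfsg.oddCore G = ⊥) (D : Subgroup G) (hD : Odd (Nat.card D))
    (htr : ∀ i j : G, orderOf i = 2 → orderOf j = 2 → ∃ d ∈ D, d * i * d⁻¹ = j) : False := by
  classical
  haveI := Fact.mk (show Nat.Prime 5 by norm_num)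
  haveI := Fact.mk (show Nat.Prime 7 by norm_num)
  obtain ⟨h21, h315, -⟩ := h.plane_facts
  obtain ⟨z, hz, hz1⟩ := F.exists_Z_ne_one
  have hzo : orderOf z = 2 := orderOf_eq_prime (by rw [pow_two]; exact F.sq_of_mem (F.Z_le_A hz)) hz1
  have e1 : Nat.card D = 315 * Nat.card (D ⊓ centralizer ({z} : Set G) : Subgroup G) := by
    rw [← h315, ← Nat.card_coe_set_eq]
    refine card_eq_mul inf_le_left
      (fun d : D => (⟨(d : G) * z * (d : G)⁻¹, invol_conj hzo d⟩ : {u : G | orderOf u = 2}))
      (fun u => by obtain ⟨d, hd, e⟩ := htr z u hzo u.2; exact ⟨⟨d, hd⟩, Subtype.ext e⟩) fun a b => ?_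
    rw [Subtype.ext_iff, mem_inf, mem_centralizer_singleton_iff]
    constructor
    · intro e
      replace e : (a : G) * z * (a : G)⁻¹ = b * z * (b : G)⁻¹ := e
      refine ⟨mul_mem (inv_mem a.2) b.2, ?_⟩
      calc (a : G)⁻¹ * b * z = (a : G)⁻¹ * (b * z * (b : G)⁻¹) * b := by group
        _ = (a : G)⁻¹ * (a * z * (a : G)⁻¹) * b := by rw [e]
        _ = z * ((a : G)⁻¹ * b) := by group
    · rintro ⟨-, e⟩
      show (a : G) * z * (a : G)⁻¹ = b * z * (b : G)⁻¹
      calc (a : G) * z * (a : G)⁻¹ = a * (z * ((a : G)⁻¹ * b)) * (b : G)⁻¹ := by group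
        _ = a * ((a : G)⁻¹ * b * z) * (b : G)⁻¹ := by rw [e]
        _ = b * z * (b : G)⁻¹ := by group
  have e2 : Nat.card D = 21 * Nat.card (D ⊓ normalizer (F.A : Set G) : Subgroup G) := by
    rw [← h21, ← Nat.card_coe_set_eq]
    refine card_eq_mul inf_le_left (fun d : D => (⟨conjBy (d : G) F.A, d, rfl⟩ : F.Pts)) (fun P => ?_) fun a b => ?_
    · obtain ⟨g, hg⟩ := P.2
      obtain ⟨d, hd, e⟩ := htr z (g * z * g⁻¹) hzo (invol_conj hzo g)
      refine ⟨⟨d, hd⟩, Subtype.ext ?_⟩
      show conjBy d F.A = P.1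
      have hn : g⁻¹ * d ∈ normalizer (F.A : Set G) := F.N_T_le_A (h.cent z hz hz1 (mem_centralizer_singleton_iff.2 (by
        calc g⁻¹ * d * z = g⁻¹ * (d * z * d⁻¹) * d := by group
          _ = z * (g⁻¹ * d) := by rw [e]; group)))
      rw [← hg]
      conv_rhs => rw [← conjBy_eq_self_iff.2 hn, conjBy_conjBy, mul_inv_cancel_left]
    · rw [Subtype.ext_iff, mem_inf, ← conjBy_eq_self_iff]
      constructor
      · intro e
        replace e : conjBy (a : G) F.A = conjBy (b : G) F.A := e
        exact ⟨mul_mem (inv_mem a.2) b.2, by rw [← conjBy_conjBy, ← e, conjBy_conjBy, inv_mul_cancel, conjBy_one]⟩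
      · rintro ⟨-, e⟩
        show conjBy (a : G) F.A = conjBy (b : G) F.A
        conv_lhs => rw [← e, conjBy_conjBy, mul_inv_cancel_left]
  set S := D ⊓ normalizer (F.A : Set G) with hS
  -- the orders
  have hd3 : Nat.card (D ⊓ centralizer ({z} : Set G) : Subgroup G) ∣ 3 := by
    set E := (D ⊓ centralizer ({z} : Set G) : Subgroup G)
    have hEo : Odd (Nat.card E) := hD.of_dvd_nat (Subgroup.card_dvd_of_le inf_le_left)
    refine Nat.Coprime.dvd_of_dvd_mul_left ((Nat.coprime_two_right.2 hEo).pow_right 6)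
      ((Subgroup.card_dvd_of_le (inf_le_right : E ≤ _)).trans ?_)
    rw [h.cent_eq hz hz1]
    rcases h.card_CZ with e | e <;> rw [e] <;> norm_num
  have hcases : (Nat.card D = 315 ∧ Nat.card S = 15) ∨ (Nat.card D = 945 ∧ Nat.card S = 45) := by
    rcases (Nat.dvd_prime Nat.prime_three).1 hd3 with e | e <;> rw [e] at e1 <;> omega
  have hS45 : Nat.card S ∣ 45 := by rcases hcases with ⟨-, e⟩ | ⟨-, e⟩ <;> rw [e]; norm_num
  obtain ⟨f, hf⟩ := exists_prime_orderOf_dvd_card' (G := S) 5
    (by rcases hcases with ⟨-, e⟩ | ⟨-, e⟩ <;> rw [e] <;> norm_num)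
  have hfc := (five_central hS45 hf).2
  let fD : D := ⟨(f : G), f.2.1⟩
  have hfDo : orderOf fD = 5 := by rw [Subgroup.orderOf_mk, Subgroup.orderOf_coe]; exact hf
  have hPc : Nat.card (zpowers fD) = 5 ^ 1 := by rw [Nat.card_zpowers, hfDo, pow_one]
  have hPi : (zpowers fD).index = 63 ∨ (zpowers fD).index = 189 := by
    have e := (zpowers fD).card_mul_index
    rw [hPc] at e
    rcases hcases with ⟨eD, -⟩ | ⟨eD, -⟩ <;> rw [eD] at e <;> omega
  let P : Sylow 5 D := (IsPGroup.of_card hPc : IsPGroup 5 (zpowers fD)).toSylow (by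
    rcases hPi with e | e <;> rw [e] <;> norm_num)
  have hPeq : (P : Subgroup D) = zpowers fD := rfl
  have hn5 : Nat.card (Sylow 5 D) = 1 ∨ Nat.card (Sylow 5 D) = 21 := by
    have h1 : Nat.card (Sylow 5 D) ∣ 189 := (Sylow.card_dvd_index P).trans (by
      rw [hPeq]; rcases hPi with e | e <;> rw [e]; norm_num)
    have h2 := card_sylow_modEq_one 5 D
    have hmem := Nat.mem_divisors.2 ⟨h1, by norm_num⟩
    rw [show Nat.divisors 189 = {1, 3, 7, 9, 21, 27, 63, 189} by decide] at hmem
    simp only [Finset.mem_insert, Finset.mem_singleton] at hmem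
    rcases hmem with e | e | e | e | e | e | e | e <;> rw [e] at h2 ⊢ <;> simp [Nat.ModEq] at h2 ⊢
  rcases hn5 with e5 | e5
  · -- the subgroup of order five would fix every point
    haveI := (Nat.card_eq_one_iff_unique.1 e5).1
    have hPn : (P : Subgroup D).Normal := P.normal_of_subsingleton
    refine absurd (h.faithful hO (g := (f : G)) ?_) (fun e => by
      have : orderOf fD = 1 := by rw [Subgroup.orderOf_mk, e, orderOf_one]
      omega)
    rintro _ ⟨g, rfl⟩
    obtain ⟨d, hd, e⟩ := htr z (g * z * g⁻¹) hzo (invol_conj hzo g)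
    have hn : g⁻¹ * d ∈ normalizer (F.A : Set G) := F.N_T_le_A (h.cent z hz hz1 (mem_centralizer_singleton_iff.2 (by
      calc g⁻¹ * d * z = g⁻¹ * (d * z * d⁻¹) * d := by group
        _ = z * (g⁻¹ * d) := by rw [e]; group)))
    have hgd : conjBy g F.A = conjBy d F.A := by
      conv_lhs => rw [← conjBy_eq_self_iff.2 hn, conjBy_conjBy, mul_inv_cancel_left]
    obtain ⟨i, hi⟩ := mem_zpowers_iff.1 (hPn.conj_mem fD (mem_zpowers fD) ⟨d⁻¹, inv_mem hd⟩)
    have hi' : (f : G) ^ i = d⁻¹ * f * d := by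
      have := congrArg Subtype.val hi
      simpa [fD] using this
    have hmem : d⁻¹ * (f : G) * d ∈ normalizer (F.A : Set G) := hi' ▸ (normalizer (F.A : Set G)).zpow_mem f.2.2 i
    rw [hgd, conjBy_conjBy, show (f : G) * d = d * (d⁻¹ * f * d) by group, ← conjBy_conjBy,
      conjBy_eq_self_iff.2 hmem]
  · have hNc : Nat.card (normalizer ((P : Subgroup D) : Set D)) = Nat.card S := by
      have e := (normalizer ((P : Subgroup D) : Set D)).card_mul_index
      have e' : (normalizer ((P : Subgroup D) : Set D)).index = 21 := (Sylow.card_eq_index_normalizer P).symm.trans e5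
      rw [e', e2, mul_comm 21] at e
      exact Nat.eq_of_mul_eq_mul_right (by norm_num) e
    have hScomm : ∀ x ∈ S.subgroupOf D, x * fD = fD * x := fun x hx => Subtype.ext (by
      have := congrArg Subtype.val (hfc ⟨(x : G), mem_subgroupOf.1 hx⟩)
      exact this)
    have hNS : normalizer ((P : Subgroup D) : Set D) = S.subgroupOf D := by
      refine (eq_of_le_of_card_ge (fun x hx => ?_) ?_).symm
      · refine CfsgLib.ProdFusion.mem_of_forall_conj_mem fun y hy => ?_
        obtain ⟨i, rfl⟩ := mem_zpowers_iff.1 (show y ∈ zpowers fD from hy)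
        have hc : Commute x fD := hScomm x hx
        rw [(hc.zpow_right i).eq, mul_inv_cancel_right]
        exact zpow_mem (mem_zpowers fD) i
      · rw [hNc, Nat.card_congr (subgroupOfEquivOfLe (inf_le_left : S ≤ D)).toEquiv]
    have hNC : normalizer ((P : Subgroup D) : Set D) ≤ centralizer ((P : Subgroup D) : Set D) := fun x hx =>
      mem_centralizer_iff.2 fun y hy => by
        obtain ⟨i, rfl⟩ := mem_zpowers_iff.1 (show y ∈ zpowers fD from hy)
        have hc : Commute x fD := hScomm x (hNS ▸ hx)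
        exact (hc.zpow_right i).eq.symm
    have hcomp := MonoidHom.ker_transferSylow_isComplement' P hNC
    set M := (MonoidHom.transferSylow P hNC).ker with hM
    have hMc : Nat.card M = 63 ∨ Nat.card M = 189 := by
      have e := hcomp.card_mul_card
      rw [hPeq, hPc] at e
      rcases hcases with ⟨eD, -⟩ | ⟨eD, -⟩ <;> rw [eD] at e <;> omega
    obtain ⟨q, hq⟩ := exists_prime_orderOf_dvd_card' (G := M) 7
      (by rcases hMc with e | e <;> rw [e] <;> norm_num)
    have hQc : Nat.card (zpowers q) = 7 ^ 1 := by rw [Nat.card_zpowers, hq, pow_one]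
    have hQi : (zpowers q).index = 9 ∨ (zpowers q).index = 27 := by
      have e := (zpowers q).card_mul_index
      rw [hQc] at e
      rcases hMc with eM | eM <;> rw [eM] at e <;> omega
    let Q : Sylow 7 M := (IsPGroup.of_card hQc : IsPGroup 7 (zpowers q)).toSylow (by
      rcases hQi with e | e <;> rw [e] <;> norm_num)
    have hn7 : Nat.card (Sylow 7 M) = 1 := by
      have h1 : Nat.card (Sylow 7 M) ∣ 27 := (Sylow.card_dvd_index Q).trans (by
        show (zpowers q).index ∣ 27
        rcases hQi with e | e <;> rw [e]; norm_num)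
      have h2 := card_sylow_modEq_one 7 M
      have hmem := Nat.mem_divisors.2 ⟨h1, by norm_num⟩
      rw [show Nat.divisors 27 = {1, 3, 9, 27} by decide] at hmem
      simp only [Finset.mem_insert, Finset.mem_singleton] at hmem
      rcases hmem with e | e | e | e <;> rw [e] at h2 ⊢ <;> simp [Nat.ModEq] at h2
    haveI := (Nat.card_eq_one_iff_unique.1 hn7).1
    have huniq : ∀ y : M, orderOf y = 7 → y ∈ zpowers q := fun y hy => by
      obtain ⟨R, hR⟩ := (IsPGroup.of_card (n := 1) (by rw [Nat.card_zpowers, hy, pow_one]) :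
        IsPGroup 7 (zpowers y)).exists_le_sylow
      rw [Subsingleton.elim R Q] at hR
      exact hR (mem_zpowers y)
    let qD : D := (q : D)
    have hqDo : orderOf qD = 7 := by rw [Subgroup.orderOf_coe]; exact hq
    have hfN : fD ∈ normalizer (zpowers qD : Set D) := by
      refine CfsgLib.ProdFusion.mem_of_forall_conj_mem fun y hy => ?_
      obtain ⟨i, rfl⟩ := mem_zpowers_iff.1 hy
      have hm : fD * qD * fD⁻¹ ∈ M := (inferInstance : M.Normal).conj_mem qD q.2 fD
      obtain ⟨j, hj⟩ := mem_zpowers_iff.1 (huniq ⟨_, hm⟩ (by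
        rw [Subgroup.orderOf_mk]; exact (MulEquiv.orderOf_eq (MulAut.conj fD) qD).trans hqDo))
      rw [← conj_zpow]
      refine zpow_mem (mem_zpowers_iff.2 ⟨j, ?_⟩) i
      have := congrArg Subtype.val hj
      simpa [qD] using this
    have hcard6 : Nat.card (MulAut (zpowers qD)) = 6 := by
      rw [IsCyclic.card_mulAut, Nat.card_zpowers, hqDo]; rfl
    have ho1 : orderOf ((zpowers qD).normalizerMonoidHom ⟨fD, hfN⟩) ∣ 6 := hcard6 ▸ orderOf_dvd_natCard _
    have ho2 : orderOf ((zpowers qD).normalizerMonoidHom ⟨fD, hfN⟩) ∣ 5 :=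
      (orderOf_map_dvd _ _).trans (dvd_of_eq (by rw [Subgroup.orderOf_mk]; exact hfDo))
    have hone := orderOf_eq_one_iff.1 (Nat.eq_one_of_dvd_one (Nat.dvd_gcd ho1 ho2))
    have hcq : fD * qD * fD⁻¹ = qD :=
      congrArg (fun α : MulAut (zpowers qD) => ((α ⟨qD, mem_zpowers qD⟩ : zpowers qD) : D)) hone
    have hqN : qD ∈ normalizer ((P : Subgroup D) : Set D) := by
      refine CfsgLib.ProdFusion.mem_of_forall_conj_mem fun y hy => ?_
      obtain ⟨i, rfl⟩ := mem_zpowers_iff.1 (show y ∈ zpowers fD from hy)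
      have hc : Commute qD fD := (mul_inv_eq_iff_eq_mul.1 hcq).symm
      rw [(hc.zpow_right i).eq, mul_inv_cancel_right]
      exact zpow_mem (mem_zpowers fD) i
    have hdvd := Subgroup.orderOf_dvd_natCard _ hqN
    rw [hqDo, hNc] at hdvd
    rcases hcases with ⟨-, e⟩ | ⟨-, e⟩ <;> rw [e] at hdvd <;> norm_num at hdvd

end PlaneHyp

end CfsgLib.Invol.L34Type
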