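import Cfsg.Agent.Lib.Invol.L34Type.Fusion
import Mathlib.Dynamics.PeriodicPts.Lemmas

/-!
# Automorphisms of odd order of the Sylow two-subgroup act by scalars
-/

set_option autoImplicit false
set_option linter.unusedSectionVars false

namespace CfsgLib.Invol.L34Type

open Subgroup
open CfsgLib.Invol.HeisFour (V fm H4 mul_def one_def inv_def)

/-- The additive map with given images of the basis. -/
def lin (u v a : V) : V := (a.1 * u.1 + a.2 * v.1, a.1 * u.2 + a.2 * v.2)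

theorem lin_six : ∀ u v : V, (∀ a b : V, lin u v a = lin u v b → a = b) → ∀ a : V, (lin u v)^[6] a = a := by
  decide +kernel

theorem lin_three : ∀ u v : V, (∀ a : V, (lin u v)^[3] a = a) → ∃ l : V, l ≠ 0 ∧ ∀ a : V, lin u v a = fm l a := by
  decide +kernel

theorem eq_lin {f : V → V} (hf : ∀ a b, f (a + b) = f a + f b) : f = lin (f (1, 0)) (f (0, 1)) := by
  have h0 : f 0 = 0 := by simpa using hf 0 0
  funext a
  rcases CfsgLib.Invol.HeisFour.v_cases a with rfl | rfl | rfl | rfl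
  · simp [lin, h0, Prod.ext_iff]
  · simp [lin]
  · simp [lin]
  · rw [hf]; simp [lin, Prod.ext_iff]

theorem scalar_of_periodic {f : V → V} (hf : ∀ a b, f (a + b) = f a + f b) {N : ℕ} (hN : Odd N)
    (hfix : ∀ a, f^[N] a = a) : ∃ l : V, l ≠ 0 ∧ ∀ a, f a = fm l a := by
  have hinj : Function.Injective f := by
    intro a b hab
    obtain ⟨k, rfl⟩ := hN
    rw [← hfix a, ← hfix b]
    show f^[2 * k] (f a) = f^[2 * k] (f b)
    rw [hab]
  rw [eq_lin hf] at hfix hinj ⊢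
  refine lin_three _ _ fun a => ?_
  have h6 : Function.IsPeriodicPt (lin (f (1, 0)) (f (0, 1))) 6 a := lin_six _ _ (fun a b h => hinj h) a
  have hg := (show Function.IsPeriodicPt (lin (f (1, 0)) (f (0, 1))) N a from hfix a).gcd h6
  refine hg.trans_dvd ?_
  have h3 : Nat.Coprime (Nat.gcd N 6) 2 :=
    (Nat.coprime_two_right.2 hN).coprime_dvd_left (Nat.gcd_dvd_left N 6)
  exact h3.dvd_of_dvd_mul_left (show Nat.gcd N 6 ∣ 2 * 3 from Nat.gcd_dvd_right N 6)

theorem a_split : ∀ p : H4, p = ⟨0, p.b, p.c⟩ * ⟨p.a, 0, 0⟩ := by decide +kernel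

theorem b_split : ∀ p : H4, p = ⟨p.a, 0, p.c + fm p.a p.b⟩ * ⟨0, p.b, 0⟩ := by decide +kernel

theorem comm_value : ∀ p q : H4, p * q * p⁻¹ * q⁻¹ = ⟨0, 0, fm p.a q.b + fm q.a p.b⟩ := by decide +kernel

theorem fm_swap4 : ∀ l m a b : V, fm (fm l a) (fm m b) = fm (fm l m) (fm a b) := by decide +kernel

theorem fm_one : ∀ a : V, fm (1, 0) a = a := by decide +kernel

theorem aut_scalar_a (α : MulAut H4) (hα : Odd (orderOf α)) (hB : ∀ p, p.a = 0 → (α p).a = 0) :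
    ∃ l : V, l ≠ 0 ∧ ∀ p, (α p).a = fm l p.a := by
  set f : V → V := fun a => (α ⟨a, 0, 0⟩).a with hf
  have hgen : ∀ p, (α p).a = f p.a := fun p => by
    conv_lhs => rw [a_split p, map_mul, mul_def]
    rw [hB ⟨0, p.b, p.c⟩ rfl, zero_add]
  have hadd : ∀ a b, f (a + b) = f a + f b := fun a b => by
    show (α ⟨a + b, 0, 0⟩).a = (α ⟨a, 0, 0⟩).a + (α ⟨b, 0, 0⟩).a
    have e : (⟨a + b, 0, 0⟩ : H4) = ⟨a, 0, 0⟩ * ⟨b, 0, 0⟩ := by
      rw [mul_def]
      refine CfsgLib.Invol.HeisFour.H4.ext' rfl (add_zero _).symm ?_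
      show (0 : V) = 0 + 0 + fm a 0
      rw [CfsgLib.Invol.HeisFour.fm_zero_right]; simp
    rw [e, map_mul, mul_def]
  have hit : ∀ k : ℕ, ∀ p, ((α ^ k) p).a = f^[k] p.a := by
    intro k
    induction k with
    | zero => intro p; rfl
    | succ k ih =>
      intro p
      rw [pow_succ', MulAut.mul_apply, hgen, ih, Function.iterate_succ_apply']
  obtain ⟨l, hl0, hl⟩ := scalar_of_periodic hadd hα fun a => by
    have h := hit (orderOf α) ⟨a, 0, 0⟩
    rw [pow_orderOf_eq_one] at h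
    exact h.symm
  exact ⟨l, hl0, fun p => (hgen p).trans (hl _)⟩

theorem swap_swap (p : H4) : swapEquiv (swapEquiv p) = p := swapFun_swapFun p

/-- odd automorphisms preserving both sides are given by two scalars -/
theorem aut_scalar (α : MulAut H4) (hα : Odd (orderOf α)) (hA : ∀ p, p.b = 0 → (α p).b = 0)
    (hB : ∀ p, p.a = 0 → (α p).a = 0) :
    ∃ l m : V, l ≠ 0 ∧ m ≠ 0 ∧ (∀ p, (α p).a = fm l p.a ∧ (α p).b = fm m p.b) ∧
      ∀ c, α ⟨0, 0, c⟩ = ⟨0, 0, fm (fm l m) c⟩ := by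
  obtain ⟨l, hl0, hl⟩ := aut_scalar_a α hα hB
  set β : MulAut H4 := (MulAut.congr swapEquiv) α with hβ
  have hβ_apply : ∀ p, β p = swapEquiv (α (swapEquiv.symm p)) := fun p => rfl
  obtain ⟨m, hm0, hm⟩ := aut_scalar_a β (by rw [hβ, MulEquiv.orderOf_eq]; exact hα) fun p hp => by
    rw [hβ_apply]
    exact hA (swapEquiv.symm p) hp
  have hmb : ∀ p, (α p).b = fm m p.b := fun p => by
    have h := hm (swapEquiv p)
    rw [hβ_apply, MulEquiv.symm_apply_apply] at h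
    exact h
  refine ⟨l, m, hl0, hm0, fun p => ⟨hl p, hmb p⟩, fun c => ?_⟩
  have e : (⟨0, 0, c⟩ : H4) = ⟨(1, 0), 0, 0⟩ * ⟨0, c, 0⟩ * (⟨(1, 0), 0, 0⟩)⁻¹ * (⟨0, c, 0⟩)⁻¹ := by
    rw [comm_value]
    refine CfsgLib.Invol.HeisFour.H4.ext' rfl rfl ?_
    show c = fm (1, 0) c + fm 0 0
    rw [fm_one, CfsgLib.Invol.HeisFour.fm_zero_left, add_zero]
  conv_lhs => rw [e, map_mul, map_mul, map_mul, map_inv, map_inv, comm_value]
  refine CfsgLib.Invol.HeisFour.H4.ext' rfl rfl ?_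
  show fm (α _).a (α _).b + fm (α _).a (α _).b = fm (fm l m) c
  rw [hl, hl, hmb, hmb]
  show fm (fm l (1, 0)) (fm m c) + fm (fm l 0) (fm m 0) = _
  rw [fm_swap4 l m (1, 0) c, fm_one, CfsgLib.Invol.HeisFour.fm_zero_right l, CfsgLib.Invol.HeisFour.fm_zero_left,
    add_zero]

/-- an odd automorphism trivial modulo the centre and on it is trivial -/
theorem aut_eq_one (α : MulAut H4) (hα : Odd (orderOf α)) (h : ∀ p, (α p).a = p.a ∧ (α p).b = p.b)
    (hc : ∀ c, α ⟨0, 0, c⟩ = ⟨0, 0, c⟩) : α = 1 := by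
  refine MulEquiv.ext fun p => ?_
  set ζ := p⁻¹ * α p with hζ
  have hζZ : ζ.a = 0 ∧ ζ.b = 0 := by
    rw [hζ, mul_def, inv_def]
    exact ⟨by show p.a + (α p).a = 0; rw [(h p).1, CfsgLib.Invol.HeisFour.self_add],
      by show p.b + (α p).b = 0; rw [(h p).2, CfsgLib.Invol.HeisFour.self_add]⟩
  have hζfix : α ζ = ζ := by
    have e : ζ = ⟨0, 0, ζ.c⟩ := CfsgLib.Invol.HeisFour.H4.ext' hζZ.1 hζZ.2 rfl
    rw [e, hc]
  have hit : ∀ k : ℕ, (α ^ k) p = p * ζ ^ k := by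
    intro k
    induction k with
    | zero => simp
    | succ k ih =>
      rw [pow_succ', MulAut.mul_apply, ih, map_mul, map_pow, hζfix, pow_succ', ← mul_assoc,
        show α p = p * ζ by rw [hζ, mul_inv_cancel_left]]
  obtain ⟨k, hk⟩ := hα
  have h2 : ζ * ζ = 1 := mul_self_subA ζ hζZ.2
  have h1 := hit (orderOf α)
  rw [pow_orderOf_eq_one, MulAut.one_apply, hk, pow_succ, pow_mul, pow_two, h2, one_pow, one_mul] at h1
  rw [MulAut.one_apply]
  exact (mul_inv_cancel_left p (α p)).symm.trans h1.symm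

namespace Frame

variable {G : Type*} [Group G] [Finite G] (F : Frame G)

/-- Conjugation on the Sylow subgroup, in coordinates. -/
noncomputable def conjAut : normalizer ((F.T : Subgroup G) : Set G) →* MulAut H4 :=
  (MulAut.congr F.e.symm).toMonoidHom.comp (F.T : Subgroup G).normalizerMonoidHom

theorem hom_conjAut (n : normalizer ((F.T : Subgroup G) : Set G)) (p : H4) :
    F.hom (F.conjAut n p) = (n : G) * F.hom p * (n : G)⁻¹ := by
  show ((F.e (F.e.symm ((F.T : Subgroup G).normalizerMonoidHom n (F.e p))) : (F.T : Subgroup G)) : G) = _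
  rw [MulEquiv.apply_symm_apply]
  rfl

theorem scalar {n : G} (hn : n ∈ normalizer ((F.T : Subgroup G) : Set G)) (ho : Odd (orderOf n)) :
    ∃ l m : V, l ≠ 0 ∧ m ≠ 0 ∧
      (∀ p, ∃ d, n * F.hom p * n⁻¹ = F.hom ⟨fm l p.a, fm m p.b, d⟩) ∧
      (∀ c, n * F.hom ⟨0, 0, c⟩ * n⁻¹ = F.hom ⟨0, 0, fm (fm l m) c⟩) ∧
      (l = (1, 0) → m = (1, 0) → n ∈ centralizer ((F.T : Subgroup G) : Set G)) := by
  set α := F.conjAut ⟨n, hn⟩ with hα
  have hαo : Odd (orderOf α) :=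
    ho.of_dvd_nat ((orderOf_map_dvd F.conjAut ⟨n, hn⟩).trans (by rw [← Subgroup.orderOf_coe]))
  obtain ⟨l, m, hl, hm, hlm, hc⟩ := aut_scalar α hαo
    (fun p hp => F.hom_mem_A.1 (by
      rw [hα, F.hom_conjAut]
      exact (mem_normalizer_iff.1 (F.N_T_le_A hn) _).1 (F.hom_mem_A.2 hp)))
    (fun p hp => F.hom_mem_B.1 (by
      rw [hα, F.hom_conjAut]
      exact (mem_normalizer_iff.1 (F.N_T_le_B hn) _).1 (F.hom_mem_B.2 hp)))
  refine ⟨l, m, hl, hm, fun p => ⟨(α p).c, ?_⟩, fun c => ?_, fun h1 h2 => ?_⟩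
  · show _ = F.hom _
    rw [← (hlm p).1, ← (hlm p).2]
    exact (F.hom_conjAut ⟨n, hn⟩ p).symm
  · rw [← hc]; exact (F.hom_conjAut ⟨n, hn⟩ _).symm
  · have h := aut_eq_one α hαo (fun p => by rw [(hlm p).1, (hlm p).2, h1, h2, fm_one, fm_one]; exact ⟨rfl, rfl⟩)
      (fun c => by rw [hc, h1, h2, fm_one, fm_one])
    refine mem_centralizer_iff.2 fun t ht => ?_
    obtain ⟨p, rfl⟩ := F.exists_of_mem ht
    have e := F.hom_conjAut ⟨n, hn⟩ p
    rw [← hα, h, MulAut.one_apply] at e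
    exact mul_inv_eq_iff_eq_mul.1 e.symm |>.symm

end Frame

end CfsgLib.Invol.L34Type
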