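import Cfsg.Agent.Lib.Invol.L34Type.CentralZ

/-!
# The two sides: fusion into the centre and factorised centralisers
-/

set_option autoImplicit false
set_option linter.unusedSectionVars false
set_option linter.style.haveILetI false

namespace CfsgLib.Invol.L34Type

open Subgroup
open CfsgLib.Invol
open CfsgLib.Invol.HeisFour (V fm H4)
open CfsgLib.Coprime (conjBy mem_conjBy conjBy_eq_self_iff)
open CfsgLib.ProdFusion (OC OC_le le_OC odd_card_OC le_normalizer_OC le_normalizer_OC_self)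
open CfsgLib.Invol.EightTypeThree (Nice decomp_in)

universe u

variable {G : Type u} [Group G] [Finite G]

/-- the two-part of an element -/
theorem exists_two_odd (g : G) : ∃ a m : ℕ, Odd m ∧ orderOf g = 2 ^ a * m ∧ IsPGroup 2 (zpowers (g ^ m)) ∧
    Odd (orderOf (g ^ 2 ^ a)) ∧ g ∈ zpowers (g ^ m) ⊔ zpowers (g ^ 2 ^ a) := by
  haveI : Fact (Nat.Prime 2) := ⟨Nat.prime_two⟩
  obtain ⟨a, m, hm, hord⟩ := Nat.exists_eq_two_pow_mul_odd (orderOf_pos g).ne'
  refine ⟨a, m, hm, hord, IsPGroup.of_card (n := a) ?_, ?_, ?_⟩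
  · rw [Nat.card_zpowers, orderOf_pow_of_dvd hm.pos.ne' (hord ▸ dvd_mul_left m _), hord,
      Nat.mul_div_cancel _ hm.pos]
  · rw [orderOf_pow_of_dvd (by positivity) (hord ▸ dvd_mul_right _ m), hord,
      Nat.mul_div_cancel_left _ (by positivity)]
    exact hm
  · have hcop : Nat.Coprime (2 ^ a) m := ((Nat.coprime_two_left).2 hm).pow_left a
    have hb := Nat.gcd_eq_gcd_ab (2 ^ a) m
    rw [hcop] at hb
    have e : g = (g ^ 2 ^ a) ^ Nat.gcdA (2 ^ a) m * (g ^ m) ^ Nat.gcdB (2 ^ a) m := by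
      rw [← zpow_natCast, ← zpow_natCast g m, ← zpow_mul, ← zpow_mul, ← zpow_add, ← hb, Nat.cast_one, zpow_one]
    exact Eq.mpr (congrArg (· ∈ zpowers (g ^ m) ⊔ zpowers (g ^ 2 ^ a)) e)
      (mul_mem (mem_sup_right (Subgroup.zpow_mem _ (mem_zpowers _) _))
        (mem_sup_left (Subgroup.zpow_mem _ (mem_zpowers _) _)))

/-- an element is in a subgroup containing its two-part and its odd part -/
theorem mem_of_parts {g : G} {K : Subgroup G}
    (h2 : ∀ m : ℕ, IsPGroup 2 (zpowers (g ^ m)) → g ^ m ∈ K)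
    (h1 : ∀ k : ℕ, Odd (orderOf (g ^ k)) → g ^ k ∈ K) : g ∈ K := by
  obtain ⟨a, m, -, -, hp, ho, hg⟩ := exists_two_odd g
  exact (sup_le (zpowers_le.2 (h2 m hp)) (zpowers_le.2 (h1 _ ho))) hg

namespace Frame

variable (F : Frame G)

/-- `Z` is not invariant under the normaliser of `A` -/
def Alpha : Prop := ¬ normalizer (F.A : Set G) ≤ normalizer (F.Z : Set G)

/-- an odd element normalising `T`, fixing `A` modulo `Z` and moving `Z` -/
def Bad : Prop :=
  ∃ h ∈ normalizer ((F.T : Subgroup G) : Set G), Odd (orderOf h) ∧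
    (∀ p, ∃ q, h * F.hom p * h⁻¹ = F.hom q ∧ q.a = p.a) ∧ ∃ z ∈ F.Z, ¬ Commute h z

/-- every element of `A` is fused into `Z` -/
theorem exists_to_Z (hα : F.Alpha) {a : G} (ha : a ∈ F.A) :
    ∃ n ∈ normalizer (F.A : Set G), n * a * n⁻¹ ∈ F.Z := by
  by_cases haZ : a ∈ F.Z
  · exact ⟨1, one_mem _, by simpa using haZ⟩
  obtain ⟨n, hn, hnZ⟩ := SetLike.not_le_iff_exists.1 hα
  set Z' := conjBy n F.Z with hZ'
  have hZ'A : ∀ x ∈ F.Z, n * x * n⁻¹ ∈ F.A := fun x hx => (mem_normalizer_iff.1 hn x).1 (F.Z_le_A hx)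
  have hdis : ∀ y ∈ Z', y ∈ F.Z → y = 1 := by
    intro y hy hyZ
    by_contra hy1
    exact hnZ (conjBy_eq_self_iff.1 (F.conj_Z_eq hZ'A hyZ hy1 (mem_conjBy.1 hy)))
  have hZ'le : Z' ≤ F.A := by rintro _ ⟨x, hx, rfl⟩; exact hZ'A x hx
  have hco : ∀ y : Z', ∃ p : H4, p.b = 0 ∧ F.hom p = (y : G) := fun y => hZ'le y.2
  choose co hco0 hcoe using hco
  have hbij : Function.Bijective (fun y : Z' => (co y).a) := by
    refine (Nat.bijective_iff_injective_and_card _).2 ⟨fun y y' h => ?_, ?_⟩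
    · have h1 : ((y⁻¹ * y' : Z') : G) ∈ F.Z := by
        show (y : G)⁻¹ * y' ∈ F.Z
        rw [← hcoe, ← hcoe, ← map_inv, ← map_mul, F.hom_mem_Z, CfsgLib.Invol.HeisFour.inv_def,
          CfsgLib.Invol.HeisFour.mul_def]
        refine ⟨?_, ?_⟩
        · show (co y).b + (co y').b = 0
          rw [hco0, hco0, add_zero]
        · show (co y).a + (co y').a = 0
          rw [show (co y).a = (co y').a from h, CfsgLib.Invol.HeisFour.self_add]
      exact inv_mul_eq_one.1 (Subtype.ext (hdis _ (Z'.mul_mem (Z'.inv_mem y.2) y'.2) h1))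
    · rw [show Nat.card Z' = 4 from (card_map_of_injective (MulAut.conj n).injective).trans F.card_Z]
      simp
  obtain ⟨p, hp, rfl⟩ := ha
  obtain ⟨y, hy⟩ := hbij.2 p.a
  have hyZ : (y : G) ∉ F.Z := fun h => haZ (by
    have h1 := hdis _ y.2 h
    have h2 : (co y).a = 0 := by
      have := F.hom_injective ((hcoe y).trans (h1.trans (map_one F.hom).symm))
      rw [this]; rfl
    exact F.hom_mem_Z.2 ⟨hp, (show p.a = 0 from hy ▸ h2)⟩)
  have hz : (y : G)⁻¹ * F.hom p ∈ F.Z := by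
    rw [← hcoe, ← map_inv, ← map_mul, F.hom_mem_Z, CfsgLib.Invol.HeisFour.inv_def,
      CfsgLib.Invol.HeisFour.mul_def]
    refine ⟨?_, ?_⟩
    · show (co y).b + p.b = 0
      rw [hco0, show p.b = 0 from hp, add_zero]
    · show (co y).a + p.a = 0
      rw [← (show (co y).a = p.a from hy), CfsgLib.Invol.HeisFour.self_add]
  obtain ⟨t, ht, hte⟩ := F.exists_shift (hZ'le y.2) hyZ hz
  rw [mul_inv_cancel_left] at hte
  refine ⟨(t * n)⁻¹, inv_mem (mul_mem (F.T_le_normalizer_A ht) hn), ?_⟩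
  rw [← hte, show (t * n)⁻¹ * (t * y * t⁻¹) * (t * n)⁻¹⁻¹ = n⁻¹ * y * n by group]
  exact mem_conjBy.1 y.2

theorem cent_A_decomp {n : G} (hn : n ∈ centralizer (F.A : Set G)) :
    ∃ c ∈ F.A, ∃ d ∈ OC (centralizer (F.A : Set G)), n = c * d := by
  haveI : Fact (Nat.Prime 2) := ⟨Nat.prime_two⟩
  have hAc : F.A ≤ centralizer (F.A : Set G) := fun a ha => mem_centralizer_iff.2 fun b hb => F.comm_A hb ha
  refine decomp_in hAc (F.T.2.to_le F.A_le) ?_ (fun n hn _ => hn) hn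
  obtain ⟨a, ha, haZ⟩ := F.exists_A_not_Z
  intro h2
  set C := centralizer (F.A : Set G)
  have hEc : Nat.card (F.A.subgroupOf C) = 2 ^ 4 := by
    rw [Nat.card_congr (subgroupOfEquivOfLe hAc).toEquiv, F.card_A]; rfl
  have hdvd : 2 ^ (4 + 1) ∣ Nat.card C := by
    rw [← (F.A.subgroupOf C).card_mul_index, hEc, pow_succ]
    exact mul_dvd_mul_left _ h2
  obtain ⟨K, hK, hEK⟩ := Sylow.exists_subgroup_card_pow_succ hdvd hEc
  set K' := K.map C.subtype with hK'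
  have hK'c : Nat.card K' = 32 := by
    rw [hK', card_map_of_injective C.subtype_injective, hK]; norm_num
  obtain ⟨g, hg⟩ := exists_conj_le_sylow (IsPGroup.of_card (n := 5) (by rw [hK'c]; norm_num) : IsPGroup 2 K') F.T
  have hgN : g ∈ normalizer (F.A : Set G) :=
    F.conj_into fun x hx => hg x ⟨⟨x, hAc hx⟩, hEK hx, rfl⟩
  have hle : conjBy g K' ≤ F.A := by
    rintro _ ⟨k, hk, rfl⟩
    obtain ⟨⟨k, hkC⟩, hkK, rfl⟩ := hk
    refine F.mem_A_of_commute ha haZ (hg k ⟨⟨k, hkC⟩, hkK, rfl⟩) ?_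
    have h := mem_centralizer_iff.1
      ((mem_normalizer_iff.1 (CfsgLib.Coprime.normalizer_le_normalizer_centralizer _ hgN) k).1 hkC) a ha
    exact h.symm
  have := Nat.le_of_dvd Nat.card_pos (card_dvd_of_le hle)
  rw [conjBy, card_map_of_injective (MulAut.conj g).injective, hK'c, F.card_A] at this
  omega

/-- the kernel of the action of `N(A)` on `Z` and on `A` modulo `Z` -/
theorem shift_mem_cent_mul_T {k : G} (hk : k ∈ normalizer (F.A : Set G))
    (hkZ : k ∈ centralizer (F.Z : Set G)) (hkA : ∀ a ∈ F.A, a⁻¹ * (k * a * k⁻¹) ∈ F.Z) :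
    ∃ c ∈ centralizer (F.A : Set G), ∃ t ∈ (F.T : Subgroup G), k = c * t := by
  haveI : Fact (Nat.Prime 2) := ⟨Nat.prime_two⟩
  set C := centralizer (F.A : Set G) with hC
  set R := C ⊔ (F.T : Subgroup G) with hR
  have hTC : (F.T : Subgroup G) ≤ normalizer (C : Set G) :=
    F.T_le_normalizer_A.trans (CfsgLib.Coprime.normalizer_le_normalizer_centralizer _)
  -- elements shifting `A` along `Z`
  let K : Subgroup G :=
    { carrier := {g | g ∈ normalizer (F.A : Set G) ∧ g ∈ centralizer (F.Z : Set G) ∧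
        ∀ a ∈ F.A, a⁻¹ * (g * a * g⁻¹) ∈ F.Z}
      one_mem' := ⟨one_mem _, one_mem _, fun a _ => by simp⟩
      mul_mem' := by
        rintro g g' ⟨h1, h2, h3⟩ ⟨h1', h2', h3'⟩
        refine ⟨mul_mem h1 h1', mul_mem h2 h2', fun a ha => ?_⟩
        have hb : g' * a * g'⁻¹ ∈ F.A := (mem_normalizer_iff.1 h1' a).1 ha
        rw [show a⁻¹ * (g * g' * a * (g * g')⁻¹) =
          a⁻¹ * (g' * a * g'⁻¹) * ((g' * a * g'⁻¹)⁻¹ * (g * (g' * a * g'⁻¹) * g⁻¹)) by group]
        exact F.Z.mul_mem (h3' a ha) (h3 _ hb)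
      inv_mem' := by
        rintro g ⟨h1, h2, h3⟩
        refine ⟨inv_mem h1, inv_mem h2, fun a ha => ?_⟩
        have hb : g⁻¹ * a * g ∈ F.A := by simpa using (mem_normalizer_iff.1 (inv_mem h1) a).1 ha
        have h4 := h3 _ hb
        rw [show (g⁻¹ * a * g)⁻¹ * (g * (g⁻¹ * a * g) * g⁻¹) = (g⁻¹ * a * g)⁻¹ * a by group] at h4
        have h5 := F.Z.inv_mem h4
        rwa [show ((g⁻¹ * a * g)⁻¹ * a)⁻¹ = a⁻¹ * (g⁻¹ * a * g⁻¹⁻¹) by group] at h5 }
  have hTK : (F.T : Subgroup G) ≤ K := by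
    intro t ht
    refine ⟨F.T_le_normalizer_A ht, mem_centralizer_iff.2 fun z hz => (F.Z_central hz ht).symm, fun a ha => ?_⟩
    obtain ⟨p, hp, rfl⟩ := ha
    obtain ⟨q, rfl⟩ := F.exists_of_mem ht
    rw [F.hom_conj, conj_subA p hp, ← map_inv, ← map_mul, F.hom_mem_Z, CfsgLib.Invol.HeisFour.inv_def,
      CfsgLib.Invol.HeisFour.mul_def]
    refine ⟨?_, ?_⟩
    · show p.b + 0 = 0
      rw [show p.b = 0 from hp, add_zero]
    · show p.a + p.a = 0
      exact CfsgLib.Invol.HeisFour.self_add _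
  have hsq : ∀ g ∈ K, g * g ∈ C := by
    rintro g ⟨-, h2, h3⟩
    refine mem_centralizer_iff.2 fun a ha => (mul_inv_eq_iff_eq_mul.1 ?_).symm
    set ζ := a⁻¹ * (g * a * g⁻¹) with hζ
    have hζZ : ζ ∈ F.Z := h3 a ha
    calc g * g * a * (g * g)⁻¹ = g * (a * ζ) * g⁻¹ := by rw [hζ]; group
      _ = g * a * g⁻¹ * (g * ζ * g⁻¹) := by group
      _ = a * ζ * ζ := by
        rw [show g * a * g⁻¹ = a * ζ by rw [hζ, mul_inv_cancel_left], ← mem_centralizer_iff.1 h2 ζ hζZ,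
          mul_inv_cancel_right]
      _ = a := by rw [mul_assoc, F.sq_of_mem (F.Z_le_A hζZ), mul_one]
  have hkK : k ∈ K := ⟨hk, hkZ, hkA⟩
  have hkR : k ∈ R := by
    refine mem_of_parts (fun m hp => ?_) fun j ho => ?_
    · have hwK : k ^ m ∈ K := pow_mem hkK m
      obtain ⟨c, hc, hcr⟩ := exists_conj_into F.T.2 F.not_dvd_index hTK (zpowers_le.2 hwK) hp
      have hcomm : ∀ x y : G, x ∈ K → y ∈ K → x * y * x⁻¹ * y⁻¹ ∈ C := by
        rintro x y ⟨hx1, hx2, hx3⟩ ⟨hy1, hy2, hy3⟩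
        refine mem_centralizer_iff.2 fun a ha => (mul_inv_eq_iff_eq_mul.1 ?_).symm
        have act : ∀ g : G, g ∈ centralizer (F.Z : Set G) → ∀ ζ ∈ F.Z, g * ζ * g⁻¹ = ζ := fun g hg ζ hζ => by
          rw [← mem_centralizer_iff.1 hg ζ hζ, mul_inv_cancel_right]
        set u := a⁻¹ * (x⁻¹ * a * x⁻¹⁻¹) with hu
        set v := a⁻¹ * (y⁻¹ * a * y⁻¹⁻¹) with hv
        have huZ : u ∈ F.Z := (K.inv_mem ⟨hx1, hx2, hx3⟩).2.2 a ha
        have hvZ : v ∈ F.Z := (K.inv_mem ⟨hy1, hy2, hy3⟩).2.2 a ha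
        have e1 : ∀ ζ ∈ F.Z, x⁻¹ * ζ * x⁻¹⁻¹ = ζ := act _ (inv_mem hx2)
        have e2 : ∀ ζ ∈ F.Z, y⁻¹ * ζ * y⁻¹⁻¹ = ζ := act _ (inv_mem hy2)
        have e3 : x * a * x⁻¹ = a * u := by
          have h := act x hx2 u huZ
          calc x * a * x⁻¹ = (x * (a * u) * x⁻¹) * (x * u * x⁻¹)⁻¹ := by group
            _ = a * u := by
              rw [h, inv_eq_of_mul_eq_one_right (F.sq_of_mem (F.Z_le_A huZ)), hu]; group
        have e4 : y * a * y⁻¹ = a * v := by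
          have h := act y hy2 v hvZ
          calc y * a * y⁻¹ = (y * (a * v) * y⁻¹) * (y * v * y⁻¹)⁻¹ := by group
            _ = a * v := by
              rw [h, inv_eq_of_mul_eq_one_right (F.sq_of_mem (F.Z_le_A hvZ)), hv]; group
        calc x * y * x⁻¹ * y⁻¹ * a * (x * y * x⁻¹ * y⁻¹)⁻¹
            = x * (y * (x⁻¹ * (y⁻¹ * a * y⁻¹⁻¹) * x⁻¹⁻¹) * y⁻¹) * x⁻¹ := by group
          _ = x * (y * (x⁻¹ * (a * v) * x⁻¹⁻¹) * y⁻¹) * x⁻¹ := by rw [hv, mul_inv_cancel_left]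
          _ = x * (y * ((x⁻¹ * a * x⁻¹⁻¹) * (x⁻¹ * v * x⁻¹⁻¹)) * y⁻¹) * x⁻¹ := by group
          _ = x * (y * (a * u * v) * y⁻¹) * x⁻¹ := by rw [e1 v hvZ, hu, mul_inv_cancel_left]
          _ = (x * (y * a * y⁻¹) * x⁻¹) * (x * (y * u * y⁻¹) * x⁻¹) * (x * (y * v * y⁻¹) * x⁻¹) := by group
          _ = (x * a * x⁻¹) * (x * v * x⁻¹) * u * v := by
            rw [act y hy2 u huZ, act y hy2 v hvZ, act x hx2 u huZ, act x hx2 v hvZ, e4,
              show x * (a * v) * x⁻¹ = (x * a * x⁻¹) * (x * v * x⁻¹) by group, act x hx2 v hvZ]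
          _ = a := by
            rw [e3, act x hx2 v hvZ, show a * u * v * u * v = a * ((u * v) * (u * v)) by group,
              F.sq_of_mem (F.A.mul_mem (F.Z_le_A huZ) (F.Z_le_A hvZ)), mul_one]
      have h1 : c * k ^ m * c⁻¹ * (k ^ m)⁻¹ ∈ C := hcomm _ _ hc hwK
      have e : k ^ m = (c * k ^ m * c⁻¹ * (k ^ m)⁻¹)⁻¹ * (c * k ^ m * c⁻¹) := by group
      rw [e]
      exact mul_mem (mem_sup_left (inv_mem h1)) (mem_sup_right (hcr _ (mem_zpowers _)))
    · obtain ⟨i, hi⟩ := ho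
      have e : k ^ j = ((k ^ j) * (k ^ j)) ^ (i + 1) := by
        rw [← pow_two, ← pow_mul, show 2 * (i + 1) = (2 * i + 1) + 1 by ring, pow_succ, ← hi, pow_orderOf_eq_one,
          one_mul]
      rw [e]
      exact mem_sup_left (pow_mem (hsq _ (pow_mem hkK j)) _)
  rw [← SetLike.mem_coe, hR, coe_mul_of_right_le_normalizer_left C (F.T : Subgroup G) hTC, Set.mem_mul] at hkR
  obtain ⟨c, hc, t, ht, he⟩ := hkR
  exact ⟨c, hc, t, ht, he.symm⟩

/-- the stabiliser of `Z` in `N(A)` -/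
theorem normA_decomp {n : G} (hnA : n ∈ normalizer (F.A : Set G)) (hnZ : n ∈ normalizer (F.Z : Set G)) :
    ∃ c ∈ centralizer (F.A : Set G), ∃ m ∈ normalizer ((F.T : Subgroup G) : Set G), n = c * m := by
  have key : ∀ t ∈ (F.T : Subgroup G), ∃ c ∈ centralizer (F.A : Set G), ∃ s ∈ (F.T : Subgroup G),
      n * t * n⁻¹ = c * s := by
    intro t ht
    refine F.shift_mem_cent_mul_T (mul_mem (mul_mem hnA (F.T_le_normalizer_A ht)) (inv_mem hnA)) ?_ fun a ha => ?_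
    · refine mem_centralizer_iff.2 fun z hz => ?_
      have hz' : n⁻¹ * z * n ∈ F.Z := by simpa using (mem_normalizer_iff.1 (inv_mem hnZ) z).1 hz
      calc z * (n * t * n⁻¹) = n * ((n⁻¹ * z * n) * t) * n⁻¹ := by group
        _ = n * (t * (n⁻¹ * z * n)) * n⁻¹ := by rw [← F.Z_central hz' ht]
        _ = n * t * n⁻¹ * z := by group
    · have ha' : n⁻¹ * a * n ∈ F.A := by simpa using (mem_normalizer_iff.1 (inv_mem hnA) a).1 ha
      obtain ⟨p, hp, hpe⟩ := ha'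
      obtain ⟨q, rfl⟩ := F.exists_of_mem ht
      have h1 : (n⁻¹ * a * n)⁻¹ * (F.hom q * (n⁻¹ * a * n) * (F.hom q)⁻¹) ∈ F.Z := by
        rw [← hpe, F.hom_conj, conj_subA p hp, ← map_inv, ← map_mul, F.hom_mem_Z,
          CfsgLib.Invol.HeisFour.inv_def, CfsgLib.Invol.HeisFour.mul_def]
        refine ⟨?_, ?_⟩
        · show p.b + 0 = 0
          rw [show p.b = 0 from hp, add_zero]
        · show p.a + p.a = 0
          exact CfsgLib.Invol.HeisFour.self_add _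
      have h2 := (mem_normalizer_iff.1 hnZ _).1 h1
      rwa [show n * ((n⁻¹ * a * n)⁻¹ * (F.hom q * (n⁻¹ * a * n) * (F.hom q)⁻¹)) * n⁻¹ =
        a⁻¹ * (n * F.hom q * n⁻¹ * a * (n * F.hom q * n⁻¹)⁻¹) by group] at h2
  set C := centralizer (F.A : Set G) with hC
  set R := C ⊔ (F.T : Subgroup G) with hR
  haveI : Fact (Nat.Prime 2) := ⟨Nat.prime_two⟩
  have hconj : conjBy n (F.T : Subgroup G) ≤ R := by
    rintro _ ⟨t, ht, rfl⟩
    obtain ⟨c, hc, s, hs, he⟩ := key t ht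
    show n * t * n⁻¹ ∈ R
    rw [he]
    exact mul_mem (mem_sup_left hc) (mem_sup_right hs)
  obtain ⟨r, hr, hrT⟩ := exists_conj_into F.T.2 F.not_dvd_index le_sup_right hconj (F.T.2.map _)
  have hrn : r * n ∈ normalizer ((F.T : Subgroup G) : Set G) :=
    CfsgLib.ProdFusion.mem_of_forall_conj_mem fun t ht => by
      rw [show r * n * t * (r * n)⁻¹ = r * (n * t * n⁻¹) * r⁻¹ by group]
      exact hrT _ ⟨t, ht, rfl⟩
  have hTC : (F.T : Subgroup G) ≤ normalizer (C : Set G) :=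
    F.T_le_normalizer_A.trans (CfsgLib.Coprime.normalizer_le_normalizer_centralizer _)
  rw [← SetLike.mem_coe, coe_mul_of_right_le_normalizer_left C (F.T : Subgroup G) hTC, Set.mem_mul] at hr
  obtain ⟨c, hc, s, hs, he⟩ := hr
  refine ⟨s⁻¹ * c⁻¹ * s, ?_, s⁻¹ * (r * n), mul_mem (inv_mem (le_normalizer hs)) hrn, ?_⟩
  · simpa using (mem_normalizer_iff.1 (hTC (inv_mem hs)) c⁻¹).1 (inv_mem hc)
  · rw [← he]; group

/-- elements of the centre have factorised centralisers -/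
theorem nice_Z {z : G} (hz : z ∈ F.Z) (hz1 : z ≠ 1) : Nice F.A z := by
  intro g hg
  obtain ⟨o, ho, n, hn, e⟩ := F.cz_factor hz hz1 hg
  exact ⟨o, ho, n, ⟨F.N_T_le_A hn.1, hn.2⟩, e⟩

/-- an element outside `Z` not fused into it has `A` as Sylow subgroup of its centraliser -/
theorem sylow_of_unfused {t : G} (ht : t ∈ F.A) (hu : ∀ n ∈ normalizer (F.A : Set G), n * t * n⁻¹ ∉ F.Z) :
    ¬ 2 ∣ (F.A.subgroupOf (centralizer ({t} : Set G))).index :=
  (F.fused_or_sylow ht).resolve_left fun ⟨n, hn, h⟩ => hu n hn h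

theorem unfused_of_not_alpha (hα : ¬ F.Alpha) {t : G} (ht : t ∈ F.A) (htZ : t ∉ F.Z) :
    ∀ n ∈ normalizer (F.A : Set G), n * t * n⁻¹ ∉ F.Z := fun n _ h =>
  htZ (F.mem_Z_of_fused (not_not.1 hα) ht h)

/-- two-elements of `N(A) ∩ C(t)` centralise `A` -/
theorem two_elem_cent {t w : G} (ht : t ∈ F.A) (hu : ∀ n ∈ normalizer (F.A : Set G), n * t * n⁻¹ ∉ F.Z)
    (hw : w ∈ normalizer (F.A : Set G)) (hwt : Commute w t) (hp : IsPGroup 2 (zpowers w)) :
    w ∈ centralizer (F.A : Set G) := by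
  haveI : Fact (Nat.Prime 2) := ⟨Nat.prime_two⟩
  set N := normalizer (F.A : Set G) ⊓ centralizer ({t} : Set G) with hN
  have hAN : F.A ≤ N := le_inf le_normalizer (F.A_le_centralizer ht)
  have hid : ¬ 2 ∣ (F.A.subgroupOf N).index := fun h =>
    F.sylow_of_unfused ht hu (h.trans (by
      show F.A.relIndex N ∣ F.A.relIndex (centralizer ({t} : Set G))
      rw [← relIndex_mul_relIndex F.A N _ hAN inf_le_right]
      exact dvd_mul_right _ _))
  obtain ⟨c, hc⟩ := exists_conj_le_sylow (hp.of_equiv (subgroupOfEquivOfLe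
    (zpowers_le.2 (show w ∈ N from ⟨hw, mem_centralizer_singleton_iff.2 hwt.eq⟩))).symm)
    (((F.T.2.to_le F.A_le).of_equiv (subgroupOfEquivOfLe hAN).symm).toSylow hid)
  have h1 : (c : G) * w * (c : G)⁻¹ ∈ F.A := hc ⟨w, ⟨hw, mem_centralizer_singleton_iff.2 hwt.eq⟩⟩ (mem_zpowers w)
  have h2 : w ∈ F.A := (mem_normalizer_iff.1 c.2.1 w).2 h1
  exact mem_centralizer_iff.2 fun a ha => F.comm_A ha h2

/-- **all elements of a side are nice** unless it is bad -/
theorem nice_all (h : F.Alpha ∨ ¬ F.Bad) {a : G} (ha : a ∈ F.A) (ha1 : a ≠ 1) : Nice F.A a := by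
  by_cases haZ : a ∈ F.Z
  · exact F.nice_Z haZ ha1
  by_cases hα : F.Alpha
  · obtain ⟨n, hn, hnZ⟩ := F.exists_to_Z hα ha
    have h1 := CfsgLib.Invol.EightTypeThree.Nice.conj (inv_mem hn)
      (F.nice_Z hnZ fun e => ha1 (conj_eq_one_iff.1 e))
    rwa [show n⁻¹ * (n * a * n⁻¹) * n⁻¹⁻¹ = a by group] at h1
  have hbad : ¬ F.Bad := h.resolve_left hα
  have hu := F.unfused_of_not_alpha hα ha haZ
  intro g hg
  have hAC : F.A ≤ centralizer ({a} : Set G) := F.A_le_centralizer ha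
  obtain ⟨c, hc, d, hd, rfl⟩ := decomp_in hAC (F.T.2.to_le F.A_le) (F.sylow_of_unfused ha hu) (fun n hnC hnA => by
    refine mem_of_parts (fun m hp => F.two_elem_cent ha hu (pow_mem hnA m)
      (Commute.pow_left (mem_centralizer_singleton_iff.1 hnC) m) hp) fun k hk => ?_
    set x := n ^ k with hx
    have hxA : x ∈ normalizer (F.A : Set G) := pow_mem hnA k
    have hxa : Commute x a := Commute.pow_left (mem_centralizer_singleton_iff.1 hnC) k
    obtain ⟨c, hc, m, hm, hxe⟩ := F.normA_decomp hxA ((not_not.1 hα) hxA)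
    have hma : Commute m a := by
      have e : m = c⁻¹ * x := by rw [hxe, inv_mul_cancel_left]
      rw [e]
      exact ((show Commute c a from (mem_centralizer_iff.1 hc a ha).symm).inv_left).mul_left hxa
    rw [hxe]
    refine mul_mem hc (mem_of_parts (fun j hp => F.two_elem_cent ha hu (pow_mem (F.N_T_le_A hm) j)
      (hma.pow_left j) hp) fun j ho => ?_)
    obtain ⟨l, r, hl, hr, hlr, hcr, hcent⟩ := F.scalar (pow_mem hm j) ho
    obtain ⟨p, hp, hpa⟩ := ha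
    have hla : fm l p.a = p.a := by
      obtain ⟨d, hd⟩ := hlr p
      rw [hpa, (hma.pow_left j).eq, mul_inv_cancel_right, ← hpa] at hd
      exact (congrArg H4.a (F.hom_injective hd)).symm
    have hl1 : l = (1, 0) := scalar_one l p.a hla fun e => haZ (hpa ▸ F.hom_mem_Z.2 ⟨hp, e⟩)
    have hr1 : r = (1, 0) := by
      by_contra hr1
      refine hbad ⟨m ^ j, pow_mem hm j, ho, fun q => ?_, F.hom ⟨0, 0, (1, 0)⟩, F.hom_mem_Z.2 ⟨rfl, rfl⟩, ?_⟩
      · obtain ⟨d, hd⟩ := hlr q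
        exact ⟨_, hd, by rw [hl1, fm_one]⟩
      · intro hcom
        have h1 := hcr (1, 0)
        rw [hcom.eq, mul_inv_cancel_right, hl1, fm_one, fm_one_right] at h1
        exact hr1 (congrArg H4.c (F.hom_injective h1)).symm
    exact centralizer_le F.A_le (hcent hl1 hr1)) hg
  refine ⟨c * d * c⁻¹, ?_, c, ⟨le_normalizer hc, hAC hc⟩, by group⟩
  exact (mem_normalizer_iff.1 (le_normalizer_OC_self _ (hAC hc)) d).1 hd

end Frame

end CfsgLib.Invol.L34Type
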